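import Cfsg.Agent.BrauerOrderP.Structure

/-!
Pairs of conjugates of an involution whose product lies in a coset of the complement of a Sylow subgroup
of order `p` in its centraliser: their number is `p` times a square.
-/

set_option autoImplicit false
set_option linter.style.haveILetI false
set_option linter.unusedSectionVars false

namespace CfsgLib.MTwentyTwoUnique

open Cfsg CfsgLib.Characters CfsgLib.DefectOne CfsgLib.BrauerOrderP
open scoped ComplexConjugate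

universe u

variable {G : Type u} [Group G] [Fintype G] {p : ℕ} [Fact p.Prime] (L : Local p G)

theorem sq_eq_one_of_isConj {t x : G} (ht : orderOf t = 2) (h : IsConj t x) :
    x * x = 1 ∧ x ≠ 1 := by
  obtain ⟨g, rfl⟩ := isConj_iff.1 h
  refine ⟨?_, fun e => ?_⟩
  · calc g * t * g⁻¹ * (g * t * g⁻¹) = g * (t * t) * g⁻¹ := by group
      _ = 1 := by rw [← pow_two, ← ht, pow_orderOf_eq_one]; group
  · rw [conj_eq_one_iff.1 e, orderOf_one] at ht
    omega

/-- The `P`-coordinate of a product of two conjugates of an involution. -/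
theorem inverts_of_mul_mem {x x' u k : G} (hx : x * x = 1) (hx' : x' * x' = 1)
    (hu : u ∈ (L.P : Subgroup G)) (hk : k ∈ L.K) (h : x * x' = u * k) :
    x * u * x⁻¹ = u⁻¹ := by
  obtain ⟨a, ha, ha'⟩ := L.exists_exponent
  have e1 : u ^ 1 = (u * k) ^ a := by rw [L.pow_exponent ha ha' hu hk, pow_one]
  have e2 : x * (x * x') * x⁻¹ = (x * x')⁻¹ := by
    rw [mul_inv_rev, inv_eq_of_mul_eq_one_right hx, inv_eq_of_mul_eq_one_right hx', ← mul_assoc x x,
      hx, one_mul]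
  rw [pow_one] at e1
  rw [e1, ← conj_pow, ← h, e2, inv_pow]

/-- Pairs of conjugates of `t` with product in `u K`. -/
def PairsIn (t u : G) : Type u :=
  {r : G × G // IsConj t r.1 ∧ IsConj t r.2 ∧ r.1⁻¹ * r.2 ∈ (fun k => u * k) '' (L.K : Set G)}

open Classical in
/-- **The number of pairs is `p` times a square**, the root at most `|K|` and zero for odd index. -/
theorem card_pairsIn {t u : G} (ht : orderOf t = 2) (hu : u ∈ (L.P : Subgroup G)) (hu1 : u ≠ 1)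
    (hp2 : p ≠ 2) :
    ∃ a : ℕ, a ≤ Nat.card L.K ∧ (Odd (e L) → a = 0) ∧ Nat.card (PairsIn L t u) = p * (a * a) := by
  have hp : p.Prime := Fact.out
  have hcard : Nat.card (L.P : Subgroup G) = p := L.card_P
  let I : Set G := {x | IsConj t x ∧ x * u * x⁻¹ = u⁻¹}
  have hpair : ∀ r : PairsIn L t u, r.1.1 ∈ I ∧ r.1.2 ∈ I := by
    rintro ⟨⟨x, x'⟩, hx, hx', k, hk, hxk⟩
    obtain ⟨hxx, -⟩ := sq_eq_one_of_isConj ht hx
    obtain ⟨hxx', -⟩ := sq_eq_one_of_isConj ht hx'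
    dsimp only at hxk
    rw [inv_eq_of_mul_eq_one_right hxx] at hxk
    have h1 := inverts_of_mul_mem L hxx hxx' hu hk hxk.symm
    refine ⟨⟨hx, h1⟩, hx', ?_⟩
    have h2 : x' = x * (u * k) := by rw [hxk, ← mul_assoc, hxx, one_mul]
    show x' * u * x'⁻¹ = u⁻¹
    rw [h2]
    calc x * (u * k) * u * (x * (u * k))⁻¹ = x * u * (k * u * k⁻¹) * u⁻¹ * x⁻¹ := by group
      _ = x * u * x⁻¹ := by
        rw [← (L.commute hu hk).eq]; group
      _ = u⁻¹ := h1
  by_cases hI : I.Nonempty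
  swap
  · refine ⟨0, Nat.zero_le _, fun _ => rfl, ?_⟩
    haveI : IsEmpty (PairsIn L t u) := ⟨fun r => hI ⟨_, (hpair r).1⟩⟩
    simp
  obtain ⟨x₀, hx₀, hx₀u⟩ := hI
  -- the coset of the centraliser
  have hmem : ∀ x ∈ I, x₀⁻¹ * x ∈ Subgroup.centralizer ((L.P : Subgroup G) : Set G) := by
    rintro x ⟨-, hx⟩
    rw [← L.centralizer_singleton hu hu1, Subgroup.mem_centralizer_singleton_iff]
    calc x₀⁻¹ * x * u = x₀⁻¹ * (x * u * x⁻¹) * x := by group
      _ = x₀⁻¹ * (x₀ * u * x₀⁻¹) * x := by rw [hx, hx₀u]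
      _ = u * (x₀⁻¹ * x) := by group
  choose π hπ κ hκ hdec using fun x : I => L.decomp _ (hmem x.1 x.2)
  -- conjugation by `P` shifts the coordinate
  have hinv : ∀ v ∈ (L.P : Subgroup G), x₀ * v * x₀⁻¹ = v⁻¹ := by
    intro v hv
    obtain ⟨i, rfl⟩ := Subgroup.mem_zpowers_iff.1
      ((show Subgroup.zpowers u = (L.P : Subgroup G) from Subgroup.eq_of_le_of_card_ge
        (Subgroup.zpowers_le.2 hu) (by rw [Nat.card_zpowers, L.orderOf_of_mem hu hu1, hcard])).ge hv)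
    rw [← conj_zpow, hx₀u, inv_zpow]
  have hshift : ∀ (x : I) (w : G), w ∈ (L.P : Subgroup G) →
      ∃ h : w * x.1 * w⁻¹ ∈ I, π ⟨_, h⟩ = π x * (w⁻¹ * w⁻¹) := by
    intro x w hw
    have hcw : ∀ v ∈ (L.P : Subgroup G), Commute v w := fun v hv => by
      haveI := L.isMulCommutative
      exact congrArg Subtype.val (mul_comm' (⟨v, hv⟩ : (L.P : Subgroup G)) ⟨w, hw⟩)
    have hkey : x₀⁻¹ * (w * x.1 * w⁻¹) = π x * (w⁻¹ * w⁻¹) * κ x := by
      have e1 : x₀⁻¹ * w * x₀ = w⁻¹ := by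
        have := hinv w⁻¹ (Subgroup.inv_mem _ hw)
        rw [inv_inv] at this
        calc x₀⁻¹ * w * x₀ = x₀⁻¹ * (x₀ * w⁻¹ * x₀⁻¹) * x₀ := by rw [this]
          _ = w⁻¹ := by group
      calc x₀⁻¹ * (w * x.1 * w⁻¹) = x₀⁻¹ * w * x₀ * (x₀⁻¹ * x.1) * w⁻¹ := by group
        _ = w⁻¹ * (π x * κ x) * w⁻¹ := by rw [e1, hdec x]
        _ = π x * w⁻¹ * (κ x * w⁻¹) := by
          rw [← mul_assoc w⁻¹ (π x), ← (hcw _ (hπ x)).inv_right.eq]; group
        _ = π x * w⁻¹ * (w⁻¹ * κ x) := by rw [(L.commute (Subgroup.inv_mem _ hw) (hκ x)).eq]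
        _ = π x * (w⁻¹ * w⁻¹) * κ x := by group
    have hI' : w * x.1 * w⁻¹ ∈ I := by
      refine ⟨x.2.1.trans (isConj_iff.2 ⟨w, rfl⟩), ?_⟩
      have hwu : w⁻¹ * u * w = u := by
        rw [mul_assoc, (hcw u hu).eq, ← mul_assoc, inv_mul_cancel, one_mul]
      calc w * x.1 * w⁻¹ * u * (w * x.1 * w⁻¹)⁻¹
          = w * (x.1 * (w⁻¹ * u * w) * x.1⁻¹) * w⁻¹ := by group
        _ = w * u⁻¹ * w⁻¹ := by rw [hwu, x.2.2]
        _ = u⁻¹ := by rw [← (hcw _ (Subgroup.inv_mem _ hu)).eq]; group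
    refine ⟨hI', ?_⟩
    refine (L.ext_mul (hπ _) (hκ ⟨_, hI'⟩) ?_ (hκ x) ((hdec ⟨_, hI'⟩).symm.trans hkey)).1
    exact Subgroup.mul_mem _ (hπ x) (Subgroup.mul_mem _ (Subgroup.inv_mem _ hw) (Subgroup.inv_mem _ hw))
  let F : ↥(L.P : Subgroup G) → Type u := fun v => {x : I // π x = v}
  have hsquare : ∀ v : (L.P : Subgroup G), ∃ w ∈ (L.P : Subgroup G), w⁻¹ * w⁻¹ = (v : G) := by
    intro v
    obtain ⟨j, hj⟩ := hp.odd_of_ne_two hp2
    refine ⟨((v : G) ^ (j + 1))⁻¹, Subgroup.inv_mem _ (Subgroup.pow_mem _ v.2 _), ?_⟩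
    rw [inv_inv, ← pow_add, show j + 1 + (j + 1) = p + 1 by omega, pow_succ, L.pow_p v.2, one_mul]
  have hfib : ∀ v : (L.P : Subgroup G), Nat.card (F 1) ≤ Nat.card (F v) ∧ Nat.card (F v) ≤ Nat.card (F 1) := by
    have hle : ∀ a b : (L.P : Subgroup G), Nat.card (F a) ≤ Nat.card (F b) := by
      intro a b
      obtain ⟨w, hw, hwv⟩ := hsquare (a⁻¹ * b)
      refine Nat.card_le_card_of_injective (fun x : F a =>
        (⟨⟨w * x.1.1 * w⁻¹, (hshift x.1 w hw).1⟩, ?_⟩ : F b)) ?_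
      · rw [(hshift x.1 w hw).2, x.2, hwv]
        simp
      · intro x y h
        have h1 := congrArg (fun z : F b => z.1.1) h
        exact Subtype.ext (Subtype.ext (mul_left_cancel (mul_right_cancel h1)))
    exact fun v => ⟨hle _ _, hle _ _⟩
  have hF : ∀ v, Nat.card (F v) = Nat.card (F 1) := fun v => le_antisymm (hfib v).2 (hfib v).1
  refine ⟨Nat.card (F 1), ?_, fun hodd => ?_, ?_⟩
  · refine Nat.card_le_card_of_injective (fun x : F 1 => (⟨κ x.1, hκ x.1⟩ : L.K)) fun x y h => ?_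
    refine Subtype.ext (Subtype.ext (mul_left_cancel (a := x₀⁻¹) ?_))
    rw [hdec x.1, hdec y.1, x.2, y.2, show κ x.1 = κ y.1 from congrArg Subtype.val h]
  · exfalso
    obtain ⟨hxx, -⟩ := sq_eq_one_of_isConj ht hx₀
    have hN : x₀ ∈ L.N := L.mem_N_of_conj hu hu1 (hx₀u ▸ Subgroup.inv_mem _ hu)
    set C := Subgroup.centralizer ((L.P : Subgroup G) : Set G)
    have hCN : C ≤ L.N := Subgroup.centralizer_le_normalizer _
    have hidx : (C.subgroupOf L.N).index = e L := by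
      have h1 := (C.subgroupOf L.N).index_mul_card
      rw [Nat.card_congr (Subgroup.subgroupOfEquivOfLe hCN).toEquiv, L.card_centralizer, ← card_N L] at h1
      exact Nat.eq_of_mul_eq_mul_right (mul_pos hp.pos Nat.card_pos) h1
    haveI : (C.subgroupOf L.N).Normal := Subgroup.normal_subgroupOf_iff hCN |>.2 fun c n hc hn =>
      L.conj_mem_centralizer hn hc
    have hmem0 := Subgroup.pow_index_mem (C.subgroupOf L.N) (⟨x₀, hN⟩ : L.N)
    rw [hidx, Subgroup.mem_subgroupOf] at hmem0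
    obtain ⟨j, hj⟩ := hodd
    rw [SubmonoidClass.coe_pow, hj, pow_succ, pow_mul, pow_two, hxx, one_pow, one_mul] at hmem0
    have hcomm := Subgroup.mem_centralizer_iff.1 hmem0 u hu
    rw [show x₀ * u * x₀⁻¹ = u by rw [← hcomm]; group] at hx₀u
    have h2 : orderOf u = 2 := orderOf_eq_prime
      (by rw [pow_two]; nth_rw 2 [hx₀u]; exact mul_inv_cancel u) hu1
    exact hp2 ((L.orderOf_of_mem hu hu1).symm.trans h2)
  · have e : PairsIn L t u ≃ Σ v : (L.P : Subgroup G), F v × F (v * ⟨u, hu⟩) := by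
      refine
        { toFun := fun r => ⟨⟨π ⟨r.1.1, (hpair r).1⟩, hπ _⟩, ⟨⟨_, (hpair r).1⟩, rfl⟩,
            ⟨⟨_, (hpair r).2⟩, ?_⟩⟩
          invFun := fun s => ⟨(s.2.1.1.1, s.2.2.1.1), s.2.1.1.2.1, s.2.2.1.2.1, ?_⟩
          left_inv := fun r => rfl
          right_inv := ?_ }
      · obtain ⟨⟨x, x'⟩, hx, hx', k, hk, hxk⟩ := r
        have hI1 := (hpair ⟨(x, x'), hx, hx', k, hk, hxk⟩).1
        have hI2 := (hpair ⟨(x, x'), hx, hx', k, hk, hxk⟩).2
        show π ⟨x', hI2⟩ = π ⟨x, hI1⟩ * u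
        refine (L.ext_mul (hπ _) (hκ _) (Subgroup.mul_mem _ (hπ _) hu)
          (Subgroup.mul_mem _ (hκ ⟨x, hI1⟩) hk) ((hdec ⟨x', hI2⟩).symm.trans ?_)).1
        dsimp only at hxk ⊢
        rw [show x₀⁻¹ * x' = x₀⁻¹ * x * (x⁻¹ * x') by group, ← hxk, hdec ⟨x, hI1⟩,
          mul_assoc (π _), ← mul_assoc (κ _), ← (L.commute hu (hκ _)).eq]
        group
      · obtain ⟨v, x, x'⟩ := s
        refine ⟨(κ x.1)⁻¹ * κ x'.1, Subgroup.mul_mem _ (Subgroup.inv_mem _ (hκ _)) (hκ _), ?_⟩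
        show u * _ = (x.1 : G)⁻¹ * (x'.1 : G)
        have e1 : x₀⁻¹ * (x.1 : G) = (v : G) * κ x.1 :=
          (hdec x.1).trans (congrArg (fun z => z * κ x.1) x.2)
        have e2 : x₀⁻¹ * (x'.1 : G) = (v : G) * u * κ x'.1 :=
          (hdec x'.1).trans (congrArg (fun z => z * κ x'.1) x'.2)
        rw [show (x.1 : G)⁻¹ * (x'.1 : G) = (x₀⁻¹ * (x.1 : G))⁻¹ * (x₀⁻¹ * (x'.1 : G)) by group,
          e1, e2, mul_inv_rev, ← mul_assoc u,
          (L.commute hu (Subgroup.inv_mem _ (hκ x.1))).eq]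
        group
      · rintro ⟨v, ⟨x, hx⟩, ⟨x', hx'⟩⟩
        obtain rfl : v = ⟨π x, hπ x⟩ := Subtype.ext hx.symm
        rfl
    rw [Nat.card_congr e, Nat.card_sigma,
      Finset.sum_congr rfl fun v _ => by rw [Nat.card_prod, hF, hF (v * _)], Finset.sum_const,
      Finset.card_univ, ← Nat.card_eq_fintype_card, hcard, smul_eq_mul]

open Classical in
/-- The pairs of conjugators, counted through pairs of conjugates. -/
theorem sum_pairs_eq {t u : G} (ht : orderOf t = 2) (S : Finset G)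
    (hS : ∀ g, g ∈ S ↔ g ∈ (fun k => u * k) '' (L.K : Set G)) :
    (∑ a : G, ∑ b : G, if a * t * a⁻¹ * (b * t * b⁻¹) ∈ S then (1 : ℂ) else 0) =
      (Nat.card (PairsIn L t u) : ℂ) *
        (Nat.card (Subgroup.centralizer ({t} : Set G)) : ℂ) ^ 2 := by
  set C := Subgroup.centralizer ({t} : Set G)
  let A := {q : G × G // q.1 * t * q.1⁻¹ * (q.2 * t * q.2⁻¹) ∈ S}
  have hA : (∑ a : G, ∑ b : G, if a * t * a⁻¹ * (b * t * b⁻¹) ∈ S then (1 : ℂ) else 0)
      = (Nat.card A : ℂ) := by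
    rw [← Fintype.sum_prod_type', Finset.sum_boole, Nat.card_eq_fintype_card, Fintype.card_subtype]
  have hfib : ∀ x, IsConj t x → Nonempty ({a : G // a * t * a⁻¹ = x} ≃ C) := by
    intro x hx
    obtain ⟨g, hg⟩ := isConj_iff.1 hx
    refine ⟨
      { toFun := fun a => ⟨g⁻¹ * a.1, Subgroup.mem_centralizer_singleton_iff.2 ?_⟩
        invFun := fun c => ⟨g * c.1, ?_⟩
        left_inv := fun a => Subtype.ext (by simp)
        right_inv := fun c => Subtype.ext (by simp) }⟩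
    · calc g⁻¹ * a.1 * t = g⁻¹ * (a.1 * t * a.1⁻¹) * a.1 := by group
        _ = g⁻¹ * (g * t * g⁻¹) * a.1 := by rw [a.2, hg]
        _ = t * (g⁻¹ * a.1) := by group
    · calc g * c.1 * t * (g * c.1)⁻¹ = g * (c.1 * t) * c.1⁻¹ * g⁻¹ := by group
        _ = g * (t * c.1) * c.1⁻¹ * g⁻¹ := by rw [Subgroup.mem_centralizer_singleton_iff.1 c.2]
        _ = g * t * g⁻¹ := by group
        _ = x := hg
  have hinvol : ∀ a : G, (a * t * a⁻¹)⁻¹ = a * t * a⁻¹ := fun a =>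
    inv_eq_of_mul_eq_one_right (sq_eq_one_of_isConj ht (isConj_iff.2 ⟨a, rfl⟩)).1
  let f : A → PairsIn L t u := fun q => ⟨(q.1.1 * t * q.1.1⁻¹, q.1.2 * t * q.1.2⁻¹),
    isConj_iff.2 ⟨_, rfl⟩, isConj_iff.2 ⟨_, rfl⟩, by rw [hinvol]; exact (hS _).1 q.2⟩
  have hAT : Nat.card A = Nat.card (PairsIn L t u) * (Nat.card C * Nat.card C) := by
    rw [← Nat.card_congr (Equiv.sigmaFiberEquiv f), ← Nat.card_prod, ← Nat.card_prod]
    refine Nat.card_congr ((Equiv.sigmaCongrRight fun r => ?_).trans (Equiv.sigmaEquivProd _ _))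
    refine Equiv.trans ?_ (((hfib _ r.2.1).some).prodCongr ((hfib _ r.2.2.1).some))
    exact
      { toFun := fun q => (⟨q.1.1.1, congrArg (fun z : PairsIn L t u => z.1.1) q.2⟩,
          ⟨q.1.1.2, congrArg (fun z : PairsIn L t u => z.1.2) q.2⟩)
        invFun := fun z => ⟨⟨(z.1.1, z.2.1), (hS _).2 (by
          show z.1.1 * t * z.1.1⁻¹ * (z.2.1 * t * z.2.1⁻¹) ∈ _
          rw [← hinvol z.1.1, z.1.2, z.2.2]; exact r.2.2.2)⟩,
          Subtype.ext (Prod.ext z.1.2 z.2.2)⟩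
        left_inv := fun _ => rfl
        right_inv := fun _ => rfl }
  rw [hA, hAT]
  push_cast
  ring

end CfsgLib.MTwentyTwoUnique
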