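import Cfsg.Agent.BrauerOrderP.Perfect
import Cfsg.Agent.MTwentyTwoUnique.Pairs
import Cfsg.Agent.Small.ClassCheck

/-!
The principal block for a Sylow subgroup of order `p`, with one representative for the exceptional
characters: the column relation, the sums over a coset of the complement and the degree conditions.
-/

set_option autoImplicit false
set_option linter.style.haveILetI false
set_option linter.unusedSectionVars false

namespace CfsgLib.MTwentyTwoUnique

open Cfsg CfsgLib.Characters CfsgLib.DefectOne CfsgLib.BrauerOrderP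
open scoped ComplexConjugate

universe u

variable {G : Type u} [Group G] [Fintype G] {p : ℕ} [Fact p.Prime] (L : Local p G)

/-- The degree. -/
noncomputable abbrev deg (χ : IrrCharacter G) : ℕ := Cfsg.charDegree (χ : G → ℂ)

/-- The same degree and the same values at the `p`-regular elements. -/
def Alike (p : ℕ) (χ χ' : IrrCharacter G) : Prop :=
  deg χ = deg χ' ∧ ∀ g : G, ¬ p ∣ orderOf g → (χ : G → ℂ) g = (χ' : G → ℂ) g

/-- The nonprincipal characters of the principal block. -/
structure Block where
  one : IrrCharacter G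
  one_eq : (one : G → ℂ) = fun _ => 1
  chars : Finset (IrrCharacter G)
  reps : List (IrrCharacter G)
  co : IrrCharacter G → ℤ
  mult : IrrCharacter G → ℕ
  mem_chars : ∀ χ, χ ∈ chars ↔ InB L χ ∧ χ ≠ one
  rep_mem : ∀ r ∈ reps, r ∈ chars
  alike_rep : ∀ χ ∈ chars, ∃ r ∈ reps, Alike p χ r
  sum_chars : ∀ F : IrrCharacter G → ℂ, (∀ χ χ', Alike p χ χ' → F χ = F χ') →
    ∑ χ ∈ chars, F χ = (reps.map fun r => (mult r : ℂ) * F r).sum
  sum_coset : ∀ (u : ↥(L.P : Subgroup G)), u ≠ 1 → ∀ F : IrrCharacter G → ℂ,
    (∀ χ χ', Alike p χ χ' → F χ = F χ') →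
    ∑ χ : IrrCharacter G, (∑ᶠ k : L.K, conj ((χ : G → ℂ) ((u : G) * k))) * F χ =
      (Nat.card L.K : ℂ) * (F one + (reps.map fun r => (co r : ℂ) * F r).sum)
  relation : ∀ g : G, ¬ p ∣ orderOf g →
    1 + (reps.map fun r => (co r : ℂ) * (r : G → ℂ) g).sum = 0
  shape : ∃ cs : List (IrrCharacter G), (∀ r ∈ cs, IsConst L r (co r) ∧ mult r = 1) ∧
    (((p - 1) / e L = 1 ∧ reps.Perm cs ∧ cs.length = e L) ∨
      ((p - 1) / e L ≠ 1 ∧ ∃ y, reps.Perm (cs ++ [y]) ∧ cs.length = e L - 1 ∧
        (co y = 1 ∨ co y = -1) ∧ mult y = (p - 1) / e L ∧ (p : ℤ) ∣ (deg y : ℤ) + (e L : ℤ) * co y ∧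
        deg y ∣ e L * Nat.card (Sylow p G)))

variable {L}

/-- The block with its representatives in another order. -/
def Block.reorder (B : Block L) (l : List (IrrCharacter G)) (h : l.Perm B.reps) : Block L :=
  { B with
    reps := l
    rep_mem := fun r hr => B.rep_mem r (h.subset hr)
    alike_rep := fun χ hχ => (B.alike_rep χ hχ).imp fun r hr => ⟨h.symm.subset hr.1, hr.2⟩
    sum_chars := fun F hF => (B.sum_chars F hF).trans ((h.map _).sum_eq).symm
    sum_coset := fun u hu F hF => (B.sum_coset u hu F hF).trans (by rw [(h.map _).sum_eq])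
    relation := fun g hg => by rw [(h.map _).sum_eq]; exact B.relation g hg
    shape := by
      obtain ⟨cs, h1, h2⟩ := B.shape
      refine ⟨cs, h1, ?_⟩
      rcases h2 with ⟨a, b, c⟩ | ⟨a, y, b, c⟩
      · exact Or.inl ⟨a, h.trans b, c⟩
      · exact Or.inr ⟨a, y, h.trans b, c⟩ }

variable (L)

open Classical in
theorem sum_conj_coset (χ : IrrCharacter G) (u : ↥(L.P : Subgroup G)) (hu : u ≠ 1) :
    ∑ᶠ k : L.K, conj ((χ : G → ℂ) ((u : G) * k)) =
      if InB L χ then (Nat.card L.K : ℂ) * conj ((χ : G → ℂ) (u : G)) else 0 := by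
  haveI := L.finite_lam
  letI := Fintype.ofFinite L.Lam
  haveI := Fintype.ofFinite L.K
  rw [finsum_eq_sum_of_fintype]
  split_ifs with h
  · rw [Finset.sum_congr rfl fun k _ => by rw [value L h hu k, ← value_one L h hu], Finset.sum_const,
      Finset.card_univ, nsmul_eq_mul, Nat.card_eq_fintype_card]
  · rw [← map_sum]
    convert map_zero (starRingEnd ℂ)
    simp only [value_general L χ hu, Finset.sum_neg_distrib, neg_eq_zero]
    rw [Finset.sum_comm]
    refine Finset.sum_eq_zero fun φ _ => ?_
    rw [← Finset.sum_mul]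
    by_cases hφ : φ = oneK L
    · refine mul_eq_zero_of_right _ (Finset.sum_eq_zero fun l _ => mul_eq_zero_of_left ?_ _)
      rw [hφ, ← coef_cast, Int.cast_eq_zero]
      by_contra hne
      exact h ⟨_, hne⟩
    · refine mul_eq_zero_of_left ?_ _
      have h2 := classInner_isIrr_ne φ.2 (oneK L).2 (fun e => hφ (Subtype.ext e))
      rw [Cfsg.classInner] at h2
      simpa [oneK] using h2

theorem sum_inB (one : IrrCharacter G) (h1 : InB L one) (S : Finset (IrrCharacter G))
    (hS : ∀ χ, χ ∈ S ↔ InB L χ ∧ χ ≠ one) [∀ χ : IrrCharacter G, Decidable (InB L χ)]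
    (F : IrrCharacter G → ℂ) :
    ∑ χ : IrrCharacter G, (if InB L χ then F χ else 0) = F one + ∑ χ ∈ S, F χ := by
  classical
  rw [← Finset.sum_filter, ← Finset.add_sum_erase _ _
    (show one ∈ Finset.univ.filter (fun χ => InB L χ) from Finset.mem_filter.2 ⟨Finset.mem_univ _, h1⟩)]
  congr 2
  ext χ
  simp [hS, and_comm]

open Classical in
/-- **The principal block.** -/
theorem exists_block (hp2 : 2 ≤ p) : Nonempty (Block L) := by
  haveI := L.finite_col
  haveI := Fintype.ofFinite (L.ColOver (O0 L))
  haveI := L.finite_lam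
  letI := Fintype.ofFinite L.Lam
  obtain ⟨one, hone, hone1⟩ := one_isConst L
  obtain ⟨q₀⟩ := nonempty_cols L
  have htk : Nat.card (L.ColOver (O0 L)) = (p - 1) / e L :=
    (Nat.div_eq_of_eq_mul_left (e_pos L) (card_cols_mul L).symm).symm
  set co : IrrCharacter G → ℤ := fun χ => L.cint χ q₀.1
  set mult : IrrCharacter G → ℕ := fun χ => if ∃ a, IsConst L χ a then 1 else (p - 1) / e L
  have hco : ∀ {χ a}, IsConst L χ a → co χ = a ∧ mult χ = 1 := fun {χ a} h => ⟨h.2 q₀, if_pos ⟨a, h⟩⟩
  set S := Finset.univ.filter (fun χ : IrrCharacter G => InB L χ ∧ χ ≠ one)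
  set cs : List (IrrCharacter G) := (S.filter fun χ => ∃ a, IsConst L χ a).toList with hcs
  have hcs1 : ∀ r ∈ cs, IsConst L r (co r) ∧ mult r = 1 := by
    intro r hr
    rw [hcs, Finset.mem_toList] at hr
    obtain ⟨a, ha⟩ := (Finset.mem_filter.1 hr).2
    rw [(hco ha).1]
    exact ⟨ha, (hco ha).2⟩
  have hcsconst : ∀ χ ∈ S, (∃ a, IsConst L χ a) → χ ∈ cs := fun χ h h' => by
    rw [hcs, Finset.mem_toList]; exact Finset.mem_filter.2 ⟨h, h'⟩
  -- the sum of the coefficients against the values
  have hrel0 : ∀ g : G, ¬ p ∣ orderOf g →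
      1 + ∑ χ ∈ S, (co χ : ℂ) * (χ : G → ℂ) g = 0 := by
    intro g hg
    refine Eq.trans ?_ (L.sum_cint_mul_regular q₀.1 hg)
    have := sum_inB L one hone1.inB S (by simp [S]) (fun χ => (co χ : ℂ) * (χ : G → ℂ) g)
    simp only [(hco hone1).1, hone, Int.cast_one, one_mul] at this
    rw [← this]
    refine Finset.sum_congr rfl fun χ _ => ?_
    split_ifs with h
    · rfl
    · rw [show L.cint χ q₀.1 = 0 by
        by_contra h0
        exact h ⟨q₀, h0⟩, Int.cast_zero, zero_mul]
  by_cases ht : 1 < Nat.card (L.ColOver (O0 L))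
  · obtain ⟨D⟩ := exists_exceptional L ht
    set y := D.f q₀
    have hyc : ∀ q, ¬ ∃ a, IsConst L (D.f q) a := fun q ⟨a, ha⟩ =>
      not_unit_of_const L ht ha (D.unit q)
    have hyS : ∀ q, D.f q ∈ S := fun q => Finset.mem_filter.2 ⟨Finset.mem_univ _, (D.unit q).inB,
      fun h => hyc q ⟨1, h ▸ hone1⟩⟩
    have hco_f : ∀ q, co (D.f q) = if q = q₀ then D.a else 0 := by
      intro q
      split_ifs with h
      · subst h; exact (D.unit q).2.1
      · exact (D.unit q).2.2 q₀ (Ne.symm h)
    have hmy : mult y = (p - 1) / e L := if_neg (hyc q₀)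
    have hSsplit : ∀ F : IrrCharacter G → ℂ, ∑ χ ∈ S, F χ = (cs.map F).sum + ∑ q, F (D.f q) := by
      intro F
      rw [← Finset.sum_filter_add_sum_filter_not S (fun χ => ∃ a, IsConst L χ a), hcs,
        Finset.sum_map_toList, show S.filter (fun χ => ¬ ∃ a, IsConst L χ a) = Finset.univ.image D.f by
          ext χ
          simp only [Finset.mem_filter, Finset.mem_image, Finset.mem_univ, true_and]
          refine ⟨fun ⟨h, hn⟩ => ?_, ?_⟩
          · rcases D.cover χ (Finset.mem_filter.1 h).2.1 with h1 | h1 | ⟨q, rfl⟩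
            · exact absurd ⟨1, h1⟩ hn
            · exact absurd ⟨-1, h1⟩ hn
            · exact ⟨q, rfl⟩
          · rintro ⟨q, rfl⟩
            exact ⟨hyS q, hyc q⟩,
        Finset.sum_image fun a _ b _ h => D.inj h]
    have hAlike : ∀ q, Alike p (D.f q) y :=
      fun q => ⟨(D.deg q).trans (D.deg q₀).symm, fun g hg => D.regular q q₀ g hg⟩
    have hlen : cs.length + 1 = e L := by
      have h1 := D.count
      have h2 : rowsOf L 1 ∪ rowsOf L (-1) = insert one (S.filter fun χ => ∃ a, IsConst L χ a) := by
        ext χ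
        simp only [Finset.mem_union, mem_rowsOf, Finset.mem_insert, Finset.mem_filter, S,
          Finset.mem_univ, true_and]
        constructor
        · intro h
          by_cases hχ : χ = one
          · exact Or.inl hχ
          · rcases h with h | h
            · exact Or.inr ⟨⟨h.inB, hχ⟩, 1, h⟩
            · exact Or.inr ⟨⟨h.inB, hχ⟩, -1, h⟩
        · rintro (rfl | ⟨-, a, ha⟩)
          · exact Or.inl hone1
          · rcases ha.1 with rfl | rfl
            · exact Or.inl ha
            · exact Or.inr ha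
      rw [← Finset.card_union_of_disjoint disjoint_rowsOf, h2,
        Finset.card_insert_of_notMem (fun h => (Finset.mem_filter.1 (Finset.mem_filter.1 h).1).2.2 rfl)] at h1
      rw [hcs, Finset.length_toList]
      exact h1
    have hk : (p - 1) / e L ≠ 1 := by omega
    refine ⟨⟨one, hone, S, cs ++ [y], co, mult, by simp [S], ?_, ?_, ?_, ?_, ?_,
      cs, hcs1, Or.inr ⟨hk, y, List.Perm.refl _, by omega, ?_, hmy, ?_, ?_⟩⟩⟩
    · intro r hr
      rcases List.mem_append.1 hr with h | h
      · exact (Finset.mem_filter.1 (Finset.mem_toList.1 (hcs ▸ h))).1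
      · rw [List.mem_singleton.1 h]; exact hyS q₀
    · intro χ hχ
      by_cases hc : ∃ a, IsConst L χ a
      · exact ⟨χ, List.mem_append_left _ (hcsconst χ hχ hc), rfl, fun g _ => rfl⟩
      · rcases D.cover χ (Finset.mem_filter.1 hχ).2.1 with h | h | ⟨q, rfl⟩
        · exact absurd ⟨1, h⟩ hc
        · exact absurd ⟨-1, h⟩ hc
        · exact ⟨y, List.mem_append_right _ (List.mem_singleton.2 rfl), hAlike q⟩
    · intro F hF
      rw [hSsplit, List.map_append, List.sum_append, List.map_singleton, List.sum_singleton,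
        List.map_congr_left (g := fun r => (mult r : ℂ) * F r)
          (fun r hr => by rw [(hcs1 r hr).2, Nat.cast_one, one_mul]),
        Finset.sum_congr rfl (g := fun _ => F y) fun q _ => hF _ _ (hAlike q), Finset.sum_const,
        Finset.card_univ, ← Nat.card_eq_fintype_card, nsmul_eq_mul, hmy, htk]
    · intro u hu F hF
      simp only [sum_conj_coset L _ u hu, ite_mul, zero_mul]
      refine (sum_inB L one hone1.inB S (by simp [S]) _).trans ?_
      rw [hSsplit, hone, map_one, mul_one, List.map_append, List.sum_append,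
        List.map_singleton, List.sum_singleton, mul_add, mul_add,
        ← List.sum_map_mul_left,
        List.map_congr_left (l := cs) (g := fun r => (Nat.card L.K : ℂ) * ((co r : ℂ) * F r))
          (fun r hr => by
            have := (hcs1 r hr).1.value hu 1
            rw [OneMemClass.coe_one, mul_one] at this
            rw [this, map_intCast, mul_assoc])]
      congr 2
      rw [hco_f q₀, if_pos rfl, Finset.sum_congr rfl
        (g := fun q => (Nat.card L.K : ℂ) * ((-(D.a : ℂ) * conj (eta L q u)) * F y)) fun q _ => by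
          have := (D.unit q).value hu 1
          rw [OneMemClass.coe_one, mul_one] at this
          rw [this, map_mul, map_neg, map_intCast, hF _ _ (hAlike q), mul_assoc],
        ← Finset.mul_sum, ← Finset.sum_mul, ← Finset.mul_sum, ← map_sum, sum_eta L hu]
      simp
    · intro g hg
      refine Eq.trans ?_ (hrel0 g hg)
      rw [hSsplit, List.map_append, List.sum_append, List.map_singleton, List.sum_singleton]
      congr 2
      rw [Finset.sum_eq_single q₀ (fun q _ hq => by rw [hco_f, if_neg hq, Int.cast_zero, zero_mul])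
        (by simp)]
    · rw [hco_f q₀, if_pos rfl]; exact D.ha
    · obtain ⟨m, hm⟩ := (D.unit q₀).congr
      rw [hco_f q₀, if_pos rfl]
      exact ⟨m, hm⟩
    · show Cfsg.charDegree (D.f q₀ : G → ℂ) ∣ _
      rw [D.deg]
      exact unit_dvd L D.unit D.deg
  · have h1 : Nat.card (L.ColOver (O0 L)) = 1 := by
      have := Nat.card_pos_iff.2 ⟨nonempty_cols L, (inferInstance : Finite (L.ColOver (O0 L)))⟩
      omega
    obtain ⟨hcover, hcount, -⟩ := const_of_one_col L h1
    have hall : ∀ χ ∈ S, ∃ a, IsConst L χ a := fun χ hχ => by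
      rcases hcover χ (Finset.mem_filter.1 hχ).2.1 with h | h
      exacts [⟨1, h⟩, ⟨-1, h⟩]
    have hSc : S.filter (fun χ => ∃ a, IsConst L χ a) = S := Finset.filter_true_of_mem hall
    have hlen : cs.length = e L := by
      have hek : e L = p - 1 := by
        have := card_cols_mul L
        rw [h1, one_mul] at this
        exact this
      rw [hcs, Finset.length_toList, hSc]
      have h2 : rowsOf L 1 ∪ rowsOf L (-1) = insert one S := by
        ext χ
        simp only [Finset.mem_union, mem_rowsOf, Finset.mem_insert, S, Finset.mem_filter, Finset.mem_univ,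
          true_and]
        constructor
        · intro h
          by_cases hχ : χ = one
          · exact Or.inl hχ
          · rcases h with h | h <;> exact Or.inr ⟨h.inB, hχ⟩
        · rintro (rfl | ⟨h, -⟩)
          · exact Or.inl hone1
          · exact hcover χ h
      rw [← Finset.card_union_of_disjoint disjoint_rowsOf, h2,
        Finset.card_insert_of_notMem (fun h => (Finset.mem_filter.1 h).2.2 rfl)] at hcount
      omega
    have hmap : ∀ F : IrrCharacter G → ℂ, ∑ χ ∈ S, F χ = (cs.map F).sum := fun F => by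
      rw [hcs, Finset.sum_map_toList, hSc]
    refine ⟨⟨one, hone, S, cs, co, mult, by simp [S], ?_, ?_, ?_, ?_, ?_,
      cs, hcs1, Or.inl ⟨by omega, List.Perm.refl _, hlen⟩⟩⟩
    · intro r hr
      exact (Finset.mem_filter.1 (Finset.mem_toList.1 (hcs ▸ hr))).1
    · exact fun χ hχ => ⟨χ, hcsconst χ hχ (hall χ hχ), rfl, fun g _ => rfl⟩
    · intro F _
      rw [hmap]
      congr 1
      exact List.map_congr_left fun r hr => by rw [(hcs1 r hr).2, Nat.cast_one, one_mul]
    · intro u hu F _
      simp only [sum_conj_coset L _ u hu, ite_mul, zero_mul]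
      refine (sum_inB L one hone1.inB S (by simp [S]) _).trans ?_
      rw [hmap, hone, map_one, mul_one, mul_add, ← List.sum_map_mul_left,
        List.map_congr_left (l := cs) (g := fun r => (Nat.card L.K : ℂ) * ((co r : ℂ) * F r))
          (fun r hr => by
            have := (hcs1 r hr).1.value hu 1
            rw [OneMemClass.coe_one, mul_one] at this
            rw [this, map_intCast, mul_assoc])]
    · intro g hg
      rw [← hmap]
      exact hrel0 g hg

end CfsgLib.MTwentyTwoUnique
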