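import Cfsg.Agent.MTwentyTwoUnique.Data

/-!
The predicates of the block enumerations.
-/

set_option autoImplicit false
set_option maxRecDepth 100000
set_option synthInstance.maxSize 1000

namespace CfsgLib.MTwentyTwoUnique

open CfsgLib.Small.Check (Item)

/-- A block for 11 outside the list with values at a Sylow-central involution. -/
def bad11 (items : List Item) : Bool :=
  !decide (items ∈ lits11) &&
    invOrders.any fun C => decide (C % 128 = 0) && !(vals 443520 C items).isEmpty

/-- A block for 5 or 7 outside the list compatible with a listed one for 11. -/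
def badSmall (p : ℕ) (lits : List Opt) (n e K : ℕ) (items : List Item) : Bool :=
  !decide ((n, e, K, items) ∈ lits) && lits11.any fun t => contain p t (n, e, K, items)

/-- The possible numbers of Sylow subgroups. -/
def sylowCands (p : ℕ) : List ℕ :=
  dvds.filter fun n => decide (n % p = 1) && decide (n ≠ 1) && decide ((443520 / n) % p = 0) &&
    decide ((443520 / n) % 11 ≠ 0)

/-- The same with the centraliser order in a range. -/
def bad11In (lo hi : ℕ) (items : List Item) : Bool :=
  !decide (items ∈ lits11) &&
    invOrders.any fun C =>
      (decide (C % 128 = 0) && decide (lo ≤ C) && decide (C < hi)) && !(vals 443520 C items).isEmpty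

theorem choose_false {f g h : ℤ → ℕ → List Item → Bool}
    (hh : ∀ T q acc, f T q acc = false → g T q acc = false → h T q acc = false) :
    ∀ cs c T q acc, choose f cs c T q acc = false → choose g cs c T q acc = false →
      choose h cs c T q acc = false
  | [], c, T, q, acc => by
    unfold choose
    by_cases hc : c = 0 <;> simp [hc] <;> exact hh T q acc
  | (a, d) :: cs, c, T, q, acc => by
    unfold choose
    by_cases hc : c = 0
    · simp [hc]; exact hh T q acc
    · simp only [hc, decide_false, Bool.false_eq_true, if_false, List.any_eq_false, Bool.and_eq_true,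
        decide_eq_true_eq, not_and]
      intro h1 h2 j hj hq
      rw [Bool.not_eq_true]
      exact choose_false hh cs _ _ _ _ (Bool.eq_false_iff.2 (h1 j hj hq)) (Bool.eq_false_iff.2 (h2 j hj hq))

theorem blocks_false {p n e K : ℕ} {f g h : List Item → Bool}
    (hh : ∀ l, f l = false → g l = false → h l = false) (hf : blocks p n e K f = false)
    (hg : blocks p n e K g = false) : blocks p n e K h = false := by
  refine choose_false (fun T q acc => ?_) _ _ _ _ _ hf hg
  intro h1 h2
  simp only [finish, Bool.and_eq_false_imp, Bool.and_eq_true, decide_eq_true_eq] at h1 h2 ⊢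
  split_ifs at h1 h2 ⊢ <;> simp only [Bool.and_eq_false_imp, Bool.and_eq_true, decide_eq_true_eq] at h1 h2 ⊢ <;>
    exact fun hx => hh _ (h1 hx) (h2 hx)

theorem bad11In_join {lo mid hi : ℕ} (l : List Item) (h1 : bad11In lo mid l = false)
    (h2 : bad11In mid hi l = false) : bad11In lo hi l = false := by
  simp only [bad11In, Bool.and_eq_false_imp, List.any_eq_false, Bool.and_eq_true, decide_eq_true_eq,
    not_and] at h1 h2 ⊢
  intro hl C hC h
  rcases Nat.lt_or_ge C mid with hm | hm
  · exact h1 hl C hC ⟨⟨h.1.1, h.1.2⟩, hm⟩
  · exact h2 hl C hC ⟨⟨h.1.1, hm⟩, h.2⟩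

end CfsgLib.MTwentyTwoUnique
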