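import Cfsg.Agent.MTwentyTwoUnique.BlockPreds

/-!
The enumeration of the blocks for 5 gives the listed ones.
-/

set_option autoImplicit false
set_option maxRecDepth 100000
set_option synthInstance.maxSize 1000

namespace CfsgLib.MTwentyTwoUnique

theorem blocks_five_ok : ((sylowCands 5).all fun n => [1, 2, 4].all fun e =>
    decide ((443520 / n / 5) % e ≠ 0) ||
      !blocks 5 n e (443520 / n / 5 / e) (badSmall 5 lits5 n e (443520 / n / 5 / e))) = true := by
  decide +kernel

end CfsgLib.MTwentyTwoUnique
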