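import Cfsg.Agent.MTwentyTwoUnique.CheckBlocksEleven
import Cfsg.Agent.MTwentyTwoUnique.CheckBlocksSeven
import Cfsg.Agent.MTwentyTwoUnique.CheckBlocksFive

/-!
The enumerations of the blocks give the listed ones.
-/
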