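import Cfsg.Agent.MTwentyTwoUnique.BlockPreds

/-!
The enumeration of the blocks for 11 gives the listed ones.
-/

set_option autoImplicit false
set_option maxRecDepth 100000
set_option synthInstance.maxSize 1000

namespace CfsgLib.MTwentyTwoUnique

theorem blocks_eleven_mid : blocks 11 8064 5 1 (bad11In 1900 6000) = false := by decide +kernel

end CfsgLib.MTwentyTwoUnique
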