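import Cfsg.Agent.MTwentyTwoUnique.CheckBlocksElevenLowest
import Cfsg.Agent.MTwentyTwoUnique.CheckBlocksElevenLow
import Cfsg.Agent.MTwentyTwoUnique.CheckBlocksElevenMid
import Cfsg.Agent.MTwentyTwoUnique.CheckBlocksElevenHigh

/-!
The enumeration of the blocks for 11 gives the listed ones.
-/

set_option autoImplicit false

namespace CfsgLib.MTwentyTwoUnique

theorem blocks_eleven_ok : blocks 11 8064 5 1 bad11 = false :=
  blocks_false (fun l h1 h2 => by
    have h := bad11In_join l h1 h2
    simp only [bad11In, bad11, Bool.and_eq_false_imp, List.any_eq_false, Bool.and_eq_true,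
      decide_eq_true_eq, not_and] at h ⊢
    intro hl C hC hC128
    have hle : ∀ C ∈ invOrders, C < 443521 := by decide +kernel
    exact h hl C hC ⟨⟨hC128, Nat.zero_le _⟩, hle C hC⟩)
    blocks_eleven_lowest (blocks_false bad11In_join blocks_eleven_low
      (blocks_false bad11In_join blocks_eleven_mid blocks_eleven_high))

end CfsgLib.MTwentyTwoUnique
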