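import Cfsg.Agent.MTwentyTwoUnique.Data

/-!
In the surviving case the centraliser of an involution has order 384 and the values are forced.
-/

set_option autoImplicit false
set_option maxRecDepth 100000
set_option synthInstance.maxSize 1000

namespace CfsgLib.MTwentyTwoUnique

open CfsgLib.Small.Check (Item)

/-- The block for 11. -/
def theT : List Item := lits11.getD 11 []

/-- The block for 7. -/
def theA : Opt := (21120, 3, 1, [(1, 1, 99), (-1, 1, 55), (-1, 2, 45)])

/-- The block for 5. -/
def theB : Opt := (22176, 4, 1, [(1, 1, 231), (-1, 1, 154), (-1, 1, 99), (1, 1, 21)])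

/-- The value at an involution by degree. -/
def tv : ℕ → ℤ
  | 1 => 1 | 21 => 5 | 45 => -3 | 55 => 7 | 99 => 3 | 154 => 10 | 210 => 2 | 231 => 7
  | 280 => -8 | 385 => 1 | _ => 0

theorem forced_centraliser : (invOrders.all fun C => (look theT table11 C).all fun w =>
    !(okC 7 theA C && okC 5 theB C && feas 7 theA C theT w none && feas 5 theB C theT w none) ||
      (decide (C = 384) && decide (w = ([-8, 2, -3, -3, 5], 208)))) = true := by
  decide +kernel

theorem forced_fix : ([(55, 7), (99, 3), (154, 10), (231, 7)] : List (ℕ × ℤ)).all (fun f =>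
    (cvals 4 f.1 (443520 / 384) 384).all fun u => decide (u = f.2) ||
      !(feas 7 theA 384 theT ([-8, 2, -3, -3, 5], 208) (some (f.1, u)) &&
        feas 5 theB 384 theT ([-8, 2, -3, -3, 5], 208) (some (f.1, u)))) = true := by
  decide +kernel

end CfsgLib.MTwentyTwoUnique
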