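import Cfsg.Agent.MTwentyTwoUnique.Data

/-!
The search leaves a single triple of blocks for 11, 7 and 5: a part of the table.
-/

set_option autoImplicit false
set_option maxRecDepth 100000
set_option synthInstance.maxSize 1000

namespace CfsgLib.MTwentyTwoUnique

open CfsgLib.Small.Check (Item)

theorem surv10_eq : survivors lits7 lits5 (lits11.getD 10 []) table10 = [] := by
  decide +kernel

theorem surv11_eq : survivors lits7 lits5 (lits11.getD 11 []) table11 = [((21120, 3, 1, [(1, 1, 99), (-1, 1, 55), (-1, 2, 45)]), (22176, 4, 1, [(1, 1, 231), (-1, 1, 154), (-1, 1, 99), (1, 1, 21)]))] := by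
  decide +kernel

theorem surv12_eq : survivors lits7 lits5 (lits11.getD 12 []) table12 = [] := by
  decide +kernel

theorem surv13_eq : survivors lits7 lits5 (lits11.getD 13 []) table13 = [] := by
  decide +kernel

theorem surv14_eq : survivors lits7 lits5 (lits11.getD 14 []) table14 = [] := by
  decide +kernel

theorem surv15_eq : survivors lits7 lits5 (lits11.getD 15 []) table15 = [] := by
  decide +kernel

theorem surv16_eq : survivors lits7 lits5 (lits11.getD 16 []) table16 = [] := by
  decide +kernel

theorem surv17_eq : survivors lits7 lits5 (lits11.getD 17 []) table17 = [] := by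
  decide +kernel

theorem surv18_eq : survivors lits7 lits5 (lits11.getD 18 []) table18 = [] := by
  decide +kernel

theorem surv19_eq : survivors lits7 lits5 (lits11.getD 19 []) table19 = [] := by
  decide +kernel

end CfsgLib.MTwentyTwoUnique
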