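import Cfsg.Agent.MTwentyTwoUnique.Data

/-!
The search leaves a single triple of blocks for 11, 7 and 5: a part of the table.
-/

set_option autoImplicit false
set_option maxRecDepth 100000
set_option synthInstance.maxSize 1000

namespace CfsgLib.MTwentyTwoUnique

open CfsgLib.Small.Check (Item)

theorem surv20_eq : survivors lits7 lits5 (lits11.getD 20 []) table20 = [] := by
  decide +kernel

theorem surv21_eq : survivors lits7 lits5 (lits11.getD 21 []) table21 = [] := by
  decide +kernel

theorem surv22_eq : survivors lits7 lits5 (lits11.getD 22 []) table22 = [] := by
  decide +kernel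

theorem surv23_eq : survivors lits7 lits5 (lits11.getD 23 []) table23 = [] := by
  decide +kernel

theorem surv24_eq : survivors lits7 lits5 (lits11.getD 24 []) table24 = [] := by
  decide +kernel

theorem surv25_eq : survivors lits7 lits5 (lits11.getD 25 []) table25 = [] := by
  decide +kernel

theorem surv26_eq : survivors lits7 lits5 (lits11.getD 26 []) table26 = [] := by
  decide +kernel

theorem surv27_eq : survivors lits7 lits5 (lits11.getD 27 []) table27 = [] := by
  decide +kernel

theorem surv28_eq : survivors lits7 lits5 (lits11.getD 28 []) table28 = [] := by
  decide +kernel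

theorem surv29_eq : survivors lits7 lits5 (lits11.getD 29 []) table29 = [] := by
  decide +kernel

end CfsgLib.MTwentyTwoUnique
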