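import Cfsg.Agent.MTwentyTwoUnique.Data

/-!
The search leaves a single triple of blocks for 11, 7 and 5: a part of the table.
-/

set_option autoImplicit false
set_option maxRecDepth 100000
set_option synthInstance.maxSize 1000

namespace CfsgLib.MTwentyTwoUnique

open CfsgLib.Small.Check (Item)

theorem surv30_eq : survivors lits7 lits5 (lits11.getD 30 []) table30 = [] := by
  decide +kernel

theorem surv31_eq : survivors lits7 lits5 (lits11.getD 31 []) table31 = [] := by
  decide +kernel

theorem surv32_eq : survivors lits7 lits5 (lits11.getD 32 []) table32 = [] := by
  decide +kernel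

theorem surv33_eq : survivors lits7 lits5 (lits11.getD 33 []) table33 = [] := by
  decide +kernel

theorem surv34_eq : survivors lits7 lits5 (lits11.getD 34 []) table34 = [] := by
  decide +kernel

theorem surv35_eq : survivors lits7 lits5 (lits11.getD 35 []) table35 = [] := by
  decide +kernel

theorem surv36_eq : survivors lits7 lits5 (lits11.getD 36 []) table36 = [] := by
  decide +kernel

theorem surv37_eq : survivors lits7 lits5 (lits11.getD 37 []) table37 = [] := by
  decide +kernel

theorem surv38_eq : survivors lits7 lits5 (lits11.getD 38 []) table38 = [] := by
  decide +kernel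

end CfsgLib.MTwentyTwoUnique
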