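import Cfsg.Agent.MTwentyTwoUnique.CheckSurvivorsA
import Cfsg.Agent.MTwentyTwoUnique.CheckSurvivorsB
import Cfsg.Agent.MTwentyTwoUnique.CheckSurvivorsC
import Cfsg.Agent.MTwentyTwoUnique.CheckSurvivorsD

/-!
The search leaves a single triple of blocks for 11, 7 and 5.
-/
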