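import Cfsg.Agent.MTwentyTwoUnique.Data

/-!
The search leaves a single triple of blocks for 11, 7 and 5: a part of the table.
-/

set_option autoImplicit false
set_option maxRecDepth 100000
set_option synthInstance.maxSize 1000

namespace CfsgLib.MTwentyTwoUnique

open CfsgLib.Small.Check (Item)

theorem surv0_eq : survivors lits7 lits5 (lits11.getD 0 []) table0 = [] := by
  decide +kernel

theorem surv1_eq : survivors lits7 lits5 (lits11.getD 1 []) table1 = [] := by
  decide +kernel

theorem surv2_eq : survivors lits7 lits5 (lits11.getD 2 []) table2 = [] := by
  decide +kernel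

theorem surv3_eq : survivors lits7 lits5 (lits11.getD 3 []) table3 = [] := by
  decide +kernel

theorem surv4_eq : survivors lits7 lits5 (lits11.getD 4 []) table4 = [] := by
  decide +kernel

theorem surv5_eq : survivors lits7 lits5 (lits11.getD 5 []) table5 = [] := by
  decide +kernel

theorem surv6_eq : survivors lits7 lits5 (lits11.getD 6 []) table6 = [] := by
  decide +kernel

theorem surv7_eq : survivors lits7 lits5 (lits11.getD 7 []) table7 = [] := by
  decide +kernel

theorem surv8_eq : survivors lits7 lits5 (lits11.getD 8 []) table8 = [] := by
  decide +kernel

theorem surv9_eq : survivors lits7 lits5 (lits11.getD 9 []) table9 = [] := by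
  decide +kernel

end CfsgLib.MTwentyTwoUnique
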