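import Cfsg.Agent.MTwentyTwoUnique.Data

/-!
The tables of values agree with the search.
-/

set_option autoImplicit false
set_option maxRecDepth 100000

namespace CfsgLib.MTwentyTwoUnique

open CfsgLib.Small.Check (Item)

theorem table0_ok : (table0.all fun c => vals 443520 c.1 (lits11.getD 0 []) == c.2) = true := by
  decide +kernel

theorem table1_ok : (table1.all fun c => vals 443520 c.1 (lits11.getD 1 []) == c.2) = true := by
  decide +kernel

theorem table2_ok : (table2.all fun c => vals 443520 c.1 (lits11.getD 2 []) == c.2) = true := by
  decide +kernel

theorem table3_ok : (table3.all fun c => vals 443520 c.1 (lits11.getD 3 []) == c.2) = true := by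
  decide +kernel

theorem table4_ok : (table4.all fun c => vals 443520 c.1 (lits11.getD 4 []) == c.2) = true := by
  decide +kernel

theorem table5_ok : (table5.all fun c => vals 443520 c.1 (lits11.getD 5 []) == c.2) = true := by
  decide +kernel

theorem table6_ok : (table6.all fun c => vals 443520 c.1 (lits11.getD 6 []) == c.2) = true := by
  decide +kernel

theorem table7_ok : (table7.all fun c => vals 443520 c.1 (lits11.getD 7 []) == c.2) = true := by
  decide +kernel

theorem table8_ok : (table8.all fun c => vals 443520 c.1 (lits11.getD 8 []) == c.2) = true := by
  decide +kernel

theorem table9_ok : (table9.all fun c => vals 443520 c.1 (lits11.getD 9 []) == c.2) = true := by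
  decide +kernel

theorem table10_ok : (table10.all fun c => vals 443520 c.1 (lits11.getD 10 []) == c.2) = true := by
  decide +kernel

theorem table11_ok : (table11.all fun c => vals 443520 c.1 (lits11.getD 11 []) == c.2) = true := by
  decide +kernel

theorem table12_ok : (table12.all fun c => vals 443520 c.1 (lits11.getD 12 []) == c.2) = true := by
  decide +kernel

theorem table13_ok : (table13.all fun c => vals 443520 c.1 (lits11.getD 13 []) == c.2) = true := by
  decide +kernel

theorem table14_ok : (table14.all fun c => vals 443520 c.1 (lits11.getD 14 []) == c.2) = true := by
  decide +kernel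

theorem table15_ok : (table15.all fun c => vals 443520 c.1 (lits11.getD 15 []) == c.2) = true := by
  decide +kernel

theorem table16_ok : (table16.all fun c => vals 443520 c.1 (lits11.getD 16 []) == c.2) = true := by
  decide +kernel

theorem table17_ok : (table17.all fun c => vals 443520 c.1 (lits11.getD 17 []) == c.2) = true := by
  decide +kernel

theorem table18_ok : (table18.all fun c => vals 443520 c.1 (lits11.getD 18 []) == c.2) = true := by
  decide +kernel

theorem table19_ok : (table19.all fun c => vals 443520 c.1 (lits11.getD 19 []) == c.2) = true := by
  decide +kernel

theorem table20_ok : (table20.all fun c => vals 443520 c.1 (lits11.getD 20 []) == c.2) = true := by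
  decide +kernel

theorem table21_ok : (table21.all fun c => vals 443520 c.1 (lits11.getD 21 []) == c.2) = true := by
  decide +kernel

theorem table22_ok : (table22.all fun c => vals 443520 c.1 (lits11.getD 22 []) == c.2) = true := by
  decide +kernel

theorem table23_ok : (table23.all fun c => vals 443520 c.1 (lits11.getD 23 []) == c.2) = true := by
  decide +kernel

theorem table24_ok : (table24.all fun c => vals 443520 c.1 (lits11.getD 24 []) == c.2) = true := by
  decide +kernel

theorem table25_ok : (table25.all fun c => vals 443520 c.1 (lits11.getD 25 []) == c.2) = true := by
  decide +kernel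

theorem table26_ok : (table26.all fun c => vals 443520 c.1 (lits11.getD 26 []) == c.2) = true := by
  decide +kernel

theorem table27_ok : (table27.all fun c => vals 443520 c.1 (lits11.getD 27 []) == c.2) = true := by
  decide +kernel

theorem table28_ok : (table28.all fun c => vals 443520 c.1 (lits11.getD 28 []) == c.2) = true := by
  decide +kernel

theorem table29_ok : (table29.all fun c => vals 443520 c.1 (lits11.getD 29 []) == c.2) = true := by
  decide +kernel

theorem table30_ok : (table30.all fun c => vals 443520 c.1 (lits11.getD 30 []) == c.2) = true := by
  decide +kernel

theorem table31_ok : (table31.all fun c => vals 443520 c.1 (lits11.getD 31 []) == c.2) = true := by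
  decide +kernel

theorem table32_ok : (table32.all fun c => vals 443520 c.1 (lits11.getD 32 []) == c.2) = true := by
  decide +kernel

theorem table33_ok : (table33.all fun c => vals 443520 c.1 (lits11.getD 33 []) == c.2) = true := by
  decide +kernel

theorem table34_ok : (table34.all fun c => vals 443520 c.1 (lits11.getD 34 []) == c.2) = true := by
  decide +kernel

theorem table35_ok : (table35.all fun c => vals 443520 c.1 (lits11.getD 35 []) == c.2) = true := by
  decide +kernel

theorem table36_ok : (table36.all fun c => vals 443520 c.1 (lits11.getD 36 []) == c.2) = true := by
  decide +kernel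

theorem table37_ok : (table37.all fun c => vals 443520 c.1 (lits11.getD 37 []) == c.2) = true := by
  decide +kernel

theorem table38_ok : (table38.all fun c => vals 443520 c.1 (lits11.getD 38 []) == c.2) = true := by
  decide +kernel

end CfsgLib.MTwentyTwoUnique
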