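import Cfsg.Agent.MTwentyTwoUnique.Residual
import Mathlib.GroupTheory.Nilpotent

/-!
The 2-part `W` of the centraliser of the four-group.
-/

set_option autoImplicit false
set_option linter.style.haveILetI false
set_option linter.unusedSectionVars false

open scoped Pointwise

namespace CfsgLib.MTwentyTwoUnique

open Cfsg CfsgLib.DefectOne CfsgLib.BrauerOrderP
open CfsgLib.MElevenUnique (Cg Ng mem_Cg)

universe u

variable {G : Type u} [Group G]

/-- A frame with the subgroup `R`. -/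
structure Core (G : Type u) [Group G] extends Frame G where
  R : Subgroup G
  R_le : R ≤ Cg t
  card_R : Nat.card R = 64
  R_conj : ∀ c : G, Commute c t → ∀ r ∈ R, c * r * c⁻¹ ∈ R
  E_le : toFrame.E ≤ R
  fix_R : ∀ r ∈ R, Commute x r → r ∈ toFrame.E
  K_top : ∀ K : Subgroup G, R ≤ K → K ≤ Cg t → x ∈ K → ∀ g ∈ K, g ∉ R → g ^ 2 = 1 → K = Cg t

namespace Core

variable (C : Core G)

/-- The 2-part of the centraliser of the four-group. -/
def W : Subgroup G := C.R ⊓ C.toFrame.CE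

theorem W_le_R : C.W ≤ C.R := inf_le_left

theorem W_le_CE : C.W ≤ C.toFrame.CE := inf_le_right

theorem E_le_W : C.toFrame.E ≤ C.W := fun _ he =>
  ⟨C.E_le he, C.toFrame.mem_CE.2 ⟨C.toFrame.E_comm he C.toFrame.t_mem_E, C.toFrame.E_comm he C.toFrame.s_mem_E⟩⟩

theorem comm_E_of_mem_W {g e : G} (hg : g ∈ C.W) (he : e ∈ C.toFrame.E) : Commute g e :=
  C.toFrame.comm_E_of_mem_CE (C.W_le_CE hg) he

/-- An element fixed by `x` modulo the four-group lies in it. -/
theorem mem_E_of_fix {d : G} (hd : d ∈ C.R) (h : d⁻¹ * (C.x * d * C.x⁻¹) ∈ C.toFrame.E) :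
    d ∈ C.toFrame.E := by
  set e := d⁻¹ * (C.x * d * C.x⁻¹) with he
  have h1 : C.x * d * C.x⁻¹ = d * e := (mul_inv_cancel_left d _).symm
  have hce : C.x * e * C.x⁻¹ = e := conj_eq_iff_commute.2 (C.toFrame.x_comm_E h)
  have h2 : C.x * (d * e) * C.x⁻¹ = d * e * e := by
    rw [show C.x * (d * e) * C.x⁻¹ = C.x * d * C.x⁻¹ * (C.x * e * C.x⁻¹) by group, hce, h1]
  have h3 : C.x * (d * e * e) * C.x⁻¹ = d * e * e * e := by
    rw [show C.x * (d * e * e) * C.x⁻¹ = C.x * (d * e) * C.x⁻¹ * (C.x * e * C.x⁻¹) by group, hce, h2]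
  have h4 : C.x ^ 3 * d * (C.x ^ 3)⁻¹ = d * e * e * e := by
    rw [show C.x ^ 3 * d * (C.x ^ 3)⁻¹ = C.x * (C.x * (C.x * d * C.x⁻¹) * C.x⁻¹) * C.x⁻¹ by
      simp only [pow_succ, pow_zero, one_mul, mul_inv_rev, mul_assoc], h1, h2, h3]
  rw [C.toFrame.x_cubed, one_mul, inv_one, mul_one, mul_assoc (d * e), C.toFrame.sq_mem_E h, mul_one,
    left_eq_mul] at h4
  rw [h4, mul_one] at h1
  exact C.fix_R d hd (mul_inv_eq_iff_eq_mul.1 h1)

theorem x_conj_R {r : G} (hr : r ∈ C.R) : C.x * r * C.x⁻¹ ∈ C.R := C.R_conj _ C.cxt r hr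

theorem x_conj_W {g : G} (hg : g ∈ C.W) : C.x * g * C.x⁻¹ ∈ C.W :=
  ⟨C.x_conj_R hg.1, C.toFrame.conj_mem_CE (fun e he => by
    have := conj_eq_iff_commute.2 ((C.toFrame.x_comm_E he).inv_left)
    rw [inv_inv] at this
    rwa [this]) hg.2⟩

variable [Fintype G]

theorem u_conj_W {g : G} (hg : g ∈ C.W) : C.u * g * C.u⁻¹ ∈ C.W :=
  ⟨C.R_conj _ C.cut g hg.1,
    C.toFrame.conj_mem_CE (fun _ he => C.toFrame.conj_inv_E (fun _ h => C.toFrame.u_conj_E h) he) hg.2⟩

/-- Subgroups of `R` invariant under `x` containing the four-group have order 4, 16 or 64. -/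
theorem card_of_invariant {K : Subgroup G} (hE : C.toFrame.E ≤ K) (hR : K ≤ C.R)
    (hx : ∀ g ∈ K, C.x * g * C.x⁻¹ ∈ K) : Nat.card K = 4 ∨ Nat.card K = 16 ∨ Nat.card K = 64 := by
  have hmod := card_mod_three C.toFrame.x_cubed K hx
  have heq : K ⊓ Cg C.x = C.toFrame.E := le_antisymm
    (fun g hg => C.fix_R g (hR hg.1) (mem_Cg.1 hg.2).symm)
    (fun g hg => ⟨hE hg, mem_Cg.2 (C.toFrame.x_comm_E hg).eq.symm⟩)
  rw [heq, C.toFrame.card_E] at hmod
  have hd := Subgroup.card_dvd_of_le hR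
  rw [C.card_R] at hd
  have h4 := Subgroup.card_dvd_of_le hE
  rw [C.toFrame.card_E] at h4
  have key : ∀ n ∈ Nat.divisors 64, n % 3 = 4 % 3 → 4 ∣ n → n = 4 ∨ n = 16 ∨ n = 64 := by decide +kernel
  exact key _ (Nat.mem_divisors.2 ⟨hd, by norm_num⟩) hmod h4

variable [IsSimpleGroup G] [Fact (Nat.Prime 11)] [Fact (Nat.Prime 7)] [Fact (Nat.Prime 5)]
  (hGN : Nat.card G = 443520) (D : Data G)
include hGN D

omit C in
theorem exists_core : Nonempty (Core G) := by
  obtain ⟨F⟩ := D.exists_frame hGN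
  obtain ⟨R, h1, h2, h3, h4, h5, h6⟩ := F.exists_R hGN D
  exact ⟨⟨F, R, h1, h2, h3, h4, h5, h6⟩⟩

/-- No element of the centraliser of the four-group inverts `x`. -/
theorem not_inverts {g : G} (hg : g ∈ C.toFrame.CE) : g * C.x * g⁻¹ ≠ C.x⁻¹ := by
  intro h
  obtain ⟨h1, h2⟩ := C.toFrame.mem_CE.1 hg
  have hcx : Commute (C.u * g) C.x := conj_eq_iff_commute.1 (by
    rw [show C.u * g * C.x * (C.u * g)⁻¹ = C.u * (g * C.x * g⁻¹) * C.u⁻¹ by group, h,
      show C.u * C.x⁻¹ * C.u⁻¹ = (C.u * C.x * C.u⁻¹)⁻¹ by group, C.u_x, inv_inv])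
  have h3 := conj_eq_iff_commute.2 (C.c12 _ hcx (C.cut.mul_left h1))
  rw [show C.u * g * C.s * (C.u * g)⁻¹ = C.u * (g * C.s * g⁻¹) * C.u⁻¹ by group,
    conj_eq_iff_commute.2 h2, C.u_s] at h3
  exact ne_one_of_orderOf_two C.ht (mul_eq_right.1 h3)

/-- The 2-elements of the centraliser of the four-group lie in `W`. -/
theorem two_mem_W {g : G} (hg : g ∈ C.toFrame.CE) {k : ℕ} (hk : g ^ 2 ^ k = 1) : g ∈ C.W := by
  classical
  haveI := Fact.mk Nat.prime_three
  haveI := Fact.mk Nat.prime_two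
  refine ⟨?_, hg⟩
  by_contra hgR
  -- reduce to an element whose square lies in `R`
  obtain ⟨g, hg, hgR, hg2⟩ : ∃ h : G, h ∈ C.toFrame.CE ∧ h ∉ C.R ∧ h ^ 2 ∈ C.R := by
    induction k generalizing g with
    | zero => rw [pow_zero, pow_one] at hk; exact absurd (hk ▸ one_mem _) hgR
    | succ k ih =>
      by_cases h2 : g ^ 2 ∈ C.R
      · exact ⟨g, hg, hgR, h2⟩
      · exact ih (pow_mem hg 2) (by rw [← pow_mul, ← pow_succ']; exact hk) h2
  set H := C.toFrame.CE with hH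
  have hW16 : ∀ r ∈ C.W, C.x * r * C.x⁻¹ ∈ C.W := fun r hr => C.x_conj_W hr
  have hcW := C.card_of_invariant C.E_le_W C.W_le_R hW16
  have hxH : C.x ∈ H := C.toFrame.mem_CE.2 ⟨C.cxt, C.cxs⟩
  set xH : H := ⟨C.x, hxH⟩
  have hHt : H ≤ Cg C.t := inf_le_left
  have hdvd : Nat.card H ∣ 384 := D.card_Cg hGN C.ht ▸ Subgroup.card_dvd_of_le hHt
  have h3 : 3 ∣ Nat.card H := by
    have := Subgroup.orderOf_dvd_natCard _ hxH
    rwa [C.hx] at this
  have h9 : ¬ 3 ^ 2 ∣ Nat.card H := fun h => by have := h.trans hdvd; norm_num at this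
  obtain ⟨P, hP⟩ := MElevenUnique.exists_sylow_of_orderOf
    (show orderOf xH = 3 by rw [← Subgroup.orderOf_coe]; exact C.hx)
  have hP3 : Nat.card (P : Subgroup H) = 3 := card_sylow_of_sq_not_dvd h3 h9 P
  have hPz : (P : Subgroup H) = Subgroup.zpowers xH :=
    (Subgroup.eq_of_le_of_card_ge (Subgroup.zpowers_le.2 hP)
      (by rw [Nat.card_zpowers, ← Subgroup.orderOf_coe, show ((xH : H) : G) = C.x from rfl, C.hx, hP3])).symm
  have hN : Nat.card (Subgroup.normalizer ((P : Subgroup H) : Set H)) = 12 := by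
    rw [← (D.common_centraliser hGN C.hx C.ht C.cxt).1]
    refine Nat.card_congr
      { toFun := fun n => ⟨(n.1 : G), mem_Cg.2 ?_, hHt n.1.2⟩
        invFun := fun c => ⟨⟨c.1, C.toFrame.mem_CE.2 ⟨mem_Cg.1 c.2.2,
          C.c12 _ (mem_Cg.1 c.2.1) (mem_Cg.1 c.2.2)⟩⟩, ?_⟩
        left_inv := fun _ => rfl
        right_inv := fun _ => rfl }
    · have hmem : n.1 * xH * n.1⁻¹ ∈ Subgroup.zpowers xH :=
        hPz.le ((Subgroup.mem_normalizer_iff.1 n.2 xH).1 hP)
      rw [← mem_powers_iff_mem_zpowers, Submonoid.mem_powers_iff] at hmem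
      obtain ⟨j, hj⟩ := hmem
      have hj' : (n.1 : G) * C.x * (n.1 : G)⁻¹ = C.x ^ j := (congrArg Subtype.val hj).symm
      rw [← pow_mod_orderOf, C.hx] at hj'
      have : j % 3 < 3 := Nat.mod_lt _ (by norm_num)
      interval_cases hjj : j % 3
      · exact absurd (conj_eq_one_iff.1 (hj'.trans (pow_zero _))) C.toFrame.x_ne_one
      · exact mul_inv_eq_iff_eq_mul.1 (hj'.trans (pow_one _))
      · refine absurd (hj'.trans ?_) (C.not_inverts hGN D n.1.2)
        rw [eq_inv_iff_mul_eq_one, ← pow_succ, C.toFrame.x_cubed]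
    · refine Subgroup.centralizer_le_normalizer _ (Subgroup.mem_centralizer_iff.2 fun h hh => ?_)
      rw [hPz] at hh
      obtain ⟨i, rfl⟩ := hh
      have hc : Commute C.x (c : G) := (mem_Cg.1 c.2.1).symm
      exact Subtype.ext (hc.zpow_left i).eq
  have hn := Small.card_sylow_mul_card_normalizer P
  rw [hN] at hn
  have hmod := Small.card_sylow_mod (G := H) 3
  -- the index of `W`
  set M : Subgroup H := C.R.subgroupOf H
  haveI hMn : M.Normal := ⟨fun m hm c => C.R_conj _ (mem_Cg.1 (hHt c.2)) _ hm⟩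
  have hMcard : Nat.card M = Nat.card C.W := by
    show Nat.card (C.R.subgroupOf H) = _
    rw [← Subgroup.inf_subgroupOf_right, Nat.card_congr (Subgroup.subgroupOfEquivOfLe inf_le_right).toEquiv]
    rfl
  have hidx := M.index_mul_card
  rw [hMcard] at hidx
  have h6 : 6 ∣ M.index := by
    rw [Subgroup.index_eq_card]
    have e2 : orderOf (QuotientGroup.mk' M ⟨g, hg⟩) = 2 := orderOf_eq_prime
      (by rw [← map_pow, QuotientGroup.mk'_apply, QuotientGroup.eq_one_iff]; exact hg2)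
      (by rw [QuotientGroup.mk'_apply, ne_eq, QuotientGroup.eq_one_iff]; exact hgR)
    have e3 : orderOf (QuotientGroup.mk' M xH) = 3 := orderOf_eq_prime
      (by rw [← map_pow, show xH ^ 3 = 1 from Subtype.ext C.toFrame.x_cubed, map_one])
      (by
        rw [QuotientGroup.mk'_apply, ne_eq, QuotientGroup.eq_one_iff]
        intro h
        have := Subgroup.orderOf_dvd_natCard _ (show C.x ∈ C.R from h)
        rw [C.card_R, C.hx] at this
        norm_num at this)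
    exact (by norm_num : Nat.Coprime 2 3).mul_dvd_of_dvd_of_dvd (e2 ▸ orderOf_dvd_natCard _)
      (e3 ▸ orderOf_dvd_natCard _)
  obtain ⟨j, hj⟩ := h6
  rw [← hn, hj] at hidx
  have hR384 : M.index ∣ 6 := by
    set f : H →* Cg C.t := Subgroup.inclusion hHt
    set N : Subgroup (Cg C.t) := C.R.subgroupOf (Cg C.t)
    haveI : N.Normal := ⟨fun m hm c => C.R_conj _ (mem_Cg.1 c.2) _ hm⟩
    have hNidx : N.index = 6 := by
      have := N.index_mul_card
      rw [Nat.card_congr (Subgroup.subgroupOfEquivOfLe C.R_le).toEquiv, C.card_R, D.card_Cg hGN C.ht] at this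
      omega
    have : M = N.comap f := rfl
    rw [this, Subgroup.index_comap, ← hNidx]
    exact Subgroup.relIndex_dvd_index_of_normal N f.range
  rw [hj] at hR384
  have hj1 : j = 1 := by
    have := Nat.le_of_dvd (by norm_num) hR384
    rcases j with _ | _ | j
    · rw [mul_zero] at hR384; norm_num at hR384
    · rfl
    · omega
  rw [hj1] at hidx
  rcases hcW with h | h | h <;> rw [h] at hidx <;> omega

theorem y_conj_W {g : G} (hg : g ∈ C.W) : C.y * g * C.y⁻¹ ∈ C.W := by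
  haveI := Fact.mk Nat.prime_two
  obtain ⟨k, hk⟩ : ∃ k, g ^ 2 ^ k = 1 := by
    refine ⟨6, ?_⟩
    have := pow_card_eq_one' (G := C.R) (x := ⟨g, hg.1⟩)
    rw [C.card_R] at this
    exact congrArg Subtype.val this
  exact C.two_mem_W hGN D
    (C.toFrame.conj_mem_CE (fun _ he => C.toFrame.conj_inv_E (fun _ h => C.toFrame.y_conj_E h) he) hg.2)
    (k := k) (by rw [conj_pow, hk, mul_one, mul_inv_cancel])

omit hGN D in
/-- `W` is the normaliser of the four-group in `R`. -/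
theorem mem_W_of_normalizes {n : G} (hn : n ∈ C.R) (hE : ∀ e ∈ C.toFrame.E, n * e * n⁻¹ ∈ C.toFrame.E) :
    n ∈ C.W := by
  classical
  set N : Subgroup G := C.R ⊓ Ng C.toFrame.E
  have hmemN : ∀ {m : G}, m ∈ N ↔ m ∈ C.R ∧ ∀ e ∈ C.toFrame.E, m * e * m⁻¹ ∈ C.toFrame.E := by
    intro m
    refine ⟨fun h => ⟨h.1, fun e he => (Subgroup.mem_normalizer_iff.1 h.2 e).1 he⟩, fun h => ⟨h.1, ?_⟩⟩
    refine Subgroup.mem_normalizer_iff.2 fun e => ⟨h.2 e, fun he => ?_⟩
    have := C.toFrame.conj_inv_E h.2 he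
    rwa [show m⁻¹ * (m * e * m⁻¹) * m = e by group] at this
  have hnN : n ∈ N := hmemN.2 ⟨hn, hE⟩
  have hWN : C.W ≤ N := fun w hw => hmemN.2 ⟨hw.1, fun e he => by
    rw [conj_eq_iff_commute.2 (C.comm_E_of_mem_W hw he)]; exact he⟩
  have hxN : ∀ m ∈ N, C.x * m * C.x⁻¹ ∈ N := fun m hm => hmemN.2 ⟨C.x_conj_R hm.1, fun e he => by
    have hc := conj_eq_iff_commute.2 (C.toFrame.x_comm_E he).inv_left
    rw [inv_inv] at hc
    rw [show C.x * m * C.x⁻¹ * e * (C.x * m * C.x⁻¹)⁻¹ =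
      C.x * (m * (C.x⁻¹ * e * C.x) * m⁻¹) * C.x⁻¹ by group, hc]
    have h' := (hmemN.1 hm).2 e he
    rw [conj_eq_iff_commute.2 (C.toFrame.x_comm_E h')]
    exact h'⟩
  -- the action on `s`
  have hs : ∀ m ∈ N, m * C.s * m⁻¹ = C.s ∨ m * C.s * m⁻¹ = C.t * C.s := by
    intro m hm
    have h := (hmemN.1 hm).2 _ C.toFrame.s_mem_E
    have hmt : m * C.t * m⁻¹ = C.t := conj_eq_iff_commute.2 (mem_Cg.1 (C.R_le hm.1))
    rcases C.toFrame.mem_E.1 h with e | e | e | e
    · exact absurd (conj_eq_one_iff.1 e) (ne_one_of_orderOf_two C.hs)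
    · exact absurd (conj_injective m (e.trans hmt.symm)) C.hst
    · exact Or.inl e
    · exact Or.inr e
  by_contra hnW
  have hns : n * C.s * n⁻¹ = C.t * C.s := (hs n hnN).resolve_left fun e =>
    hnW ⟨hn, C.toFrame.mem_CE.2 ⟨mem_Cg.1 (C.R_le hn), conj_eq_iff_commute.1 e⟩⟩
  have key : ∀ m : N, (m : G) ∈ C.W ∨ n⁻¹ * (m : G) ∈ C.W := by
    intro m
    have hmR : (m : G) ∈ C.R := (hmemN.1 m.2).1
    rcases hs _ m.2 with e | e
    · exact Or.inl ⟨hmR, C.toFrame.mem_CE.2 ⟨mem_Cg.1 (C.R_le hmR), conj_eq_iff_commute.1 e⟩⟩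
    · refine Or.inr ⟨C.R.mul_mem (C.R.inv_mem hn) hmR,
        C.toFrame.mem_CE.2 ⟨mem_Cg.1 (C.R_le (C.R.mul_mem (C.R.inv_mem hn) hmR)), conj_eq_iff_commute.1 ?_⟩⟩
      calc n⁻¹ * (m : G) * C.s * (n⁻¹ * (m : G))⁻¹ = n⁻¹ * ((m : G) * C.s * (m : G)⁻¹) * n := by group
        _ = n⁻¹ * (n * C.s * n⁻¹) * n := by rw [e, hns]
        _ = C.s := by group
  let f : N → C.W ⊕ C.W := fun m =>
    if h : (m : G) ∈ C.W then Sum.inl ⟨m, h⟩ else Sum.inr ⟨n⁻¹ * m, (key m).resolve_left h⟩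
  have hf : Function.Injective f := by
    intro a b h
    simp only [f] at h
    split_ifs at h with ha hb hb
    · exact Subtype.ext (congrArg (fun z : C.W => (z : G)) (Sum.inl.injEq _ _ ▸ h))
    · exact Subtype.ext (mul_left_cancel (congrArg Subtype.val (Sum.inr.inj h)))
  have hle := Nat.card_le_card_of_injective f hf
  rw [Nat.card_sum] at hle
  have hlt : Nat.card C.W < Nat.card N := by
    refine lt_of_le_of_ne (Subgroup.card_le_of_le hWN) fun e => hnW ?_
    exact (Subgroup.eq_of_le_of_card_ge hWN e.ge).ge hnN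
  rcases C.card_of_invariant C.E_le_W C.W_le_R (fun g => C.x_conj_W) with h | h | h <;>
    rcases C.card_of_invariant (C.E_le_W.trans hWN) inf_le_left hxN with h' | h' | h' <;> omega

omit hGN D in
/-- **The order of `W`.** -/
theorem card_W : Nat.card C.W = 16 ∨ Nat.card C.W = 64 := by
  rcases C.card_of_invariant C.E_le_W C.W_le_R (fun g => C.x_conj_W) with h | h | h
  swap
  · exact Or.inl h
  swap
  · exact Or.inr h
  exfalso
  haveI := Fact.mk Nat.prime_two
  have hWE : C.toFrame.E = C.W := Subgroup.eq_of_le_of_card_ge C.E_le_W (by rw [h, C.toFrame.card_E])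
  haveI : Group.IsNilpotent C.R :=
    (IsPGroup.of_card (n := 6) (by rw [C.card_R]; norm_num) : IsPGroup 2 C.R).isNilpotent
  have hnc := Group.normalizerCondition_of_isNilpotent (G := C.R)
  have hlt : C.toFrame.E.subgroupOf C.R < ⊤ := by
    refine lt_top_iff_ne_top.2 fun e => ?_
    have := congrArg (fun K : Subgroup C.R => Nat.card K) e
    simp only [Subgroup.card_top, C.card_R,
      Nat.card_congr (Subgroup.subgroupOfEquivOfLe C.E_le).toEquiv, C.toFrame.card_E] at this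
    omega
  obtain ⟨m, hm, hm'⟩ := SetLike.exists_of_lt (hnc _ hlt)
  refine hm' (show (m : G) ∈ C.toFrame.E from hWE ▸ C.mem_W_of_normalizes m.2 fun e he => ?_)
  exact (Subgroup.mem_normalizer_iff.1 hm ⟨e, C.E_le he⟩).1 he

end Core

end CfsgLib.MTwentyTwoUnique
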