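import Cfsg.Agent.MTwentyTwoUnique.Joint

/-!
Soundness of the counting rules for the blocks for 11, 7 and 5, and of the combined rules for pairs.
-/

set_option autoImplicit false
set_option linter.style.haveILetI false
set_option linter.unusedSectionVars false

namespace CfsgLib.MTwentyTwoUnique

open Cfsg CfsgLib.Characters CfsgLib.DefectOne CfsgLib.BrauerOrderP
open CfsgLib.Small.Check (Item)
open CfsgLib.MElevenUnique (Cg mem_Cg)

universe u

variable {G : Type u} [Group G] [Fintype G] {p : ℕ} [Fact p.Prime] {L : Local p G}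

open Classical in
/-- The squared degrees of part of the block. -/
theorem Block.sqSum_eq (B : Block L) {l : List (IrrCharacter G)} (hl : l.Perm B.reps) (q : ℕ → Bool) :
    sqSum ((l.map B.item).filter fun x => q x.2.2) =
      ∑ χ ∈ B.chars.filter (fun χ => q (deg χ) = true), deg χ * deg χ := by
  have h := B.sum_int (fun χ => if q (deg χ) = true then (deg χ : ℤ) * deg χ else 0)
    fun χ χ' hh => by simp only [hh.1]
  rw [← Finset.sum_filter, ← (hl.map _).sum_eq] at h
  apply Int.natCast_inj.1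
  push_cast
  rw [h]
  clear h hl
  induction l with
  | nil => simp [sqSum]
  | cons r l ih =>
    rw [List.map_cons, List.map_cons, List.sum_cons, ← ih]
    by_cases hd : q (deg r) = true
    · rw [List.filter_cons_of_pos (p := fun x : Item => q x.2.2) (a := B.item r) hd, if_pos hd]
      simp [sqSum, Block.item]
    · rw [List.filter_cons_of_neg (p := fun x : Item => q x.2.2) (a := B.item r) hd, if_neg hd]
      simp

open Classical in
theorem Block.sqSum_all (B : Block L) {l : List (IrrCharacter G)} (hl : l.Perm B.reps) :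
    sqSum (l.map B.item) = ∑ χ ∈ B.chars, deg χ * deg χ := by
  have h := B.sqSum_eq hl fun _ => true
  simpa using h

theorem deg_one (B : Block L) : deg B.one = 1 := by
  have : ((deg B.one : ℕ) : ℂ) = 1 := by rw [← apply_one, B.one_eq]
  exact Nat.cast_eq_one.1 this

/-- The trivial character is the only linear one. -/
theorem ne_one_of_deg_ne (χ : IrrCharacter G) (h : deg χ ≠ 1) : (χ : G → ℂ) ≠ fun _ => 1 := fun e => by
  have : ((deg χ : ℕ) : ℂ) = 1 := by rw [← apply_one, e]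
  exact h (Nat.cast_eq_one.1 this)

/-- With one item of its degree, the characters of that degree of a block agree on `p'`-elements. -/
theorem Block.alike_of_unique (B : Block L) {l : List (IrrCharacter G)} (hl : l.Perm B.reps) {d : ℕ}
    (h1 : ((l.map B.item).filter fun x => decide (x.2.2 = d)).length = 1) :
    ∃ r ∈ B.reps, deg r = d ∧ ∀ χ ∈ B.chars, deg χ = d → Alike p χ r := by
  obtain ⟨x, hx⟩ := List.length_eq_one_iff.1 h1
  have hmem : ∀ r ∈ l, deg r = d → B.item r = x := fun r hr hd => by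
    have : B.item r ∈ (l.map B.item).filter fun x => decide (x.2.2 = d) :=
      List.mem_filter.2 ⟨List.mem_map_of_mem hr, decide_eq_true hd⟩
    rw [hx, List.mem_singleton] at this
    exact this
  have hx' : x ∈ (l.map B.item).filter fun x => decide (x.2.2 = d) := hx ▸ List.mem_singleton.2 rfl
  obtain ⟨r, hr, rfl⟩ := List.mem_map.1 (List.mem_filter.1 hx').1
  have hd : deg r = d := of_decide_eq_true (List.mem_filter.1 hx').2
  refine ⟨r, hl.subset hr, hd, fun χ hχ hχd => ?_⟩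
  obtain ⟨r', hr', h⟩ := B.alike_rep χ hχ
  suffices r' = r by rwa [← this]
  by_contra hne
  have hr'l := hl.symm.subset hr'
  rw [List.filter_map, List.length_map] at h1
  obtain ⟨z, hz⟩ := List.length_eq_one_iff.1 h1
  have m1 : r ∈ [z] := hz ▸ List.mem_filter.2 ⟨hr, decide_eq_true hd⟩
  have m2 : r' ∈ [z] := hz ▸ List.mem_filter.2 ⟨hr'l, decide_eq_true (show deg r' = d from h.1.symm.trans hχd)⟩
  rw [List.mem_singleton] at m1 m2
  exact hne (m2.trans m1.symm)

open Classical in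
/-- The characters of a degree prime to `p` lie in a block with trivial complement. -/
theorem Block.cntD_ge (B : Block L) (hK : L.K = ⊥) {l : List (IrrCharacter G)} (hl : l.Perm B.reps)
    {d : ℕ} (hd : ¬ p ∣ d) (hd1 : d ≠ 1) {q : ℕ} [Fact q.Prime] {L' : Local q G} (B' : Block L')
    {l' : List (IrrCharacter G)} (hl' : l'.Perm B'.reps) :
    cntD (l'.map B'.item) d ≤ cntD (l.map B.item) d := by
  rw [B.cntD_eq hl, B'.cntD_eq hl']
  refine Finset.card_le_card fun χ hχ => ?_
  obtain ⟨-, hχd⟩ := Finset.mem_filter.1 hχ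
  exact Finset.mem_filter.2
    ⟨mem_chars_of_not_dvd B hK (ne_one_of_deg_ne χ (by rw [hχd]; exact hd1)) (by rw [hχd]; exact hd),
      hχd⟩

theorem Block.deg_ne_one [IsSimpleGroup G] (hG : ¬ IsMulCommutative G) (B : Block L)
    {l : List (IrrCharacter G)} (hl : l.Perm B.reps) {x : Item} (hx : x ∈ l.map B.item) :
    x.2.2 ≠ 1 ∧ ∃ χ ∈ B.chars, deg χ = x.2.2 := by
  obtain ⟨r, hr, rfl⟩ := List.mem_map.1 hx
  have hr' := B.rep_mem r (hl.subset hr)
  exact ⟨(one_lt_deg hG (B.ne_one hr')).ne', r, hr', rfl⟩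

/-- An involution of the complement centralises the Sylow subgroup. -/
theorem exists_involution_dvd (L : Local p G) (h : Nat.card L.K % 2 = 0) :
    ∃ z : G, orderOf z = 2 ∧ p ∣ Nat.card (Cg z) := by
  haveI := Fact.mk Nat.prime_two
  obtain ⟨k, hk⟩ := exists_prime_orderOf_dvd_card' (G := L.K) 2 (Nat.dvd_of_mod_eq_zero h)
  refine ⟨k, by rw [Subgroup.orderOf_coe]; exact hk, ?_⟩
  have hle : (L.P : Subgroup G) ≤ Cg (k : G) := fun w hw => mem_Cg.2 (L.commute hw k.2).eq
  have := Subgroup.card_dvd_of_le hle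
  rwa [L.card_P] at this

variable [IsSimpleGroup G] (hGN : Nat.card G = 443520) [Fact (Nat.Prime 11)] {L₁₁ : Local 11 G}
  (B₁₁ : Block L₁₁)
include hGN

/-- **A block is compatible with the block for 11.** -/
theorem contain_true (B : Block L) {n e' K : ℕ} (hK : Nat.card L.K = K)
    {l₁₁ l : List (IrrCharacter G)} (h₁₁ : l₁₁.Perm B₁₁.reps) (hl : l.Perm B.reps) :
    contain p (l₁₁.map B₁₁.item) (n, e', K, l.map B.item) = true := by
  classical
  have hG := not_comm hGN
  simp only [contain, Bool.and_eq_true, Bool.or_eq_true, List.all_eq_true, decide_eq_true_eq]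
  refine ⟨⟨fun x hx => ?_, ?_⟩, ?_⟩
  · by_cases hd : x.2.2 % 11 = 0
    · exact Or.inl hd
    · exact Or.inr (B₁₁.cntD_ge (K_bot hGN L₁₁) h₁₁ (fun h => hd (Nat.mod_eq_zero_of_dvd h))
        (B.deg_ne_one hG hl hx).1 B hl)
  · rw [B₁₁.sqSum_all h₁₁, B.sqSum_eq hl fun d => decide (d % 11 = 0)]
    set S := B.chars.filter (fun χ => decide (deg χ % 11 = 0) = true)
    have hdisj : Disjoint B₁₁.chars S := Finset.disjoint_left.2 fun χ h h' =>
      B₁₁.not_dvd_deg h (Nat.dvd_of_mod_eq_zero (of_decide_eq_true (Finset.mem_filter.1 h').2))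
    have hone : B₁₁.one ∉ B₁₁.chars ∪ S := fun h => by
      rcases Finset.mem_union.1 h with h | h
      · exact B₁₁.ne_one h B₁₁.one_eq
      · exact B.ne_one (Finset.mem_filter.1 h).1 B₁₁.one_eq
    calc _ = ∑ χ ∈ insert B₁₁.one (B₁₁.chars ∪ S), deg χ * deg χ := by
          rw [Finset.sum_insert hone, Finset.sum_union hdisj, deg_one B₁₁, mul_one, add_assoc]
      _ ≤ ∑ χ : IrrCharacter G, deg χ * deg χ := Finset.sum_le_sum_of_subset (Finset.subset_univ _)
      _ = 443520 := sum_deg_sq hGN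
  · by_cases h1 : K = 1
    · refine Or.inr fun x hx => ?_
      by_cases hd : x.2.2 % p = 0
      · exact Or.inl hd
      · refine Or.inr (le_antisymm ?_ ?_)
        · exact B.cntD_ge (Subgroup.card_eq_one.1 (hK.trans h1)) hl
            (fun h => hd (Nat.mod_eq_zero_of_dvd h)) (B₁₁.deg_ne_one hG h₁₁ hx).1 B₁₁ h₁₁
        · obtain ⟨h1', χ, hχ, hχd⟩ := B₁₁.deg_ne_one hG h₁₁ hx
          exact B₁₁.cntD_ge (K_bot hGN L₁₁) h₁₁ (hχd ▸ B₁₁.not_dvd_deg hχ) h1' B hl
    · exact Or.inl h1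

include B₁₁ in
/-- **Counting across two blocks.** -/
theorem crossOK_true [Fact (Nat.Prime 7)] [Fact (Nat.Prime 5)] {L₇ : Local 7 G} (B₇ : Block L₇)
    {L₅ : Local 5 G} (B₅ : Block L₅) {n₇ e₇ K₇ n₅ e₅ K₅ : ℕ} (hK₇ : Nat.card L₇.K = K₇)
    (hK₅ : Nat.card L₅.K = K₅) {l₁₁ l₇ l₅ : List (IrrCharacter G)} (h₁₁ : l₁₁.Perm B₁₁.reps)
    (h₇ : l₇.Perm B₇.reps) (h₅ : l₅.Perm B₅.reps) :
    crossOK (l₁₁.map B₁₁.item) (n₇, e₇, K₇, l₇.map B₇.item) (n₅, e₅, K₅, l₅.map B₅.item) = true := by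
  classical
  have hG := not_comm hGN
  simp only [crossOK, Bool.and_eq_true, Bool.or_eq_true, List.all_eq_true, decide_eq_true_eq]
  refine ⟨⟨?_, ?_⟩, ?_⟩
  · by_cases h1 : K₅ = 1
    · refine Or.inr fun x hx => ?_
      by_cases hd : x.2.2 % 5 = 0
      · exact Or.inl hd
      · exact Or.inr (B₅.cntD_ge (Subgroup.card_eq_one.1 (hK₅.trans h1)) h₅
          (fun h => hd (Nat.mod_eq_zero_of_dvd h)) (B₇.deg_ne_one hG h₇ hx).1 B₇ h₇)
    · exact Or.inl h1
  · by_cases h1 : K₇ = 1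
    · refine Or.inr fun x hx => ?_
      by_cases hd : x.2.2 % 7 = 0
      · exact Or.inl hd
      · exact Or.inr (B₇.cntD_ge (Subgroup.card_eq_one.1 (hK₇.trans h1)) h₇
          (fun h => hd (Nat.mod_eq_zero_of_dvd h)) (B₅.deg_ne_one hG h₅ hx).1 B₅ h₅)
    · exact Or.inl h1
  · set D := ((l₇.map B₇.item ++ l₅.map B₅.item).map fun x : Item => x.2.2).dedup with hD
    rw [B₁₁.sqSum_all h₁₁, ← List.sum_toFinset _ (List.nodup_dedup _)]
    have hsum : ∑ d ∈ D.toFinset, (if d % 11 = 0 then d * d *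
        max (cntD (l₇.map B₇.item) d) (cntD (l₅.map B₅.item) d) else 0) ≤
        ∑ χ ∈ (Finset.univ : Finset (IrrCharacter G)).filter (fun χ => deg χ % 11 = 0), deg χ * deg χ := by
      calc _ ≤ ∑ d ∈ D.toFinset, ∑ χ ∈ ((Finset.univ : Finset (IrrCharacter G)).filter
            (fun χ => deg χ % 11 = 0 ∧ deg χ ∈ D.toFinset)).filter (fun χ => deg χ = d), deg χ * deg χ := by
            refine Finset.sum_le_sum fun d hd => ?_
            split_ifs with h11
            · rw [Finset.sum_congr rfl (g := fun _ => d * d) fun χ hχ => by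
                rw [(Finset.mem_filter.1 hχ).2], Finset.sum_const, smul_eq_mul, mul_comm]
              refine Nat.mul_le_mul_right _ (max_le ?_ ?_)
              · rw [B₇.cntD_eq h₇]
                exact Finset.card_le_card fun χ hχ => by
                  simp only [Finset.mem_filter, Finset.mem_univ, true_and] at hχ ⊢
                  exact ⟨⟨hχ.2 ▸ h11, hχ.2 ▸ hd⟩, hχ.2⟩
              · rw [B₅.cntD_eq h₅]
                exact Finset.card_le_card fun χ hχ => by
                  simp only [Finset.mem_filter, Finset.mem_univ, true_and] at hχ ⊢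
                  exact ⟨⟨hχ.2 ▸ h11, hχ.2 ▸ hd⟩, hχ.2⟩
            · exact Nat.zero_le _
        _ = ∑ χ ∈ (Finset.univ : Finset (IrrCharacter G)).filter
            (fun χ => deg χ % 11 = 0 ∧ deg χ ∈ D.toFinset), deg χ * deg χ :=
              Finset.sum_fiberwise_of_maps_to (fun χ hχ => (Finset.mem_filter.1 hχ).2.2) _
        _ ≤ _ := Finset.sum_le_sum_of_subset fun χ hχ => by
              simp only [Finset.mem_filter, Finset.mem_univ, true_and] at hχ ⊢
              exact hχ.1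
    set S := (Finset.univ : Finset (IrrCharacter G)).filter (fun χ => deg χ % 11 = 0)
    have hdisj : Disjoint B₁₁.chars S := Finset.disjoint_left.2 fun χ h h' =>
      B₁₁.not_dvd_deg h (Nat.dvd_of_mod_eq_zero (Finset.mem_filter.1 h').2)
    have hone : B₁₁.one ∉ B₁₁.chars ∪ S := fun h => by
      rcases Finset.mem_union.1 h with h | h
      · exact B₁₁.ne_one h B₁₁.one_eq
      · have := (Finset.mem_filter.1 h).2
        rw [deg_one B₁₁] at this
        omega
    refine le_trans (Nat.add_le_add_left hsum _) ?_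
    calc _ = ∑ χ ∈ insert B₁₁.one (B₁₁.chars ∪ S), deg χ * deg χ := by
          rw [Finset.sum_insert hone, Finset.sum_union hdisj, deg_one B₁₁, mul_one, add_assoc]
      _ ≤ ∑ χ : IrrCharacter G, deg χ * deg χ := Finset.sum_le_sum_of_subset (Finset.subset_univ _)
      _ = 443520 := sum_deg_sq hGN

include B₁₁ in
/-- **Values at an involution exist for both blocks.** -/
theorem joint_true [Fact (Nat.Prime 7)] [Fact (Nat.Prime 5)] {L₇ : Local 7 G} (B₇ : Block L₇)
    {L₅ : Local 5 G} (B₅ : Block L₅) {n₇ e₇ K₇ n₅ e₅ K₅ : ℕ}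
    (hn₇ : Nat.card (Sylow 7 G) = n₇) (he₇ : e L₇ = e₇) (hK₇ : Nat.card L₇.K = K₇)
    (hn₅ : Nat.card (Sylow 5 G) = n₅) (he₅ : e L₅ = e₅) (hK₅ : Nat.card L₅.K = K₅)
    {l₁₁ l₇ l₅ : List (IrrCharacter G)} (h₁₁ : l₁₁.Perm B₁₁.reps) (h₇ : l₇.Perm B₇.reps)
    (h₅ : l₅.Perm B₅.reps) {W : List (ℕ × List (List ℤ × ℤ))}
    (hW : (W.all fun c => vals 443520 c.1 (l₁₁.map B₁₁.item) == c.2) = true) {t : G} (ht : orderOf t = 2)
    {fix : Option (ℕ × ℤ)}
    (hfix : ∀ f, fix = some f → ∀ χ : IrrCharacter G, deg χ = f.1 → (χ : G → ℂ) ≠ (fun _ => 1) →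
      val χ t = f.2) :
    joint (l₁₁.map B₁₁.item) W [(7, (n₇, e₇, K₇, l₇.map B₇.item)), (5, (n₅, e₅, K₅, l₅.map B₅.item))]
      fix (Nat.card (Cg t)) = true := by
  have hw := vals_mem hGN B₁₁ ht h₁₁
  rw [← look_eq hW] at hw
  simp only [joint, List.all_cons, List.all_nil, Bool.and_true, Bool.and_eq_true, List.any_eq_true]
  exact ⟨⟨okC_true hGN ht (by norm_num) hn₇ hK₇, okC_true hGN ht (by norm_num) hn₅ hK₅⟩, _, hw,
    feas_true hGN B₁₁ B₇ (by norm_num) hn₇ he₇ hK₇ ht h₁₁ h₇ hfix,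
    feas_true hGN B₁₁ B₅ (by norm_num) hn₅ he₅ hK₅ ht h₁₁ h₅ hfix⟩

include B₁₁ in
/-- **The combined test.** -/
theorem shared_true [Fact (Nat.Prime 7)] [Fact (Nat.Prime 5)] {L₇ : Local 7 G} (B₇ : Block L₇)
    {L₅ : Local 5 G} (B₅ : Block L₅) {n₇ e₇ K₇ n₅ e₅ K₅ : ℕ}
    (hn₇ : Nat.card (Sylow 7 G) = n₇) (he₇ : e L₇ = e₇) (hK₇ : Nat.card L₇.K = K₇)
    (hn₅ : Nat.card (Sylow 5 G) = n₅) (he₅ : e L₅ = e₅) (hK₅ : Nat.card L₅.K = K₅)
    {l₁₁ l₇ l₅ : List (IrrCharacter G)} (h₁₁ : l₁₁.Perm B₁₁.reps) (h₇ : l₇.Perm B₇.reps)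
    (h₅ : l₅.Perm B₅.reps) {W : List (ℕ × List (List ℤ × ℤ))}
    (hW : (W.all fun c => vals 443520 c.1 (l₁₁.map B₁₁.item) == c.2) = true) {t : G} (ht : orderOf t = 2) :
    shared (l₁₁.map B₁₁.item) W (n₇, e₇, K₇, l₇.map B₇.item) (n₅, e₅, K₅, l₅.map B₅.item)
      (Nat.card (Cg t)) = true := by
  classical
  have hG := not_comm hGN
  unfold shared
  split
  · exact joint_true hGN B₁₁ B₇ B₅ hn₇ he₇ hK₇ hn₅ he₅ hK₅ h₁₁ h₇ h₅ hW ht (fun f hf => by cases hf)
  · rename_i d hd
    unfold shareD at hd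
    split_ifs at hd with h1
    simp only [decide_eq_true_eq] at h1
    have hd' := List.find?_some hd
    simp only [Bool.and_eq_true, decide_eq_true_eq] at hd'
    obtain ⟨⟨⟨h11, h7⟩, hlen⟩, -⟩ := hd'
    obtain ⟨r, hr, hrd, hall⟩ := B₇.alike_of_unique h₇ hlen
    have hr' := B₇.rep_mem r hr
    obtain ⟨h4, hi, hlo, hhi⟩ := (val_spec hG r ht).2 (B₇.ne_one hr')
    have hC := Cg_mem_invOrders hGN ht
    simp only [invOrders, List.mem_filter, Bool.and_eq_true, decide_eq_true_eq] at hC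
    have hsq : val r t * val r t < (Nat.card (Cg t) : ℤ) := by
      rw [← sum_val_sq hGN ht]
      have hne : r ≠ B₇.one := ((B₇.mem_chars r).1 hr').2
      calc val r t * val r t < val r t * val r t + val B₇.one t * val B₇.one t := by
            rw [val_one hGN B₇]; omega
        _ = ∑ χ ∈ ({r, B₇.one} : Finset (IrrCharacter G)), val χ t * val χ t :=
              (Finset.sum_pair (f := fun χ => val χ t * val χ t) hne).symm
        _ ≤ _ := Finset.sum_le_sum_of_subset_of_nonneg (Finset.subset_univ _)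
              fun χ _ _ => mul_self_nonneg _
    rw [List.any_eq_true]
    refine ⟨val r t, mem_cvals (hrd ▸ hlo) (hrd ▸ hhi) (natAbs_le_bnd hsq (by omega)) ?_ ?_, ?_⟩
    · rw [show (443520 / Nat.card (Cg t) : ℕ) = (Cg t).index by
        rw [← hGN, ← (Cg t).index_mul_card, Nat.mul_div_cancel _ Nat.card_pos], ← hrd]
      exact hi
    · rw [← hrd]
      exact Int.dvd_of_emod_eq_zero (show ((deg r : ℤ) - val r t) % 4 = 0 by
        rw [Int.sub_emod, h4, sub_self, Int.zero_emod])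
    · simp only [Bool.and_eq_true, decide_eq_true_eq]
      refine ⟨hsq, joint_true hGN B₁₁ B₇ B₅ hn₇ he₇ hK₇ hn₅ he₅ hK₅ h₁₁ h₇ h₅ hW ht fun f hf χ hχd hχ1 => ?_⟩
      cases hf
      refine val_congr (by norm_num) hG ht (hall χ ?_ hχd)
      exact mem_chars_of_not_dvd B₇ (Subgroup.card_eq_one.1 (hK₇.trans h1)) hχ1
        (fun h => h7 (by rw [show deg χ = d from hχd] at h; exact Nat.mod_eq_zero_of_dvd h))

include B₁₁ in
/-- A block survives alone. -/
theorem alone_true (B : Block L) (hp : p ≠ 2) {n e' K : ℕ} (hn : Nat.card (Sylow p G) = n)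
    (he : e L = e') (hK : Nat.card L.K = K) {l₁₁ l : List (IrrCharacter G)} (h₁₁ : l₁₁.Perm B₁₁.reps)
    (hl : l.Perm B.reps) {W : List (ℕ × List (List ℤ × ℤ))}
    (hW : (W.all fun c => vals 443520 c.1 (l₁₁.map B₁₁.item) == c.2) = true) :
    alone p (l₁₁.map B₁₁.item) W (n, e', K, l.map B.item) = true := by
  simp only [alone, contain_true hGN B₁₁ B hK h₁₁ hl, Bool.true_and, Bool.or_eq_true, decide_eq_true_eq,
    List.any_eq_true, Bool.and_eq_true]
  by_cases hK2 : K % 2 = 1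
  · exact Or.inl hK2
  · obtain ⟨z, hz, hC⟩ := exists_involution_dvd L (by omega)
    have hw := vals_mem hGN B₁₁ hz h₁₁
    rw [← look_eq hW] at hw
    refine Or.inr ⟨_, Cg_mem_invOrders hGN hz, Nat.mod_eq_zero_of_dvd hC, ?_⟩
    simp only [joint, List.all_cons, List.all_nil, Bool.and_true, Bool.and_eq_true, List.any_eq_true]
    exact ⟨okC_true hGN hz hp hn hK, _, hw,
      feas_true hGN B₁₁ B hp hn he hK hz h₁₁ hl fun f hf => by cases hf⟩

end CfsgLib.MTwentyTwoUnique
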