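import Cfsg.Agent.MTwentyTwoUnique.Search

/-!
The possible blocks for 11, 7 and 5, and the value lists that occur in the search.
-/

set_option autoImplicit false
set_option maxRecDepth 100000

namespace CfsgLib.MTwentyTwoUnique

open CfsgLib.Small.Check (Item)

/-- The blocks for 11 with values at a Sylow-central involution. -/
def lits11 : List (List Item) :=
  [[(-1, 1, 252), (1, 1, 210), (-1, 1, 120), (1, 2, 105), (1, 1, 56)],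
   [(-1, 2, 280), (1, 1, 210), (1, 1, 144), (-1, 1, 120), (1, 1, 45)],
   [(1, 1, 320), (-1, 2, 126), (-1, 1, 120), (-1, 1, 120), (1, 1, 45)],
   [(1, 1, 210), (-1, 1, 120), (-1, 1, 120), (1, 1, 45), (-1, 2, 16)],
   [(1, 1, 210), (-1, 2, 192), (-1, 1, 120), (1, 1, 56), (1, 1, 45)],
   [(1, 1, 144), (-1, 2, 126), (-1, 1, 120), (1, 1, 56), (1, 1, 45)],
   [(-1, 1, 384), (1, 1, 320), (1, 1, 210), (-1, 2, 126), (-1, 1, 21)],
   [(-1, 1, 384), (1, 1, 210), (1, 1, 210), (-1, 1, 21), (-1, 2, 16)],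
   [(-1, 2, 280), (1, 1, 210), (1, 1, 210), (-1, 1, 120), (-1, 1, 21)],
   [(1, 2, 336), (-1, 1, 252), (-1, 1, 120), (1, 1, 56), (-1, 1, 21)],
   [(1, 1, 210), (-1, 2, 126), (-1, 1, 120), (1, 1, 56), (-1, 1, 21)],
   [(-1, 2, 280), (1, 1, 210), (1, 1, 45), (1, 1, 45), (-1, 1, 21)],
   [(-1, 2, 126), (1, 1, 56), (1, 1, 45), (1, 1, 45), (-1, 1, 21)],
   [(-1, 2, 60), (1, 1, 56), (1, 1, 56), (-1, 1, 32), (-1, 1, 21)],
   [(1, 2, 336), (-1, 1, 252), (-1, 1, 32), (-1, 1, 32), (-1, 1, 21)],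
   [(1, 1, 210), (-1, 2, 126), (-1, 1, 32), (-1, 1, 32), (-1, 1, 21)],
   [(-1, 1, 384), (1, 1, 320), (1, 2, 105), (-1, 1, 21), (-1, 1, 21)],
   [(-1, 1, 120), (1, 2, 105), (1, 1, 56), (-1, 1, 21), (-1, 1, 21)],
   [(-1, 2, 60), (1, 1, 56), (1, 1, 45), (-1, 1, 21), (-1, 1, 21)],
   [(1, 2, 105), (-1, 1, 32), (-1, 1, 32), (-1, 1, 21), (-1, 1, 21)],
   [(1, 1, 56), (-1, 1, 21), (-1, 1, 21), (-1, 1, 21), (1, 2, 6)],
   [(-1, 1, 120), (1, 1, 56), (1, 1, 56), (1, 1, 12), (-1, 2, 5)],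
   [(1, 1, 144), (-1, 1, 120), (-1, 1, 32), (1, 1, 12), (-1, 2, 5)],
   [(1, 1, 45), (-1, 1, 32), (-1, 1, 21), (1, 1, 12), (-1, 2, 5)],
   [(1, 1, 144), (-1, 1, 120), (-1, 1, 120), (1, 2, 105), (-1, 1, 10)],
   [(1, 1, 210), (-1, 2, 126), (-1, 1, 120), (1, 1, 45), (-1, 1, 10)],
   [(1, 1, 144), (-1, 1, 120), (-1, 2, 60), (1, 1, 45), (-1, 1, 10)],
   [(-1, 2, 126), (1, 1, 45), (1, 1, 45), (1, 1, 45), (-1, 1, 10)],
   [(-1, 1, 120), (1, 2, 105), (1, 1, 56), (-1, 1, 32), (-1, 1, 10)],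
   [(-1, 2, 60), (1, 1, 56), (1, 1, 45), (-1, 1, 32), (-1, 1, 10)],
   [(-1, 1, 120), (1, 2, 105), (1, 1, 45), (-1, 1, 21), (-1, 1, 10)],
   [(-1, 2, 60), (1, 1, 45), (1, 1, 45), (-1, 1, 21), (-1, 1, 10)],
   [(-1, 1, 120), (1, 2, 72), (1, 1, 45), (1, 1, 12), (-1, 1, 10)],
   [(-1, 1, 120), (1, 2, 105), (1, 1, 12), (1, 1, 12), (-1, 1, 10)],
   [(-1, 2, 60), (1, 1, 45), (1, 1, 12), (1, 1, 12), (-1, 1, 10)],
   [(1, 1, 144), (-1, 1, 120), (-1, 1, 10), (-1, 1, 10), (-1, 2, 5)],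
   [(1, 1, 56), (-1, 1, 32), (-1, 1, 10), (-1, 1, 10), (-1, 2, 5)],
   [(1, 1, 12), (1, 1, 12), (-1, 1, 10), (-1, 1, 10), (-1, 2, 5)],
   [(1, 1, 45), (-1, 2, 16), (-1, 1, 10), (-1, 1, 10), (-1, 1, 10)]]

/-- The other solutions of the degree conditions for 11. -/
def rest11 : List (List Item) :=
  [[(-1, 1, 384), (1, 1, 320), (1, 1, 320), (-1, 1, 252), (-1, 2, 5)],
   [(-1, 1, 384), (1, 1, 320), (-1, 1, 252), (1, 1, 210), (1, 2, 105)],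
   [(-1, 1, 560), (1, 1, 210), (1, 1, 210), (1, 1, 144), (-1, 2, 5)],
   [(1, 1, 320), (-1, 1, 252), (-1, 1, 120), (1, 1, 56), (-1, 2, 5)],
   [(-1, 1, 252), (1, 1, 144), (1, 1, 56), (1, 1, 56), (-1, 2, 5)],
   [(-1, 1, 384), (1, 1, 320), (1, 1, 210), (-1, 2, 192), (1, 1, 45)],
   [(-1, 1, 384), (1, 1, 320), (1, 1, 144), (-1, 2, 126), (1, 1, 45)],
   [(-1, 1, 560), (1, 1, 210), (1, 2, 160), (1, 1, 144), (1, 1, 45)],
   [(-1, 1, 384), (1, 1, 210), (1, 1, 144), (1, 1, 45), (-1, 2, 16)],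
   [(1, 1, 320), (-1, 1, 252), (-1, 1, 120), (1, 1, 45), (1, 2, 6)],
   [(-1, 1, 384), (1, 1, 210), (1, 2, 72), (1, 1, 56), (1, 1, 45)],
   [(-1, 1, 252), (1, 1, 210), (-1, 2, 60), (1, 1, 56), (1, 1, 45)],
   [(-1, 1, 252), (1, 1, 144), (1, 1, 56), (1, 1, 45), (1, 2, 6)],
   [(-1, 1, 252), (1, 2, 105), (1, 1, 56), (1, 1, 45), (1, 1, 45)],
   [(-1, 2, 280), (1, 1, 144), (1, 1, 45), (1, 1, 45), (1, 1, 45)],
   [(-1, 1, 120), (1, 1, 45), (1, 1, 45), (1, 1, 45), (-1, 2, 16)],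
   [(-1, 2, 192), (1, 1, 56), (1, 1, 45), (1, 1, 45), (1, 1, 45)],
   [(-1, 1, 384), (1, 1, 210), (1, 1, 210), (-1, 1, 32), (-1, 2, 5)],
   [(-1, 1, 252), (1, 1, 144), (1, 1, 144), (-1, 1, 32), (-1, 2, 5)],
   [(-1, 1, 384), (1, 1, 210), (1, 2, 160), (1, 1, 45), (-1, 1, 32)],
   [(-1, 1, 252), (1, 1, 210), (1, 1, 45), (-1, 1, 32), (1, 2, 28)],
   [(-1, 2, 280), (1, 1, 210), (1, 1, 56), (1, 1, 45), (-1, 1, 32)],
   [(-1, 2, 126), (1, 1, 56), (1, 1, 56), (1, 1, 45), (-1, 1, 32)],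
   [(1, 1, 320), (-1, 1, 252), (-1, 1, 32), (-1, 1, 32), (-1, 2, 5)],
   [(-1, 1, 252), (1, 1, 210), (1, 2, 105), (-1, 1, 32), (-1, 1, 32)],
   [(1, 1, 210), (-1, 2, 192), (1, 1, 45), (-1, 1, 32), (-1, 1, 32)],
   [(1, 1, 144), (-1, 2, 126), (1, 1, 45), (-1, 1, 32), (-1, 1, 32)],
   [(-1, 1, 384), (1, 1, 320), (1, 1, 144), (-1, 2, 60), (-1, 1, 21)],
   [(1, 1, 320), (-1, 1, 252), (-1, 2, 192), (1, 1, 144), (-1, 1, 21)],
   [(-1, 1, 252), (1, 1, 144), (1, 1, 144), (-1, 1, 21), (-1, 2, 16)],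
   [(1, 1, 320), (-1, 1, 252), (-1, 1, 120), (1, 2, 72), (-1, 1, 21)],
   [(1, 1, 320), (-1, 1, 120), (-1, 1, 120), (-1, 2, 60), (-1, 1, 21)],
   [(-1, 1, 384), (1, 1, 320), (1, 1, 56), (1, 2, 28), (-1, 1, 21)],
   [(-1, 1, 252), (1, 1, 210), (1, 1, 56), (-1, 1, 21), (1, 2, 6)],
   [(-1, 1, 252), (1, 1, 144), (1, 2, 72), (1, 1, 56), (-1, 1, 21)],
   [(1, 1, 144), (-1, 1, 120), (-1, 2, 60), (1, 1, 56), (-1, 1, 21)],
   [(-1, 1, 252), (1, 2, 160), (1, 1, 56), (1, 1, 56), (-1, 1, 21)],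
   [(-1, 1, 120), (1, 1, 56), (1, 1, 56), (1, 2, 28), (-1, 1, 21)],
   [(1, 1, 320), (-1, 1, 252), (-1, 1, 32), (-1, 1, 21), (-1, 2, 16)],
   [(-1, 1, 252), (1, 2, 160), (1, 1, 144), (-1, 1, 32), (-1, 1, 21)],
   [(1, 1, 144), (-1, 1, 120), (-1, 1, 32), (1, 2, 28), (-1, 1, 21)],
   [(1, 1, 144), (-1, 2, 60), (-1, 1, 32), (-1, 1, 32), (-1, 1, 21)],
   [(1, 1, 56), (-1, 1, 32), (-1, 1, 32), (1, 2, 28), (-1, 1, 21)],
   [(1, 1, 45), (-1, 1, 32), (1, 2, 28), (-1, 1, 21), (-1, 1, 21)],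
   [(-1, 1, 384), (1, 1, 320), (1, 1, 56), (1, 1, 12), (-1, 2, 5)],
   [(-1, 1, 384), (1, 1, 210), (1, 2, 105), (1, 1, 56), (1, 1, 12)],
   [(-1, 1, 384), (1, 1, 320), (1, 1, 45), (1, 1, 12), (1, 2, 6)],
   [(1, 1, 320), (-1, 1, 252), (-1, 2, 126), (1, 1, 45), (1, 1, 12)],
   [(-1, 1, 252), (1, 1, 210), (1, 1, 45), (-1, 2, 16), (1, 1, 12)],
   [(-1, 1, 120), (1, 1, 56), (1, 1, 45), (1, 1, 12), (1, 2, 6)],
   [(1, 1, 56), (-1, 1, 32), (-1, 1, 32), (1, 1, 12), (-1, 2, 5)],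
   [(1, 1, 45), (-1, 1, 32), (-1, 1, 32), (1, 1, 12), (1, 2, 6)],
   [(-1, 1, 384), (1, 1, 320), (1, 2, 72), (-1, 1, 21), (1, 1, 12)],
   [(1, 1, 320), (-1, 1, 252), (-1, 2, 60), (-1, 1, 21), (1, 1, 12)],
   [(-1, 2, 280), (1, 1, 144), (1, 1, 144), (-1, 1, 21), (1, 1, 12)],
   [(1, 1, 320), (-1, 2, 192), (-1, 1, 120), (-1, 1, 21), (1, 1, 12)],
   [(1, 1, 144), (-1, 1, 120), (-1, 1, 21), (-1, 2, 16), (1, 1, 12)],
   [(-1, 1, 384), (1, 2, 336), (1, 1, 56), (-1, 1, 21), (1, 1, 12)],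
   [(-1, 2, 192), (1, 1, 144), (1, 1, 56), (-1, 1, 21), (1, 1, 12)],
   [(-1, 1, 120), (1, 2, 72), (1, 1, 56), (-1, 1, 21), (1, 1, 12)],
   [(1, 1, 320), (-1, 2, 280), (-1, 1, 32), (-1, 1, 21), (1, 1, 12)],
   [(1, 2, 160), (-1, 1, 120), (-1, 1, 32), (-1, 1, 21), (1, 1, 12)],
   [(1, 1, 56), (-1, 1, 32), (-1, 1, 21), (-1, 2, 16), (1, 1, 12)],
   [(1, 2, 72), (-1, 1, 32), (-1, 1, 32), (-1, 1, 21), (1, 1, 12)],
   [(1, 1, 45), (-1, 1, 21), (-1, 1, 21), (-1, 2, 16), (1, 1, 12)],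
   [(-1, 2, 280), (1, 1, 210), (1, 1, 45), (1, 1, 12), (1, 1, 12)],
   [(-1, 2, 126), (1, 1, 56), (1, 1, 45), (1, 1, 12), (1, 1, 12)],
   [(-1, 2, 60), (1, 1, 56), (-1, 1, 21), (1, 1, 12), (1, 1, 12)],
   [(-1, 1, 32), (1, 2, 28), (-1, 1, 21), (1, 1, 12), (1, 1, 12)],
   [(-1, 1, 32), (1, 1, 12), (1, 1, 12), (1, 1, 12), (-1, 2, 5)],
   [(-1, 1, 21), (-1, 2, 16), (1, 1, 12), (1, 1, 12), (1, 1, 12)],
   [(-1, 1, 384), (1, 1, 144), (1, 1, 144), (1, 2, 105), (-1, 1, 10)],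
   [(-1, 1, 252), (1, 1, 210), (1, 1, 56), (-1, 1, 10), (-1, 2, 5)],
   [(-1, 1, 384), (1, 1, 320), (1, 1, 45), (1, 2, 28), (-1, 1, 10)],
   [(-1, 1, 252), (1, 1, 210), (1, 1, 45), (-1, 1, 10), (1, 2, 6)],
   [(-1, 1, 252), (1, 1, 144), (1, 2, 72), (1, 1, 45), (-1, 1, 10)],
   [(1, 2, 336), (-1, 1, 252), (-1, 1, 120), (1, 1, 45), (-1, 1, 10)],
   [(-1, 1, 252), (1, 2, 160), (1, 1, 56), (1, 1, 45), (-1, 1, 10)],
   [(-1, 1, 120), (1, 1, 56), (1, 1, 45), (1, 2, 28), (-1, 1, 10)],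
   [(-1, 1, 384), (1, 1, 320), (1, 2, 105), (-1, 1, 32), (-1, 1, 10)],
   [(1, 1, 45), (-1, 1, 32), (-1, 1, 32), (1, 2, 28), (-1, 1, 10)],
   [(1, 2, 105), (-1, 1, 32), (-1, 1, 32), (-1, 1, 32), (-1, 1, 10)],
   [(-1, 1, 252), (1, 1, 210), (1, 2, 72), (-1, 1, 21), (-1, 1, 10)],
   [(1, 1, 210), (-1, 1, 120), (-1, 2, 60), (-1, 1, 21), (-1, 1, 10)],
   [(1, 1, 144), (-1, 1, 120), (-1, 1, 21), (-1, 1, 10), (1, 2, 6)],
   [(1, 1, 56), (-1, 1, 32), (-1, 1, 21), (-1, 1, 10), (1, 2, 6)],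
   [(1, 1, 56), (-1, 1, 21), (-1, 1, 21), (-1, 1, 10), (-1, 2, 5)],
   [(1, 1, 45), (-1, 1, 21), (-1, 1, 21), (-1, 1, 10), (1, 2, 6)],
   [(1, 2, 72), (-1, 1, 21), (-1, 1, 21), (-1, 1, 21), (-1, 1, 10)],
   [(-1, 1, 252), (1, 1, 144), (1, 2, 105), (1, 1, 12), (-1, 1, 10)],
   [(-1, 1, 384), (1, 2, 336), (1, 1, 45), (1, 1, 12), (-1, 1, 10)],
   [(-1, 2, 192), (1, 1, 144), (1, 1, 45), (1, 1, 12), (-1, 1, 10)],
   [(1, 1, 45), (-1, 1, 32), (-1, 2, 16), (1, 1, 12), (-1, 1, 10)],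
   [(1, 1, 210), (-1, 2, 192), (-1, 1, 21), (1, 1, 12), (-1, 1, 10)],
   [(1, 1, 144), (-1, 2, 126), (-1, 1, 21), (1, 1, 12), (-1, 1, 10)],
   [(-1, 1, 21), (1, 1, 12), (1, 1, 12), (-1, 1, 10), (1, 2, 6)],
   [(1, 1, 45), (-1, 1, 32), (-1, 1, 10), (-1, 1, 10), (1, 2, 6)],
   [(1, 1, 320), (-1, 2, 280), (-1, 1, 21), (-1, 1, 10), (-1, 1, 10)],
   [(1, 2, 160), (-1, 1, 120), (-1, 1, 21), (-1, 1, 10), (-1, 1, 10)],
   [(1, 1, 56), (-1, 1, 21), (-1, 2, 16), (-1, 1, 10), (-1, 1, 10)],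
   [(1, 1, 45), (-1, 1, 21), (-1, 1, 10), (-1, 1, 10), (-1, 2, 5)],
   [(1, 2, 72), (-1, 1, 32), (-1, 1, 21), (-1, 1, 10), (-1, 1, 10)],
   [(1, 2, 28), (-1, 1, 21), (1, 1, 12), (-1, 1, 10), (-1, 1, 10)]]

/-- The blocks for 7 compatible with those for 11. -/
def lits7 : List Opt :=
  [(330, 3, 64, [(1, 1, 99), (-1, 1, 55), (-1, 2, 45)]),
   (330, 3, 64, [(-1, 2, 45), (1, 1, 22), (1, 1, 22)]),
   (1408, 3, 15, [(1, 2, 11), (-1, 1, 6), (-1, 1, 6)]),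
   (2640, 3, 8, [(1, 1, 176), (-1, 1, 132), (-1, 2, 45)]),
   (2640, 3, 8, [(-1, 1, 132), (1, 1, 120), (1, 2, 11)]),
   (2640, 3, 8, [(-1, 2, 220), (1, 1, 120), (1, 1, 99)]),
   (2640, 3, 8, [(1, 1, 120), (-1, 2, 66), (-1, 1, 55)]),
   (2640, 3, 8, [(1, 1, 99), (-1, 1, 55), (-1, 2, 45)]),
   (2640, 3, 8, [(-1, 2, 45), (1, 1, 22), (1, 1, 22)]),
   (2640, 6, 4, [(-1, 1, 440), (1, 1, 176), (1, 1, 176), (-1, 1, 132), (1, 1, 120), (1, 1, 99)]),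
   (2640, 6, 4, [(1, 1, 176), (-1, 1, 132), (-1, 1, 132), (-1, 1, 132), (1, 1, 120), (1, 1, 99)]),
   (2640, 6, 4, [(-1, 1, 440), (1, 1, 330), (1, 1, 176), (-1, 1, 132), (1, 1, 120), (-1, 1, 55)]),
   (2640, 6, 4, [(1, 1, 330), (-1, 1, 132), (-1, 1, 132), (-1, 1, 132), (1, 1, 120), (-1, 1, 55)]),
   (2640, 6, 4, [(-1, 1, 440), (1, 1, 176), (1, 1, 120), (1, 1, 99), (1, 1, 99), (-1, 1, 55)]),
   (2640, 6, 4, [(-1, 1, 132), (-1, 1, 132), (1, 1, 120), (1, 1, 99), (1, 1, 99), (-1, 1, 55)]),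
   (2640, 6, 4, [(-1, 1, 440), (1, 1, 330), (1, 1, 120), (1, 1, 99), (-1, 1, 55), (-1, 1, 55)]),
   (2640, 6, 4, [(1, 1, 176), (-1, 1, 132), (1, 1, 120), (-1, 1, 55), (-1, 1, 55), (-1, 1, 55)]),
   (2640, 6, 4, [(1, 1, 120), (1, 1, 99), (-1, 1, 55), (-1, 1, 55), (-1, 1, 55), (-1, 1, 55)]),
   (2640, 6, 4, [(-1, 1, 440), (1, 1, 330), (-1, 1, 132), (1, 1, 120), (1, 1, 99), (1, 1, 22)]),
   (2640, 6, 4, [(-1, 1, 440), (1, 1, 120), (1, 1, 99), (1, 1, 99), (1, 1, 99), (1, 1, 22)]),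
   (2640, 6, 4, [(-1, 1, 440), (1, 1, 176), (1, 1, 176), (1, 1, 120), (-1, 1, 55), (1, 1, 22)]),
   (2640, 6, 4, [(1, 1, 176), (-1, 1, 132), (-1, 1, 132), (1, 1, 120), (-1, 1, 55), (1, 1, 22)]),
   (2640, 6, 4, [(-1, 1, 132), (1, 1, 120), (1, 1, 99), (-1, 1, 55), (-1, 1, 55), (1, 1, 22)]),
   (2640, 6, 4, [(-1, 1, 440), (1, 1, 176), (1, 1, 120), (1, 1, 99), (1, 1, 22), (1, 1, 22)]),
   (2640, 6, 4, [(-1, 1, 132), (-1, 1, 132), (1, 1, 120), (1, 1, 99), (1, 1, 22), (1, 1, 22)]),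
   (2640, 6, 4, [(-1, 1, 440), (1, 1, 330), (1, 1, 120), (-1, 1, 55), (1, 1, 22), (1, 1, 22)]),
   (2640, 6, 4, [(1, 1, 120), (-1, 1, 55), (-1, 1, 55), (-1, 1, 55), (1, 1, 22), (1, 1, 22)]),
   (2640, 6, 4, [(-1, 1, 132), (1, 1, 120), (-1, 1, 55), (1, 1, 22), (1, 1, 22), (1, 1, 22)]),
   (21120, 3, 1, [(1, 1, 176), (-1, 1, 132), (-1, 2, 45)]),
   (21120, 3, 1, [(-1, 1, 132), (1, 1, 120), (1, 2, 11)]),
   (21120, 3, 1, [(-1, 1, 132), (1, 1, 99), (1, 2, 32)]),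
   (21120, 3, 1, [(-1, 2, 220), (1, 1, 120), (1, 1, 99)]),
   (21120, 3, 1, [(1, 1, 120), (-1, 2, 66), (-1, 1, 55)]),
   (21120, 3, 1, [(1, 1, 99), (-1, 1, 55), (-1, 2, 45)]),
   (21120, 3, 1, [(-1, 1, 55), (1, 2, 32), (1, 1, 22)]),
   (21120, 3, 1, [(-1, 2, 45), (1, 1, 22), (1, 1, 22)]),
   (21120, 3, 1, [(1, 2, 11), (-1, 1, 6), (-1, 1, 6)])]

/-- The blocks for 5 compatible with those for 11. -/
def lits5 : List Opt :=
  [(66, 2, 672, [(-1, 2, 12), (1, 1, 11)]),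
   (176, 4, 126, [(-1, 1, 44), (1, 1, 16), (1, 1, 16), (1, 1, 11)]),
   (231, 2, 192, [(-1, 2, 22), (1, 1, 21)]),
   (231, 4, 96, [(-1, 1, 154), (1, 1, 66), (1, 1, 66), (1, 1, 21)]),
   (231, 4, 96, [(1, 1, 66), (-1, 1, 44), (-1, 1, 44), (1, 1, 21)]),
   (231, 4, 96, [(-1, 1, 44), (1, 1, 21), (1, 1, 11), (1, 1, 11)]),
   (396, 2, 112, [(-1, 2, 12), (1, 1, 11)]),
   (396, 4, 56, [(1, 1, 176), (-1, 1, 144), (-1, 1, 99), (1, 1, 66)]),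
   (396, 4, 56, [(-1, 1, 99), (1, 1, 66), (1, 1, 16), (1, 1, 16)]),
   (396, 4, 56, [(1, 1, 396), (-1, 1, 264), (-1, 1, 144), (1, 1, 11)]),
   (396, 4, 56, [(-1, 1, 144), (1, 1, 66), (1, 1, 66), (1, 1, 11)]),
   (396, 4, 56, [(1, 1, 176), (-1, 1, 144), (-1, 1, 44), (1, 1, 11)]),
   (396, 4, 56, [(-1, 1, 44), (1, 1, 16), (1, 1, 16), (1, 1, 11)]),
   (616, 4, 36, [(-1, 1, 44), (1, 1, 16), (1, 1, 16), (1, 1, 11)]),
   (1056, 2, 42, [(-1, 2, 12), (1, 1, 11)]),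
   (1056, 4, 21, [(-1, 1, 44), (1, 1, 16), (1, 1, 16), (1, 1, 11)]),
   (1386, 2, 32, [(-1, 2, 22), (1, 1, 21)]),
   (1386, 2, 32, [(-1, 2, 12), (1, 1, 11)]),
   (1386, 4, 16, [(-1, 1, 154), (1, 1, 126), (1, 1, 126), (-1, 1, 99)]),
   (1386, 4, 16, [(1, 1, 396), (-1, 1, 264), (-1, 1, 154), (1, 1, 21)]),
   (1386, 4, 16, [(1, 1, 231), (-1, 1, 154), (-1, 1, 99), (1, 1, 21)]),
   (1386, 4, 16, [(-1, 1, 154), (1, 1, 66), (1, 1, 66), (1, 1, 21)]),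
   (1386, 4, 16, [(1, 1, 66), (-1, 1, 44), (-1, 1, 44), (1, 1, 21)]),
   (1386, 4, 16, [(-1, 1, 99), (1, 1, 56), (1, 1, 21), (1, 1, 21)]),
   (1386, 4, 16, [(-1, 1, 264), (1, 1, 126), (1, 1, 126), (1, 1, 11)]),
   (1386, 4, 16, [(-1, 1, 264), (1, 1, 231), (1, 1, 21), (1, 1, 11)]),
   (1386, 4, 16, [(-1, 1, 99), (1, 1, 66), (1, 1, 21), (1, 1, 11)]),
   (1386, 4, 16, [(-1, 1, 44), (1, 1, 21), (1, 1, 11), (1, 1, 11)]),
   (3696, 2, 12, [(-1, 2, 22), (1, 1, 21)]),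
   (3696, 2, 12, [(-1, 2, 12), (1, 1, 11)]),
   (3696, 4, 6, [(-1, 1, 264), (1, 1, 176), (1, 1, 66), (1, 1, 21)]),
   (3696, 4, 6, [(-1, 1, 154), (1, 1, 66), (1, 1, 66), (1, 1, 21)]),
   (3696, 4, 6, [(1, 1, 176), (-1, 1, 154), (-1, 1, 44), (1, 1, 21)]),
   (3696, 4, 6, [(1, 1, 66), (-1, 1, 44), (-1, 1, 44), (1, 1, 21)]),
   (3696, 4, 6, [(-1, 1, 264), (1, 1, 231), (1, 1, 16), (1, 1, 16)]),
   (3696, 4, 6, [(-1, 1, 264), (1, 1, 231), (1, 1, 21), (1, 1, 11)]),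
   (3696, 4, 6, [(-1, 1, 44), (1, 1, 16), (1, 1, 16), (1, 1, 11)]),
   (3696, 4, 6, [(-1, 1, 44), (1, 1, 21), (1, 1, 11), (1, 1, 11)]),
   (6336, 2, 7, [(-1, 2, 12), (1, 1, 11)]),
   (22176, 2, 2, [(-1, 2, 22), (1, 1, 21)]),
   (22176, 2, 2, [(-1, 2, 12), (1, 1, 11)]),
   (22176, 4, 1, [(-1, 1, 264), (1, 1, 231), (1, 1, 176), (-1, 1, 144)]),
   (22176, 4, 1, [(1, 1, 396), (-1, 1, 154), (-1, 1, 144), (-1, 1, 99)]),
   (22176, 4, 1, [(-1, 1, 154), (1, 1, 126), (1, 1, 126), (-1, 1, 99)]),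
   (22176, 4, 1, [(1, 1, 231), (-1, 1, 154), (-1, 1, 144), (1, 1, 66)]),
   (22176, 4, 1, [(1, 1, 176), (-1, 1, 144), (-1, 1, 99), (1, 1, 66)]),
   (22176, 4, 1, [(1, 1, 231), (-1, 1, 144), (-1, 1, 44), (-1, 1, 44)]),
   (22176, 4, 1, [(1, 1, 396), (-1, 1, 264), (-1, 1, 154), (1, 1, 21)]),
   (22176, 4, 1, [(1, 1, 231), (-1, 1, 154), (-1, 1, 99), (1, 1, 21)]),
   (22176, 4, 1, [(1, 1, 176), (-1, 1, 99), (-1, 1, 99), (1, 1, 21)]),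
   (22176, 4, 1, [(-1, 1, 264), (1, 1, 176), (1, 1, 66), (1, 1, 21)]),
   (22176, 4, 1, [(-1, 1, 154), (1, 1, 66), (1, 1, 66), (1, 1, 21)]),
   (22176, 4, 1, [(1, 1, 176), (-1, 1, 154), (-1, 1, 44), (1, 1, 21)]),
   (22176, 4, 1, [(1, 1, 66), (-1, 1, 44), (-1, 1, 44), (1, 1, 21)]),
   (22176, 4, 1, [(-1, 1, 99), (1, 1, 56), (1, 1, 21), (1, 1, 21)]),
   (22176, 4, 1, [(-1, 1, 264), (1, 1, 231), (1, 1, 16), (1, 1, 16)]),
   (22176, 4, 1, [(-1, 1, 99), (1, 1, 66), (1, 1, 16), (1, 1, 16)]),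
   (22176, 4, 1, [(1, 1, 396), (-1, 1, 264), (-1, 1, 144), (1, 1, 11)]),
   (22176, 4, 1, [(-1, 1, 264), (1, 1, 126), (1, 1, 126), (1, 1, 11)]),
   (22176, 4, 1, [(1, 1, 231), (-1, 1, 144), (-1, 1, 99), (1, 1, 11)]),
   (22176, 4, 1, [(-1, 1, 144), (1, 1, 66), (1, 1, 66), (1, 1, 11)]),
   (22176, 4, 1, [(1, 1, 176), (-1, 1, 144), (-1, 1, 44), (1, 1, 11)]),
   (22176, 4, 1, [(-1, 1, 264), (1, 1, 231), (1, 1, 21), (1, 1, 11)]),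
   (22176, 4, 1, [(-1, 1, 99), (1, 1, 66), (1, 1, 21), (1, 1, 11)]),
   (22176, 4, 1, [(-1, 1, 44), (1, 1, 16), (1, 1, 16), (1, 1, 11)]),
   (22176, 4, 1, [(-1, 1, 44), (1, 1, 21), (1, 1, 11), (1, 1, 11)])]

/-- Values of the block 0 at involutions, by centraliser order. -/
def table0 : List (ℕ × List (List ℤ × ℤ)) :=
  []

/-- Values of the block 1 at involutions, by centraliser order. -/
def table1 : List (ℕ × List (List ℤ × ℤ)) :=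
  [(672, [([0, -14, 0, -16, -3], 210)]), (896, [([0, -14, 0, -16, -3], 434)]), (1344, [([0, -14, 0, -16, -3], 882)]), (2688, [([0, -14, 0, -16, -3], 2226)])]

/-- Values of the block 2 at involutions, by centraliser order. -/
def table2 : List (ℕ × List (List ℤ × ℤ)) :=
  [(896, [([0, -14, 0, 8, -7], 390), ([0, -14, 8, 0, -7], 390)]), (4480, [([0, -14, 0, 40, 25], 1862), ([0, -14, 40, 0, 25], 1862)])]

/-- Values of the block 3 at involutions, by centraliser order. -/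
def table3 : List (ℕ × List (List ℤ × ℤ)) :=
  [(672, [([-14, -16, 0, -3, 0], 210), ([-14, 0, -16, -3, 0], 210)]), (896, [([-14, -16, 0, -3, 0], 434), ([-14, 0, -16, -3, 0], 434)]), (1344, [([-14, -16, 0, -3, 0], 882), ([-14, 0, -16, -3, 0], 882)]), (2688, [([-14, -16, 0, -3, 0], 2226), ([-14, 0, -16, -3, 0], 2226)])]

/-- Values of the block 4 at involutions, by centraliser order. -/
def table4 : List (ℕ × List (List ℤ × ℤ)) :=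
  [(672, [([-14, 0, -16, 0, -3], 210)]), (896, [([-14, 0, -16, 0, -3], 434)]), (1344, [([-14, 0, -16, 0, -3], 882)]), (2688, [([-14, 0, -16, 0, -3], 2226)])]

/-- Values of the block 5 at involutions, by centraliser order. -/
def table5 : List (ℕ × List (List ℤ × ℤ)) :=
  [(896, [([0, -14, 8, 0, -7], 390)]), (4480, [([0, -14, 40, 0, 25], 1862)])]

/-- Values of the block 6 at involutions, by centraliser order. -/
def table6 : List (ℕ × List (List ℤ × ℤ)) :=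
  [(240, [([0, 0, 10, 6, 5], 42)]), (320, [([0, 0, 10, 6, 5], 122)]), (480, [([0, 0, 10, 6, 5], 282)]), (640, [([0, 0, 10, 6, 5], 442)]), (960, [([0, 0, 10, 6, 5], 762)]), (1920, [([0, 0, 10, 6, 5], 1722)])]

/-- Values of the block 7 at involutions, by centraliser order. -/
def table7 : List (ℕ × List (List ℤ × ℤ)) :=
  []

/-- Values of the block 8 at involutions, by centraliser order. -/
def table8 : List (ℕ × List (List ℤ × ℤ)) :=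
  [(128, [([0, -2, 6, 0, 5], 62), ([0, 6, -2, 0, 5], 62)]), (384, [([-8, -6, 2, 8, -3], 142), ([-8, 2, -6, 8, -3], 142), ([0, -2, 6, 0, 5], 318), ([0, 6, -2, 0, 5], 318), ([8, -6, 2, -8, -3], 142), ([8, 2, -6, -8, -3], 142)]), (672, [([0, -14, 14, 8, -7], 166), ([0, 14, -14, 8, -7], 166)]), (896, [([0, -14, 14, 8, -7], 390), ([0, 14, -14, 8, -7], 390)]), (1152, [([-8, -18, 18, 0, 9], 294), ([-8, 18, -18, 0, 9], 294), ([16, 6, 6, 0, -3], 558)]), (1344, [([0, -14, 14, 8, -7], 838), ([0, 14, -14, 8, -7], 838)]), (2688, [([0, -14, 14, 8, -7], 2182), ([0, 14, -14, 8, -7], 2182)])]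

/-- Values of the block 9 at involutions, by centraliser order. -/
def table9 : List (ℕ × List (List ℤ × ℤ)) :=
  [(960, [([16, 12, 0, 0, 5], 278)]), (1920, [([-16, 12, 0, 16, -11], 886), ([16, 12, 0, -16, -11], 886), ([16, 12, 0, 0, 5], 1238)])]

/-- Values of the block 10 at involutions, by centraliser order. -/
def table10 : List (ℕ × List (List ℤ × ℤ)) :=
  [(240, [([10, 6, 0, 0, 5], 42)]), (320, [([-10, 6, 0, 8, -7], 34), ([10, 6, 0, 0, 5], 122)]), (384, [([-10, 6, 0, 8, -7], 98), ([10, 6, 0, 0, 5], 186)]), (480, [([-10, 6, 0, 8, -7], 194), ([10, 6, 0, 0, 5], 282)]), (640, [([-10, 6, 0, 8, -7], 354), ([10, 6, 0, -16, -11], 90), ([10, 6, 0, 0, 5], 442)]), (960, [([-10, -18, 0, -8, 1], 146), ([-10, 6, 0, 8, -7], 674), ([10, 6, 0, -16, -11], 410), ([10, 6, 0, 0, 5], 762), ([10, 6, 20, 12, -3], 234), ([10, 18, 0, 8, 1], 146)]), (1920, [([-10, -18,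 0, -8, 1], 1106), ([-10, 6, 0, 8, -7], 1634), ([10, 6, 0, -16, -11], 1370), ([10, 6, 0, 0, 5], 1722), ([10, 18, 0, 8, 1], 1106)])]

/-- Values of the block 11 at involutions, by centraliser order. -/
def table11 : List (ℕ × List (List ℤ × ℤ)) :=
  [(384, [([-8, 2, -3, -3, 5], 208)]), (1152, [([16, 6, 9, 9, 9], 360)])]

/-- Values of the block 12 at involutions, by centraliser order. -/
def table12 : List (ℕ × List (List ℤ × ℤ)) :=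
  []

/-- Values of the block 13 at involutions, by centraliser order. -/
def table13 : List (ℕ × List (List ℤ × ℤ)) :=
  [(160, [([0, -8, -4, -8, -3], 6), ([0, -4, -8, -8, -3], 6), ([0, -4, 8, 8, -3], 6), ([0, 8, -4, 8, -3], 6)]), (180, [([0, -8, -4, -8, -3], 26), ([0, -4, -8, -8, -3], 26), ([0, -4, 8, 8, -3], 26), ([0, 8, -4, 8, -3], 26)]), (240, [([0, -8, -4, -8, -3], 86), ([0, -4, -8, -8, -3], 86), ([0, -4, 8, 8, -3], 86), ([0, 8, -4, 8, -3], 86)]), (320, [([0, -4, 12, 0, 9], 78), ([0, 12, -4, 0, 9], 78)]), (360, [([0, -8, -4, -8, -3], 206), ([0, -4, -8, -8, -3], 206), ([0, -4, 8, 8, -3], 206), ([0, -4, 12, 0, 9], 118), ([0, 8, -4, 8, -3], 206), ([0, 12, -4, 0, 9], 118)]), (480, [([0, -8, -4, -8, -3], 326), ([0, -4, -8, -8, -3], 326), ([0, -4, 8, 8, -3], 326), ([0, -4, 12, 0, 9], 238), ([0, 8, -4, 8, -3], 326), ([0, 12, -4, 0, 9], 238)]), (720,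 [([0, -8, -4, -8, -3], 566), ([0, -4, -8, -8, -3], 566), ([0, -4, 8, 8, -3], 566), ([0, -4, 12, 0, 9], 478), ([0, 8, -4, 8, -3], 566), ([0, 12, -4, 0, 9], 478)]), (960, [([0, -4, 12, 0, 9], 718), ([0, 12, -4, 0, 9], 718)]), (1440, [([0, -8, -4, -8, -3], 1286), ([0, -4, -8, -8, -3], 1286), ([0, -4, 8, 8, -3], 1286), ([0, -4, 12, 0, 9], 1198), ([0, 8, -4, 8, -3], 1286), ([0, 12, -4, 0, 9], 1198)]), (1920, [([-20, -24, -8, 0, -11], 358), ([-20, -8, -24, 0, -11], 358)]), (2880, [([0, -4, 12, 0, 9], 2638), ([0, 12, -4, 0, 9], 2638)])]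

/-- Values of the block 14 at involutions, by centraliser order. -/
def table14 : List (ℕ × List (List ℤ × ℤ)) :=
  [(360, [([-12, 0, -4, -4, -3], 30)]), (720, [([-12, 0, -4, -4, -3], 390)]), (960, [([16, 12, 0, 0, 5], 278)]), (1920, [([16, 12, 0, 0, 5], 1238)])]

/-- Values of the block 15 at involutions, by centraliser order. -/
def table15 : List (ℕ × List (List ℤ × ℤ)) :=
  [(240, [([10, 6, 0, 0, 5], 42)]), (320, [([10, 6, 0, 0, 5], 122)]), (384, [([10, 6, 0, 0, 5], 186)]), (480, [([10, 6, 0, 0, 5], 282)]), (640, [([10, 6, 0, 0, 5], 442)]), (960, [([10, 6, 0, 0, 5], 762)]), (1920, [([10, 6, 0, 0, 5], 1722)])]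

/-- Values of the block 16 at involutions, by centraliser order. -/
def table16 : List (ℕ × List (List ℤ × ℤ)) :=
  [(80, [([0, 0, 5, 1, 5], 3), ([0, 0, 5, 5, 1], 3)]), (120, [([0, 0, 5, 1, 5], 43), ([0, 0, 5, 5, 1], 43)]), (160, [([0, 0, 5, 1, 5], 83), ([0, 0, 5, 5, 1], 83)]), (240, [([0, 0, 5, 1, 5], 163), ([0, 0, 5, 5, 1], 163)]), (320, [([0, 0, 5, 1, 5], 243), ([0, 0, 5, 5, 1], 243)]), (480, [([0, 0, 5, 1, 5], 403), ([0, 0, 5, 5, 1], 403)]), (640, [([0, 0, 5, 1, 5], 563), ([0, 0, 5, 5, 1], 563)]), (960, [([0, 0, 5, 1, 5], 883), ([0, 0, 5, 5, 1], 883)]), (1920, [([0, 0, 5, 1, 5], 1843), ([0, 0, 5, 5, 1], 1843)])]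

/-- Values of the block 17 at involutions, by centraliser order. -/
def table17 : List (ℕ × List (List ℤ × ℤ)) :=
  [(80, [([0, 5, 0, 1, 5], 3), ([0, 5, 0, 5, 1], 3)]), (120, [([0, 5, 0, 1, 5], 43), ([0, 5, 0, 5, 1], 43)]), (128, [([0, 5, 0, 1, 5], 51), ([0, 5, 0, 5, 1], 51)]), (160, [([0, 5, 0, 1, 5], 83), ([0, 5, 0, 5, 1], 83)]), (240, [([0, 5, 0, 1, 5], 163), ([0, 5, 0, 5, 1], 163)]), (320, [([0, 5, 0, 1, 5], 243), ([0, 5, 0, 5, 1], 243)]), (384, [([-8, 1, -8, -3, 5], 219), ([-8, 1, -8, 5, -3], 219), ([-8, 9, -8, 5, 5], 43), ([0, 5, 0, 1, 5], 307), ([0, 5, 0, 5, 1], 307), ([8, 1, 8, -3, 5], 219), ([8, 1, 8, 5, -3], 219), ([8, 9, -8, -7, 1], 43), ([8, 9, -8, 1, -7], 43), ([8, 9, 8, 5, 5], 43)]), (480, [([0, 5, -16, -11, 1], 51), ([0, 5, -16, 1, -11], 51), ([0, 5, 0, 1, 5], 403), ([0, 5, 0, 5, 1], 403)]), (640, [([0, 5, -16, -11, 1], 211), ([0,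 5, -16, 1, -11], 211), ([0, 5, 0, 1, 5], 563), ([0, 5, 0, 5, 1], 563)]), (960, [([-20, -15, -4, 1, 1], 91), ([0, 5, -16, -11, 1], 531), ([0, 5, -16, 1, -11], 531), ([0, 5, 0, 1, 5], 883), ([0, 5, 0, 5, 1], 883), ([20, 5, 12, -3, 1], 355), ([20, 5, 12, 1, -3], 355)]), (1920, [([0, 5, -32, -19, -7], 435), ([0, 5, -32, -7, -19], 435), ([0, 5, -16, -11, 1], 1491), ([0, 5, -16, 1, -11], 1491), ([0, 5, 0, 1, 5], 1843), ([0, 5, 0, 5, 1], 1843)])]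

/-- Values of the block 18 at involutions, by centraliser order. -/
def table18 : List (ℕ × List (List ℤ × ℤ)) :=
  [(1920, [([-20, -8, -15, -3, 1], 820), ([-20, -8, -15, 1, -3], 820)])]

/-- Values of the block 19 at involutions, by centraliser order. -/
def table19 : List (ℕ × List (List ℤ × ℤ)) :=
  [(80, [([5, 0, 0, 1, 5], 3), ([5, 0, 0, 5, 1], 3)]), (120, [([5, 0, 0, 1, 5], 43), ([5, 0, 0, 5, 1], 43)]), (128, [([5, 0, 0, 1, 5], 51), ([5, 0, 0, 5, 1], 51)]), (160, [([5, 0, 0, 1, 5], 83), ([5, 0, 0, 5, 1], 83)]), (240, [([5, 0, 0, 1, 5], 163), ([5, 0, 0, 5, 1], 163)]), (320, [([5, 0, 0, 1, 5], 243), ([5, 0, 0, 5, 1], 243)]), (384, [([5, 0, 0, 1, 5], 307), ([5, 0, 0, 5, 1], 307)]), (480, [([5, 0, 0, 1, 5], 403), ([5, 0, 0, 5, 1], 403)]), (640, [([5, 0, 0, 1, 5], 563), ([5, 0, 0, 5, 1], 563)]), (960, [([5, 0, 0, 1, 5], 883), ([5, 0, 0, 5, 1], 883)]),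 (1920, [([5, 0, 0, 1, 5], 1843), ([5, 0, 0, 5, 1], 1843)])]

/-- Values of the block 20 at involutions, by centraliser order. -/
def table20 : List (ℕ × List (List ℤ × ℤ)) :=
  [(60, [([0, -3, 1, 5, 2], 16), ([0, -3, 5, 1, 2], 16), ([0, 1, -3, 5, 2], 16), ([0, 1, 5, -3, 2], 16), ([0, 5, -3, 1, 2], 16), ([0, 5, 1, -3, 2], 16)]), (80, [([0, -3, 1, 5, 2], 36), ([0, -3, 5, 1, 2], 36), ([0, 1, -3, 5, 2], 36), ([0, 1, 5, -3, 2], 36), ([0, 5, -3, 1, 2], 36), ([0, 5, 1, -3, 2], 36)]), (120, [([0, -3, 1, 5, 2], 76), ([0, -3, 5, 1, 2], 76), ([0, 1, -3, 5, 2], 76), ([0, 1, 5, -3, 2], 76), ([0, 5, -3, 1, 2], 76), ([0, 5, 1, -3, 2], 76)]), (128, [([0, -3, 1, 5, 2], 84), ([0, -3, 5, 1, 2], 84), ([0, 1, -3, 5, 2], 84), ([0, 1, 5, -3, 2], 84), ([0, 5, -3, 1, 2], 84), ([0, 5, 1, -3, 2], 84)]), (160, [([-8, -7, -3, 1, -2], 28), ([-8, -7, 1, -3, -2], 28), ([-8, -3,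 -7, 1, -2], 28), ([-8, -3, 1, -7, -2], 28), ([-8, 1, -7, -3, -2], 28), ([-8, 1, -3, -7, -2], 28), ([0, -3, 1, 5, 2], 116), ([0, -3, 5, 1, 2], 116), ([0, 1, -3, 5, 2], 116), ([0, 1, 5, -3, 2], 116), ([0, 5, -3, 1, 2], 116), ([0, 5, 1, -3, 2], 116), ([8, -3, 5, 5, -2], 28), ([8, 5, -3, 5, -2], 28), ([8, 5, 5, -3, -2], 28)]), (240, [([-8, -7, -3, 1, -2], 108), ([-8, -7, 1, -3, -2], 108), ([-8, -3, -7, 1, -2], 108), ([-8, -3, 1, -7, -2], 108), ([-8, 1, -7, -3, -2], 108), ([-8, 1, -3, -7, -2], 108), ([0, -3, 1, 5, 2], 196), ([0, -3, 5, 1, 2], 196), ([0, 1, -3, 5, 2], 196), ([0, 1, 5, -3, 2], 196), ([0, 5, -3, 1, 2], 196), ([0, 5, 1, -3, 2], 196), ([8, -3, 5, 5, -2], 108), ([8, 5, -3, 5, -2], 108), ([8, 5, 5, -3, -2], 108)]), (320, [([-8, -7, -3, 1, -2], 188), ([-8, -7, 1, -3, -2], 188), ([-8, -3, -7, 1, -2], 188), ([-8, -3, 1, -7, -2], 188), ([-8, 1,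 -7, -3, -2], 188), ([-8, 1, -3, -7, -2], 188), ([0, -3, 1, 5, 2], 276), ([0, -3, 5, 1, 2], 276), ([0, 1, -3, 5, 2], 276), ([0, 1, 5, -3, 2], 276), ([0, 5, -3, 1, 2], 276), ([0, 5, 1, -3, 2], 276), ([8, -3, 5, 5, -2], 188), ([8, 5, -3, 5, -2], 188), ([8, 5, 5, -3, -2], 188)]), (384, [([-8, -7, -3, 1, -2], 252), ([-8, -7, 1, -3, -2], 252), ([-8, -3, -7, 1, -2], 252), ([-8, -3, 1, -7, -2], 252), ([-8, 1, -7, -3, -2], 252), ([-8, 1, -3, -7, -2], 252), ([0, -3, 1, 5, 2], 340), ([0, -3, 5, 1, 2], 340), ([0, 1, -3, 5, 2], 340), ([0, 1, 5, -3, 2], 340), ([0, 5, -3, 1, 2], 340), ([0, 5, 1, -3, 2], 340), ([8, -3, 5, 5, -2], 252), ([8, 5, -3, 5, -2], 252), ([8, 5, 5, -3, -2], 252)]), (480, [([-16, -11, -3, 1, 2], 84), ([-16, -11, 1, -3, 2], 84), ([-16, -3, -11, 1, 2], 84), ([-16, -3, 1, -11, 2], 84), ([-16, 1, -11, -3, 2], 84), ([-16, 1, -3, -11, 2], 84), ([-8,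 -7, -3, 1, -2], 348), ([-8, -7, 1, -3, -2], 348), ([-8, -3, -7, 1, -2], 348), ([-8, -3, 1, -7, -2], 348), ([-8, 1, -7, -3, -2], 348), ([-8, 1, -3, -7, -2], 348), ([0, -3, 1, 5, 2], 436), ([0, -3, 5, 1, 2], 436), ([0, 1, -3, 5, 2], 436), ([0, 1, 5, -3, 2], 436), ([0, 5, -3, 1, 2], 436), ([0, 5, 1, -3, 2], 436), ([8, -3, 5, 5, -2], 348), ([8, 5, -3, 5, -2], 348), ([8, 5, 5, -3, -2], 348), ([16, 5, 5, 9, 2], 84), ([16, 5, 9, 5, 2], 84), ([16, 9, 5, 5, 2], 84)]), (640, [([-16, -11, -3, 1, 2], 244), ([-16, -11, 1, -3, 2], 244), ([-16, -3, -11, 1, 2], 244), ([-16, -3, 1, -11, 2], 244), ([-16, 1, -11, -3, 2], 244), ([-16, 1, -3, -11, 2], 244), ([-8, -7, -3, 1, -2], 508), ([-8, -7, 1, -3, -2], 508), ([-8, -3, -7, 1, -2], 508), ([-8, -3, 1, -7, -2], 508), ([-8, 1, -7, -3, -2], 508), ([-8, 1, -3, -7, -2], 508), ([0, -3, 1, 5, 2], 596), ([0, -3, 5, 1, 2], 596),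 ([0, 1, -3, 5, 2], 596), ([0, 1, 5, -3, 2], 596), ([0, 5, -3, 1, 2], 596), ([0, 5, 1, -3, 2], 596), ([8, -3, 5, 5, -2], 508), ([8, 5, -3, 5, -2], 508), ([8, 5, 5, -3, -2], 508), ([16, 5, 5, 9, 2], 244), ([16, 5, 9, 5, 2], 244), ([16, 9, 5, 5, 2], 244)]), (960, [([-24, -11, -11, -3, -2], 124), ([-24, -11, -3, -11, -2], 124), ([-24, -3, -11, -11, -2], 124), ([-16, -11, -3, 1, 2], 564), ([-16, -11, 1, -3, 2], 564), ([-16, -3, -11, 1, 2], 564), ([-16, -3, 1, -11, 2], 564), ([-16, 1, -11, -3, 2], 564), ([-16, 1, -3, -11, 2], 564), ([-8, -7, -3, 1, -2], 828), ([-8, -7, 1, -3, -2], 828), ([-8, -3, -7, 1, -2], 828), ([-8, -3, 1, -7, -2], 828), ([-8, 1, -7, -3, -2], 828), ([-8, 1, -3, -7, -2], 828), ([0, -3, 1, 5, 2], 916), ([0, -3, 5, 1, 2], 916), ([0, 1, -3, 5, 2], 916), ([0, 1, 5, -3, 2], 916), ([0, 5, -3, 1, 2], 916), ([0, 5, 1, -3, 2], 916), ([8, -3,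 5, 5, -2], 828), ([8, 5, -3, 5, -2], 828), ([8, 5, 5, -3, -2], 828), ([16, 5, 5, 9, 2], 564), ([16, 5, 9, 5, 2], 564), ([16, 9, 5, 5, 2], 564), ([24, 1, 9, 13, -2], 124), ([24, 1, 13, 9, -2], 124), ([24, 9, 1, 13, -2], 124), ([24, 9, 13, 1, -2], 124), ([24, 13, 1, 9, -2], 124), ([24, 13, 9, 1, -2], 124)]), (1920, [([-32, -19, -7, -3, 2], 468), ([-32, -19, -3, -7, 2], 468), ([-32, -7, -19, -3, 2], 468), ([-32, -7, -3, -19, 2], 468), ([-32, -3, -19, -7, 2], 468), ([-32, -3, -7, -19, 2], 468), ([-24, -11, -11, -3, -2], 1084), ([-24, -11, -3, -11, -2], 1084), ([-24, -3, -11, -11, -2], 1084), ([-16, -11, -3, 1, 2], 1524), ([-16, -11, 1, -3, 2], 1524), ([-16, -3, -11, 1, 2], 1524), ([-16, -3, 1, -11, 2], 1524), ([-16, 1, -11, -3, 2], 1524), ([-16, 1, -3, -11, 2], 1524), ([-8, -7, -3, 1, -2], 1788), ([-8, -7, 1, -3, -2], 1788), ([-8, -3, -7, 1, -2], 1788),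 ([-8, -3, 1, -7, -2], 1788), ([-8, 1, -7, -3, -2], 1788), ([-8, 1, -3, -7, -2], 1788), ([0, -3, 1, 5, 2], 1876), ([0, -3, 5, 1, 2], 1876), ([0, 1, -3, 5, 2], 1876), ([0, 1, 5, -3, 2], 1876), ([0, 5, -3, 1, 2], 1876), ([0, 5, 1, -3, 2], 1876), ([8, -3, 5, 5, -2], 1788), ([8, 5, -3, 5, -2], 1788), ([8, 5, 5, -3, -2], 1788), ([16, 5, 5, 9, 2], 1524), ([16, 5, 9, 5, 2], 1524), ([16, 9, 5, 5, 2], 1524), ([24, 1, 9, 13, -2], 1084), ([24, 1, 13, 9, -2], 1084), ([24, 9, 1, 13, -2], 1084), ([24, 9, 13, 1, -2], 1084), ([24, 13, 1, 9, -2], 1084), ([24, 13, 9, 1, -2], 1084), ([32, 9, 13, 13, 2], 468), ([32, 13, 9, 13, 2], 468), ([32, 13, 13, 9, 2], 468)])]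

/-- Values of the block 21 at involutions, by centraliser order. -/
def table21 : List (ℕ × List (List ℤ × ℤ)) :=
  [(112, [([8, 0, 0, 4, -3], 13)]), (168, [([8, 0, 0, 4, -3], 69)]), (224, [([8, 0, 0, 4, -3], 125)]), (336, [([8, 0, 0, 4, -3], 237)]), (448, [([8, 0, 0, 4, -3], 349)]), (672, [([8, 0, 0, 4, -3], 573)]), (896, [([8, 0, 0, 4, -3], 797)]), (1344, [([8, 0, 0, 4, -3], 1245)]), (2688, [([8, 0, 0, 4, -3], 2589)])]

/-- Values of the block 22 at involutions, by centraliser order. -/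
def table22 : List (ℕ × List (List ℤ × ℤ)) :=
  [(112, [([0, -4, 8, 4, 1], 13), ([0, 4, -8, -4, 1], 13), ([0, 8, 0, 4, -3], 13)]), (168, [([0, -4, 8, 4, 1], 69), ([0, 4, -8, -4, 1], 69), ([0, 8, 0, 4, -3], 69)]), (224, [([0, -4, 8, 4, 1], 125), ([0, 4, -8, -4, 1], 125), ([0, 8, 0, 4, -3], 125)]), (336, [([0, -4, 8, 4, 1], 237), ([0, 4, -8, -4, 1], 237), ([0, 8, 0, 4, -3], 237)]), (448, [([0, 8, 0, 4, -3], 349)]), (672, [([0, -4, 8, 4, 1], 573), ([0, 4, -8, -4, 1], 573), ([0, 8, 0, 4, -3], 573)]), (896, [([0, 8, 0, 4, -3], 797)]), (1344, [([-24, -24, 0, 0, 1], 189), ([-24, -16, -16, -8, 1], 189), ([0, 8, 0, 4, -3], 1245), ([24, 16, 16, 8, 1], 189), ([24, 24, 0, 0, 1], 189)]), (2688, [([0, 8, 0, 4, -3], 2589)])]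

/-- Values of the block 23 at involutions, by centraliser order. -/
def table23 : List (ℕ × List (List ℤ × ℤ)) :=
  []

/-- Values of the block 24 at involutions, by centraliser order. -/
def table24 : List (ℕ × List (List ℤ × ℤ)) :=
  [(2016, [([0, 0, 24, 21, -2], 553), ([0, 24, 0, 21, -2], 553)]), (2688, [([0, 0, 24, 21, -2], 1225), ([0, 24, 0, 21, -2], 1225)]), (4032, [([0, 0, 24, 21, -2], 2569), ([0, 24, 0, 21, -2], 2569)]), (8064, [([0, 0, 24, 21, -2], 6601), ([0, 24, 0, 21, -2], 6601)])]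

/-- Values of the block 25 at involutions, by centraliser order. -/
def table25 : List (ℕ × List (List ℤ × ℤ)) :=
  [(896, [([-14, -14, 0, 1, 2], 302), ([-14, -14, 8, 5, -2], 214), ([-14, -14, 8, 13, 6], 38), ([-14, 14, -8, 13, -6], 38), ([14, 14, 0, 1, 2], 302), ([14, 14, 8, 5, -2], 214), ([14, 14, 8, 13, 6], 38)])]

/-- Values of the block 26 at involutions, by centraliser order. -/
def table26 : List (ℕ × List (List ℤ × ℤ)) :=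
  [(112, [([0, -8, 4, -3, 2], 2)]), (128, [([0, -8, 4, -3, 2], 18)]), (168, [([0, -8, 4, -3, 2], 58)]), (224, [([-8, 0, -8, 1, 2], 26), ([0, -8, 4, -3, 2], 114), ([8, 0, 8, 1, 2], 26)]), (336, [([0, -8, 4, -3, 2], 226)]), (384, [([0, -8, 4, -3, 2], 274), ([0, 0, 12, 9, -2], 10), ([0, 16, -4, 9, -2], 10)]), (448, [([-8, -16, 0, -7, 2], 74), ([-8, -8, 8, 5, -2], 162), ([-8, 0, -8, 1, 2], 250), ([-8, 8, -8, 5, -2], 162), ([0, -8, 4, -3, 2], 338), ([0, 0, 12, 9, -2], 74), ([0, 16, -4, 9, -2], 74), ([8, -8, 0, -11, 6], 162), ([8, 0, 8, 1, 2], 250), ([8, 8, 8, 5, -2], 162), ([16, 0, 4, -7, 6], 74)]), (504, [([0, 0, 12, 9, -2], 130)]), (672, [([0, -16, -4, -15, 6], 122), ([0, -8, 4, -3, 2], 562), ([0, 0, 12, 9, -2], 298), ([0, 16, -4, 9, -2], 298)]), (896, [([-16, -16, 4, 1, -2], 346), ([-16, -8, 12, 13, -6], 82), ([-16, 0, -12, 1, -2], 346), ([0, -16,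 -4, -15, 6], 346), ([0, -8, 4, -3, 2], 786), ([0, 0, 12, 9, -2], 522), ([0, 16, -4, 9, -2], 522), ([16, 0, 4, -7, 6], 522), ([16, 8, 12, 5, 2], 258), ([16, 16, 4, 1, -2], 346)]), (1008, [([0, 0, 12, 9, -2], 634)]), (1152, [([0, 0, 12, 9, -2], 778)]), (1344, [([-24, -24, 0, -3, -2], 178), ([-24, -16, 8, 9, -6], 266), ([-24, -8, -16, -3, -2], 178), ([0, -16, -4, -15, 6], 794), ([0, -8, 4, -3, 2], 1234), ([0, 0, 12, 9, -2], 970), ([0, 8, 20, 21, -6], 2), ([0, 16, -4, 9, -2], 970), ([24, 8, 8, -3, 6], 530), ([24, 8, 16, -3, -2], 178), ([24, 24, 0, -3, -2], 178)]), (2016, [([0, 0, 12, 9, -2], 1642)]), (2688, [([0, -16, -4, -15, 6], 2138), ([0, -8, 4, -3, 2], 2578), ([0, 0, 12, 9, -2], 2314), ([0, 8, -28, -27, -6], 290), ([0, 8, 20, 21, -6], 1346), ([0, 16, -4, 9, -2], 2314)]), (4032, [([0, 0, 12, 9, -2], 3658)]), (8064, [([0, 0, 12, 9, -2], 7690)])]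

/-- Values of the block 27 at involutions, by centraliser order. -/
def table27 : List (ℕ × List (List ℤ × ℤ)) :=
  [(896, [([14, -3, -3, 13, -6], 280), ([14, -3, 13, -3, -6], 280), ([14, 13, -3, -3, -6], 280)])]

/-- Values of the block 28 at involutions, by centraliser order. -/
def table28 : List (ℕ × List (List ℤ × ℤ)) :=
  [(2016, [([24, 21, 0, 0, -2], 553)]), (2688, [([24, 21, 0, 0, -2], 1225)]), (4032, [([24, 21, 0, 0, -2], 2569), ([36, 21, 28, 16, -2], 809)]), (8064, [([24, 21, 0, 0, -2], 6601)])]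

/-- Values of the block 29 at involutions, by centraliser order. -/
def table29 : List (ℕ × List (List ℤ × ℤ)) :=
  []

/-- Values of the block 30 at involutions, by centraliser order. -/
def table30 : List (ℕ × List (List ℤ × ℤ)) :=
  [(336, [([8, -7, 9, -7, 2], 39)]), (384, [([8, -7, 9, -7, 2], 87)]), (448, [([8, -7, 9, -7, 2], 151)]), (672, [([-8, -7, -15, -7, -6], 199), ([8, -7, 9, -7, 2], 375)]), (896, [([-8, -7, -15, -7, -6], 423), ([8, -7, 9, -7, 2], 599)]), (1344, [([-8, -7, -15, -7, -6], 871), ([8, -7, 9, -7, 2], 1047)]), (2688, [([-8, -7, -15, -7, -6], 2215), ([8, -7, 9, -7, 2], 2391)])]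

/-- Values of the block 31 at involutions, by centraliser order. -/
def table31 : List (ℕ × List (List ℤ × ℤ)) :=
  [(448, [([-4, -15, -3, -7, -6], 96), ([-4, -3, -15, -7, -6], 96)]), (672, [([-4, -15, -3, -7, -6], 320), ([-4, -3, -15, -7, -6], 320)]), (896, [([-4, -15, -3, -7, -6], 544), ([-4, -3, -15, -7, -6], 544)]), (1344, [([-4, -15, -3, -7, -6], 992), ([-4, -3, -15, -7, -6], 992)]), (2688, [([-4, -15, -3, -7, -6], 2336), ([-4, -3, -15, -7, -6], 2336)])]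

/-- Values of the block 32 at involutions, by centraliser order. -/
def table32 : List (ℕ × List (List ℤ × ℤ)) :=
  [(224, [([8, 0, 9, 4, 6], 26)]), (336, [([8, 0, 9, 4, 6], 138)]), (448, [([8, 0, 9, 4, 6], 250)]), (672, [([8, 0, 9, 4, 6], 474)]), (896, [([8, 0, 9, 4, 6], 698)]), (1344, [([8, 0, 9, 4, 6], 1146)]), (2688, [([8, 0, 9, 4, 6], 2490), ([32, 0, 21, 4, -6], 1170), ([32, 24, 9, 4, 6], 378)])]

/-- Values of the block 33 at involutions, by centraliser order. -/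
def table33 : List (ℕ × List (List ℤ × ℤ)) :=
  [(336, [([-8, -7, -4, -4, -6], 105), ([8, -7, 4, 4, -6], 105)]), (384, [([-8, -7, -4, -4, -6], 153), ([8, -7, 4, 4, -6], 153)]), (448, [([-8, -7, -4, -4, -6], 217), ([8, -7, 4, 4, -6], 217)]), (672, [([-8, -7, -4, -4, -6], 441), ([8, -7, 4, 4, -6], 441)]), (896, [([-8, -7, -4, -4, -6], 665), ([8, -7, 4, 4, -6], 665)]), (1344, [([-8, -7, -4, -4, -6], 1113), ([8, -7, 4, 4, -6], 1113)]), (2016, [([24, 21, 0, 0, -2], 553)]), (2688, [([-8, -7, -4, -4, -6], 2457), ([8, -7, 4, 4, -6], 2457), ([24, 21, 0, 0, -2], 1225)]), (4032, [([24, 21, 0, 0, -2], 2569)]), (8064, [([24, 21, 0, 0, -2], 6601)])]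

/-- Values of the block 34 at involutions, by centraliser order. -/
def table34 : List (ℕ × List (List ℤ × ℤ)) :=
  []

/-- Values of the block 35 at involutions, by centraliser order. -/
def table35 : List (ℕ × List (List ℤ × ℤ)) :=
  [(14, [([0, 0, -2, 2, 1], 3), ([0, 0, 2, -2, 1], 3)]), (28, [([0, 0, -2, 2, 1], 17), ([0, 0, 2, -2, 1], 17)]), (42, [([0, 0, -2, 2, 1], 31), ([0, 0, 2, -2, 1], 31)]), (56, [([0, 0, -2, 2, 1], 45), ([0, 0, 2, -2, 1], 45)]), (84, [([0, 0, -2, 2, 1], 73), ([0, 0, 2, -2, 1], 73)]), (112, [([0, 0, -2, 2, 1], 101), ([0, 0, 2, -2, 1], 101)]), (168, [([0, 0, -2, 2, 1], 157), ([0, 0, 2, -2, 1], 157)]), (224, [([0, 0, -2, 2, 1], 213), ([0, 0, 2, -2, 1], 213)]), (336, [([0, 0, -2, 2, 1], 325), ([0, 0, 2, -2, 1], 325)]), (448, [([0, 0, -2, 2, 1], 437), ([0, 0, 2, -2, 1], 437)]), (504, [([0, 0, -2, 2, 1], 493), ([0, 0, 2, -2,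 1], 493)]), (672, [([0, 0, -2, 2, 1], 661), ([0, 0, 2, -2, 1], 661)]), (896, [([0, 0, -2, 2, 1], 885), ([0, 0, 2, -2, 1], 885)]), (1008, [([0, 0, -2, 2, 1], 997), ([0, 0, 2, -2, 1], 997)]), (1344, [([0, 0, -2, 2, 1], 1333), ([0, 0, 2, -2, 1], 1333)]), (2016, [([0, 0, -2, 2, 1], 2005), ([0, 0, 2, -2, 1], 2005)]), (2688, [([0, 0, -2, 2, 1], 2677), ([0, 0, 2, -2, 1], 2677)]), (4032, [([0, 0, -2, 2, 1], 4021), ([0, 0, 2, -2, 1], 4021)]), (8064, [([0, 0, -2, 2, 1], 8053), ([0, 0, 2, -2, 1], 8053)])]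

/-- Values of the block 36 at involutions, by centraliser order. -/
def table36 : List (ℕ × List (List ℤ × ℤ)) :=
  []

/-- Values of the block 37 at involutions, by centraliser order. -/
def table37 : List (ℕ × List (List ℤ × ℤ)) :=
  []

/-- Values of the block 38 at involutions, by centraliser order. -/
def table38 : List (ℕ × List (List ℤ × ℤ)) :=
  []

end CfsgLib.MTwentyTwoUnique
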