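import Cfsg.Agent.MTwentyTwoUnique.Triple

/-!
The degrees of the irreducible characters of a simple group of order 443520 and their values at an
involution; the centraliser of an involution and the single class of involutions.
-/

set_option autoImplicit false
set_option linter.style.haveILetI false
set_option linter.unusedSectionVars false

namespace CfsgLib.MTwentyTwoUnique

open Cfsg CfsgLib.Characters CfsgLib.DefectOne CfsgLib.BrauerOrderP
open CfsgLib.Small.Check (Item)
open CfsgLib.MElevenUnique (Cg mem_Cg)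
open scoped ComplexConjugate

universe u

variable {G : Type u} [Group G] [Fintype G] [IsSimpleGroup G] [Fact (Nat.Prime 11)] [Fact (Nat.Prime 7)]
  [Fact (Nat.Prime 5)] (hGN : Nat.card G = 443520)

/-- The degrees. -/
def degSet : Finset ℕ := {1, 21, 45, 55, 99, 154, 210, 231, 280, 385}

/-- The number of characters of each degree. -/
def degMult : ℕ → ℕ
  | 45 => 2 | 280 => 2 | _ => 1

variable (D : Data G)
include hGN D

theorem Data.card_Sylow_seven : Nat.card (Sylow 7 G) = 21120 ∧ e D.L₇ = 3 ∧ Nat.card D.L₇.K = 1 :=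
  ⟨(congrArg Prod.fst D.items₇ :), (congrArg (fun o : Opt => o.2.1) D.items₇ :),
    (congrArg (fun o : Opt => o.2.2.1) D.items₇ :)⟩

theorem Data.card_Sylow_five : Nat.card (Sylow 5 G) = 22176 ∧ e D.L₅ = 4 ∧ Nat.card D.L₅.K = 1 :=
  ⟨(congrArg Prod.fst D.items₅ :), (congrArg (fun o : Opt => o.2.1) D.items₅ :),
    (congrArg (fun o : Opt => o.2.2.1) D.items₅ :)⟩

theorem Data.items₇' : D.l₇.map D.B₇.item = theA.2.2.2 := (congrArg (fun o : Opt => o.2.2.2) D.items₇ :)

theorem Data.items₅' : D.l₅.map D.B₅.item = theB.2.2.2 := (congrArg (fun o : Opt => o.2.2.2) D.items₅ :)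

theorem Data.K₇ : D.L₇.K = ⊥ := Subgroup.card_eq_one.1 (D.card_Sylow_seven hGN).2.2

theorem Data.K₅ : D.L₅.K = ⊥ := Subgroup.card_eq_one.1 (D.card_Sylow_five hGN).2.2

omit hGN in
open Classical in
theorem count_of_block {p : ℕ} [Fact p.Prime] {L : Local p G} (hK : L.K = ⊥) (B : Block L)
    {l : List (IrrCharacter G)} (hl : l.Perm B.reps) {d : ℕ} (hd : ¬ p ∣ d) (hd1 : d ≠ 1) :
    ((Finset.univ : Finset (IrrCharacter G)).filter fun χ => deg χ = d).card = cntD (l.map B.item) d := by
  rw [B.cntD_eq hl]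
  congr 1
  ext χ
  simp only [Finset.mem_filter, Finset.mem_univ, true_and]
  exact ⟨fun h => ⟨mem_chars_of_not_dvd B hK (ne_one_of_deg_ne χ (by rw [h]; exact hd1))
    (by rw [h]; exact hd), h⟩, fun h => h.2⟩

/-- A degree outside the list is a multiple of 385. -/
theorem Data.deg_mem (χ : IrrCharacter G) : deg χ ∈ degSet := by
  classical
  have hG := not_comm hGN
  by_cases h1 : deg χ = 1
  · simp [degSet, h1]
  have hne := ne_one_of_deg_ne χ h1
  have key : ∀ {p : ℕ} [Fact p.Prime] {L : Local p G} (B : Block L) {l : List (IrrCharacter G)},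
      l.Perm B.reps → L.K = ⊥ → ¬ p ∣ deg χ → deg χ ∈ (l.map B.item).map fun x => x.2.2 := by
    intro p _ L B l hl hK hd
    obtain ⟨r, hr, h⟩ := B.alike_rep χ (mem_chars_of_not_dvd B hK hne hd)
    rw [List.map_map]
    exact List.mem_map.2 ⟨r, hl.symm.subset hr, h.1.symm⟩
  by_cases h11 : 11 ∣ deg χ
  · by_cases h7 : 7 ∣ deg χ
    · by_cases h5 : 5 ∣ deg χ
      · have h385 : 385 ∣ deg χ := by
          refine (show Nat.Coprime 77 5 by norm_num).mul_dvd_of_dvd_of_dvd ?_ h5
          exact (show Nat.Coprime 11 7 by norm_num).mul_dvd_of_dvd_of_dvd h11 h7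
        have hlt : deg χ < 666 := deg_lt hGN χ
        have hpos : 0 < deg χ := Nat.pos_of_ne_zero (Blocks.charDegree_ne_zero χ)
        have : deg χ = 385 := by
          obtain ⟨c, hc⟩ := h385
          obtain rfl : c = 1 := by omega
          omega
        simp [degSet, this]
      · have := key D.B₅ D.perm₅ (D.K₅ hGN) h5
        rw [D.items₅' hGN] at this
        revert this; generalize deg χ = d; revert d; decide
    · have := key D.B₇ D.perm₇ (D.K₇ hGN) h7
      rw [D.items₇' hGN] at this
      revert this; generalize deg χ = d; revert d; decide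
  · have := key D.B₁₁ D.perm₁₁ (K_bot hGN D.L₁₁) h11
    rw [D.items₁₁] at this
    revert this; generalize deg χ = d; revert d; decide

/-- **The degrees.** -/
theorem Data.card_deg {d : ℕ} (hd : d ∈ degSet) :
    ((Finset.univ : Finset (IrrCharacter G)).filter fun χ => deg χ = d).card = degMult d := by
  classical
  have h11 : ∀ d : ℕ, ¬ 11 ∣ d → d ≠ 1 →
      ((Finset.univ : Finset (IrrCharacter G)).filter fun χ => deg χ = d).card = cntD theT d :=
    fun d h h' => D.items₁₁ ▸ count_of_block D (K_bot hGN D.L₁₁) D.B₁₁ D.perm₁₁ h h'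
  have h7 : ∀ d : ℕ, ¬ 7 ∣ d → d ≠ 1 →
      ((Finset.univ : Finset (IrrCharacter G)).filter fun χ => deg χ = d).card = cntD theA.2.2.2 d :=
    fun d h h' => D.items₇' hGN ▸ count_of_block D (D.K₇ hGN) D.B₇ D.perm₇ h h'
  have h5 : ∀ d : ℕ, ¬ 5 ∣ d → d ≠ 1 →
      ((Finset.univ : Finset (IrrCharacter G)).filter fun χ => deg χ = d).card = cntD theB.2.2.2 d :=
    fun d h h' => D.items₅' hGN ▸ count_of_block D (D.K₅ hGN) D.B₅ D.perm₅ h h'
  have hone : ((Finset.univ : Finset (IrrCharacter G)).filter fun χ => deg χ = 1) = {D.B₁₁.one} := by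
    ext χ
    simp only [Finset.mem_filter, Finset.mem_univ, true_and, Finset.mem_singleton]
    refine ⟨fun h => ?_, fun h => h ▸ deg_one D.B₁₁⟩
    by_contra hne
    refine absurd h (one_lt_deg (not_comm hGN) fun e => hne ?_).ne'
    exact Subtype.ext (e.trans D.B₁₁.one_eq.symm)
  fin_cases hd
  · rw [hone]; rfl
  · rw [h11 21 (by decide) (by decide)]; decide +kernel
  · rw [h11 45 (by decide) (by decide)]; decide +kernel
  · rw [h7 55 (by decide) (by decide)]; decide +kernel
  · rw [h7 99 (by decide) (by decide)]; decide +kernel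
  · rw [h5 154 (by decide) (by decide)]; decide +kernel
  · rw [h11 210 (by decide) (by decide)]; decide +kernel
  · rw [h5 231 (by decide) (by decide)]; decide +kernel
  · rw [h11 280 (by decide) (by decide)]; decide +kernel
  · have hs := sum_deg_sq hGN
    rw [← Finset.sum_fiberwise_of_maps_to (t := degSet) (g := deg) (fun χ _ => D.deg_mem hGN χ),
      Finset.sum_congr rfl fun d _ => Finset.sum_congr rfl (g := fun _ => d * d) fun χ hχ => by
        rw [(Finset.mem_filter.1 hχ).2]] at hs
    simp only [degSet, Finset.sum_const, smul_eq_mul] at hs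
    rw [Finset.sum_insert (by decide), Finset.sum_insert (by decide), Finset.sum_insert (by decide),
      Finset.sum_insert (by decide), Finset.sum_insert (by decide), Finset.sum_insert (by decide),
      Finset.sum_insert (by decide), Finset.sum_insert (by decide), Finset.sum_insert (by decide),
      Finset.sum_singleton, hone, Finset.card_singleton, h11 21 (by decide) (by decide),
      h11 45 (by decide) (by decide), h7 55 (by decide) (by decide), h7 99 (by decide) (by decide),
      h5 154 (by decide) (by decide), h11 210 (by decide) (by decide), h5 231 (by decide) (by decide),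
      h11 280 (by decide) (by decide),
      show cntD theT 21 = 1 by decide +kernel, show cntD theT 45 = 2 by decide +kernel,
      show cntD theA.2.2.2 55 = 1 by decide +kernel, show cntD theA.2.2.2 99 = 1 by decide +kernel,
      show cntD theB.2.2.2 154 = 1 by decide +kernel, show cntD theT 210 = 1 by decide +kernel,
      show cntD theB.2.2.2 231 = 1 by decide +kernel, show cntD theT 280 = 2 by decide +kernel] at hs
    show _ = 1
    omega

/-- Sums over the characters of functions of the degree. -/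
theorem Data.sum_deg {M : Type*} [AddCommMonoid M] (F : ℕ → M) :
    ∑ χ : IrrCharacter G, F (deg χ) = ∑ d ∈ degSet, degMult d • F d := by
  classical
  rw [← Finset.sum_fiberwise_of_maps_to (t := degSet) (g := deg) (fun χ _ => D.deg_mem hGN χ)]
  refine Finset.sum_congr rfl fun d hd => ?_
  rw [Finset.sum_congr rfl (g := fun _ => F d) fun χ hχ => by rw [(Finset.mem_filter.1 hχ).2],
    Finset.sum_const, D.card_deg hGN hd]

/-- The centraliser of an involution and the values in the block for 11. -/
theorem Data.forced {t : G} (ht : orderOf t = 2) :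
    Nat.card (Cg t) = 384 ∧
      (D.l₁₁.map (fun r => val r t),
        (Nat.card (Cg t) : ℤ) - 1 - ∑ χ ∈ D.B₁₁.chars, val χ t * val χ t) = ([-8, 2, -3, -3, 5], 208) := by
  obtain ⟨hn₇, he₇, hK₇⟩ := D.card_Sylow_seven hGN
  obtain ⟨hn₅, he₅, hK₅⟩ := D.card_Sylow_five hGN
  have hw := vals_mem hGN D.B₁₁ ht D.perm₁₁
  rw [D.items₁₁] at hw
  have hl := look_eq table11_ok (Nat.card (Cg t))
  rw [show lits11.getD 11 [] = theT from rfl] at hl
  rw [← hl] at hw
  have h := List.all_eq_true.1 (List.all_eq_true.1 forced_centraliser _ (Cg_mem_invOrders hGN ht)) _ hw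
  simp only [Bool.or_eq_true, Bool.not_eq_true', Bool.and_eq_true, decide_eq_true_eq] at h
  refine h.resolve_left fun hbad => ?_
  have ok : ∀ {p : ℕ} [Fact p.Prime] {L : Local p G} (B : Block L) {n e' K : ℕ}
      {l : List (IrrCharacter G)}, p ≠ 2 → Nat.card (Sylow p G) = n → e L = e' → Nat.card L.K = K →
      l.Perm B.reps → okC p (n, e', K, l.map B.item) (Nat.card (Cg t)) = true ∧
      feas p (n, e', K, l.map B.item) (Nat.card (Cg t)) (D.l₁₁.map D.B₁₁.item)
        (D.l₁₁.map (fun r => val r t),
          (Nat.card (Cg t) : ℤ) - 1 - ∑ χ ∈ D.B₁₁.chars, val χ t * val χ t) none = true :=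
    fun B _ _ _ _ hp h1 h2 h3 h4 => ⟨okC_true hGN ht hp h1 h3,
      feas_true hGN D.B₁₁ B hp h1 h2 h3 ht D.perm₁₁ h4 fun f hf => by cases hf⟩
  obtain ⟨a1, a2⟩ := ok D.B₇ (by norm_num) rfl rfl rfl D.perm₇
  obtain ⟨b1, b2⟩ := ok D.B₅ (by norm_num) rfl rfl rfl D.perm₅
  rw [D.items₇, D.items₁₁] at a2
  rw [D.items₅, D.items₁₁] at b2
  rw [D.items₇] at a1
  rw [D.items₅] at b1
  rw [a1, a2, b1, b2] at hbad
  exact absurd hbad (by decide)

theorem Data.card_Cg {t : G} (ht : orderOf t = 2) : Nat.card (Cg t) = 384 := (D.forced hGN ht).1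

/-- The values fixed by a single character of its degree. -/
theorem Data.val_fix {t : G} (ht : orderOf t = 2) {d : ℕ} {v : ℤ}
    (hf : (d, v) ∈ ([(55, 7), (99, 3), (154, 10), (231, 7)] : List (ℕ × ℤ))) {χ : IrrCharacter G}
    (hd : deg χ = d) : val χ t = v := by
  classical
  have hG := not_comm hGN
  obtain ⟨hC, hw⟩ := D.forced hGN ht
  obtain ⟨hn₇, he₇, hK₇⟩ := D.card_Sylow_seven hGN
  obtain ⟨hn₅, he₅, hK₅⟩ := D.card_Sylow_five hGN
  have hcases := hf
  simp only [List.mem_cons, List.not_mem_nil, or_false, Prod.mk.injEq] at hcases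
  have hd1 : d ≠ 1 := by omega
  have hdS : d ∈ degSet := by rcases hcases with h | h | h | h <;> rw [h.1] <;> decide
  have hdM : degMult d = 1 := by rcases hcases with h | h | h | h <;> rw [h.1] <;> rfl
  have hsame : ∀ ψ : IrrCharacter G, deg ψ = d → ψ = χ := fun ψ hψ =>
    Finset.card_le_one.1 ((D.card_deg hGN hdS).le.trans hdM.le) ψ (Finset.mem_filter.2 ⟨Finset.mem_univ _, hψ⟩) χ
      (Finset.mem_filter.2 ⟨Finset.mem_univ _, hd⟩)
  have hne := ne_one_of_deg_ne χ (by rw [hd]; exact hd1)
  obtain ⟨h4, hi, hlo, hhi⟩ := (val_spec hG χ ht).2 hne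
  have hsq : val χ t * val χ t ≤ (Nat.card (Cg t) : ℤ) := by
    rw [← sum_val_sq hGN ht]
    exact Finset.single_le_sum (f := fun χ => val χ t * val χ t) (fun _ _ => mul_self_nonneg _)
      (Finset.mem_univ χ)
  have hmem : val χ t ∈ cvals 4 d (443520 / 384) 384 := by
    refine mem_cvals (hd ▸ hlo) (hd ▸ hhi) (natAbs_le_bnd (C := 384) ?_ (by norm_num)) ?_ ?_
    · rw [hC] at hsq
      push_cast at hsq ⊢
      rcases le_or_gt (val χ t) (-20) with h | h
      · nlinarith
      rcases le_or_gt (val χ t) 19 with h' | h'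
      · nlinarith
      · nlinarith
    · rw [show (443520 / 384 : ℕ) = (Cg t).index by
        rw [← hGN, ← (Cg t).index_mul_card, hC, Nat.mul_div_cancel _ (by norm_num)], ← hd]
      exact hi
    · rw [← hd]
      exact Int.dvd_of_emod_eq_zero (show ((deg χ : ℤ) - val χ t) % 4 = 0 by
        rw [Int.sub_emod, h4, sub_self, Int.zero_emod])
  have h := List.all_eq_true.1 (List.all_eq_true.1 forced_fix _ hf) _ hmem
  simp only [Bool.or_eq_true, Bool.not_eq_true', decide_eq_true_eq] at h
  refine h.resolve_right fun hbad => ?_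
  have ok : ∀ {p : ℕ} [Fact p.Prime] {L : Local p G} (B : Block L) {l : List (IrrCharacter G)},
      p ≠ 2 → l.Perm B.reps →
      feas p (Nat.card (Sylow p G), e L, Nat.card L.K, l.map B.item) 384 theT ([-8, 2, -3, -3, 5], 208)
        (some (d, val χ t)) = true := by
    intro p _ L B l hp hl
    rw [← hw, ← hC, ← D.items₁₁]
    exact feas_true hGN D.B₁₁ B hp rfl rfl rfl ht D.perm₁₁ hl fun f hf' ψ hψ _ => by
      cases hf'; rw [hsame ψ hψ]
  have a := ok D.B₇ (by norm_num) D.perm₇
  have b := ok D.B₅ (by norm_num) D.perm₅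
  rw [D.items₇] at a
  rw [D.items₅] at b
  rw [a, b] at hbad
  exact absurd hbad (by decide)

/-- **The values at an involution.** -/
theorem Data.val_eq {t : G} (ht : orderOf t = 2) (χ : IrrCharacter G) : val χ t = tv (deg χ) := by
  classical
  have hG := not_comm hGN
  have hsmall : ∀ ψ : IrrCharacter G, deg ψ ≠ 385 → val ψ t = tv (deg ψ) := by
    intro ψ hne
    have hmem := D.deg_mem hGN ψ
    by_cases h11 : 11 ∣ deg ψ
    · have hcase : deg ψ ∈ ([55, 99, 154, 231] : List ℕ) := by
        revert hne h11 hmem; generalize deg ψ = d; intro hne hmem; fin_cases hmem <;> first | exact absurd rfl hne | simp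
      simp only [List.mem_cons, List.not_mem_nil, or_false] at hcase
      rcases hcase with h | h | h | h <;> rw [D.val_fix hGN ht (v := tv (deg ψ)) (by rw [h]; decide) h]
    · by_cases h1 : deg ψ = 1
      · have hψ : (ψ : G → ℂ) = fun _ => 1 := by
          by_contra hne'
          exact absurd h1 (one_lt_deg hG hne').ne'
        rw [h1, val_of_eq (v := 1) (by rw [hψ, Int.cast_one])]
        rfl
      · obtain ⟨r, hr, hdeg, hv⟩ := exists_eleven_alike hGN D.B₁₁ (ne_one_of_deg_ne ψ h1) h11
        rw [← hv t ht, ← hdeg]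
        have hw := congrArg Prod.fst (D.forced hGN ht).2
        simp only at hw
        have hzip : ((D.l₁₁.map D.B₁₁.item).map fun x => x.2.2).zip (D.l₁₁.map fun r => val r t) =
            [(280, -8), (210, 2), (45, -3), (45, -3), (21, 5)] := by
          rw [D.items₁₁, hw]; decide +kernel
        rw [List.map_map, List.zip_map'] at hzip
        have : (deg r, val r t) ∈ ([(280, -8), (210, 2), (45, -3), (45, -3), (21, 5)] : List (ℕ × ℤ)) :=
          hzip ▸ List.mem_map.2 ⟨r, D.perm₁₁.symm.subset hr, rfl⟩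
        simp only [List.mem_cons, List.not_mem_nil, or_false, Prod.mk.injEq] at this
        rcases this with ⟨a, b⟩ | ⟨a, b⟩ | ⟨a, b⟩ | ⟨a, b⟩ | ⟨a, b⟩ <;> rw [a, b] <;> rfl
  by_cases h385 : deg χ = 385
  · have hs := sum_val_sq hGN ht
    rw [D.card_Cg hGN ht, ← Finset.add_sum_erase _ _ (Finset.mem_univ χ),
      Finset.sum_congr rfl (g := fun ψ => tv (deg ψ) * tv (deg ψ)) fun ψ hψ => by
        rw [hsmall ψ fun h => Finset.ne_of_mem_erase hψ (Finset.card_le_one.1
          (le_of_eq (D.card_deg hGN (d := 385) (by decide))) ψ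
          (Finset.mem_filter.2 ⟨Finset.mem_univ _, h⟩) χ (Finset.mem_filter.2 ⟨Finset.mem_univ _, h385⟩))],
      Finset.sum_erase_eq_sub (Finset.mem_univ χ), D.sum_deg hGN (fun d => tv d * tv d),
      show (∑ d ∈ degSet, degMult d • (tv d * tv d) : ℤ) = 384 by decide +kernel, h385] at hs
    obtain ⟨h4, -⟩ := (val_spec hG χ ht).2 (ne_one_of_deg_ne χ (by omega))
    rw [h385] at h4 ⊢
    have hv : val χ t = 1 ∨ val χ t = -1 := by
      have : val χ t * val χ t = 1 := by simp only [tv] at hs; push_cast at hs; omega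
      exact mul_self_eq_one_iff.1 this
    simp only [tv]
    omega
  · exact hsmall χ h385

/-- **One class of involutions.** -/
theorem Data.isConj {t t' : G} (ht : orderOf t = 2) (ht' : orderOf t' = 2) : IsConj t t' := by
  classical
  have hG := not_comm hGN
  by_contra hne
  have h := sum_irr_mul_conj_of_not_isConj hne
  simp only [fun χ => (val_spec hG χ ht).1, fun χ => (val_spec hG χ ht').1, map_intCast,
    D.val_eq hGN ht, D.val_eq hGN ht'] at h
  have h2 : ∑ χ : IrrCharacter G, tv (deg χ) * tv (deg χ) = 0 := by exact_mod_cast h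
  rw [D.sum_deg hGN (fun d => tv d * tv d)] at h2
  revert h2
  decide +kernel

end CfsgLib.MTwentyTwoUnique
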