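import Cfsg.Agent.MTwentyTwoUnique.Sound
import Cfsg.Agent.MElevenUnique.Eleven

/-!
A simple group of order 443520: a Sylow subgroup of order 11 is self-centralising with normaliser of
order 55.
-/

set_option autoImplicit false
set_option linter.style.haveILetI false
set_option linter.unusedSectionVars false

open scoped Pointwise
open MulAction

namespace CfsgLib.MTwentyTwoUnique

open Cfsg CfsgLib.DefectOne CfsgLib.BrauerOrderP
open CfsgLib.MElevenUnique (Cg Ng Cs fixCard mem_Cg mem_Cs inCard inCard_spec)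

universe u

variable {G : Type u} [Group G] [Fintype G] [IsSimpleGroup G] (hGN : Nat.card G = 443520)
include hGN

theorem not_comm : ¬ IsMulCommutative G := Small.not_comm_of_card hGN (by norm_num)

theorem index_ge_eleven {H : Subgroup G} (hH : H ≠ ⊤) : 11 ≤ H.index :=
  Small.lt_index_of_not_dvd (not_comm hGN) hH (b := 10) (by rw [hGN]; decide)

theorem card_dvd_GN (H : Subgroup G) : Nat.card H ∣ 443520 := hGN ▸ Subgroup.card_subgroup_dvd_card H

theorem card_sylow_prime {p : ℕ} [Fact p.Prime] (h : p ∣ 443520) (h2 : ¬ p ^ 2 ∣ 443520)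
    (P : Sylow p G) : Nat.card (P : Subgroup G) = p :=
  card_sylow_of_sq_not_dvd (hGN ▸ h) (hGN ▸ h2) P

omit hGN in
theorem params_eleven_check : ((dvds.filter fun n => decide (n % 11 = 1) && decide (n ≠ 1) &&
    decide ((443520 / n) % 11 = 0)).all fun n => [1, 2, 5, 10].all fun e =>
      decide ((443520 / n / 11) % e ≠ 0) || decide (n = 144) || (decide (n = 8064) && decide (e = 5)) ||
        !blocks 11 n e (443520 / n / 11 / e) fun _ => true) = true := by
  decide +kernel

/-- **The Sylow subgroups of order 11.** -/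
theorem eleven_local [Fact (Nat.Prime 11)] (L : Local 11 G) :
    Nat.card (Sylow 11 G) = 8064 ∧ e L = 5 ∧ Nat.card L.K = 1 := by
  classical
  have hG := not_comm hGN
  set n := Nat.card (Sylow 11 G) with hn
  have hmul : n * Nat.card L.N = 443520 := hGN ▸ Small.card_sylow_mul_card_normalizer L.P
  have hN := card_N L
  have hn1 : n ≠ 1 := Small.card_sylow_ne_one hG (hGN ▸ (by norm_num)) 
  have hnmod : n % 11 = 1 := Small.card_sylow_mod 11
  have hndvd : n ∣ 443520 := ⟨_, hmul.symm⟩
  have hn0 : 0 < n := Nat.card_pos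
  have hNn : 443520 / n = e L * (11 * Nat.card L.K) := by
    rw [hN]; exact Nat.div_eq_of_eq_mul_left hn0 (by rw [← hmul]; ring)
  have he10 := e_dvd L
  have hemem : e L ∈ [1, 2, 5, 10] := by
    have : e L ∈ Nat.divisors 10 := Nat.mem_divisors.2 ⟨he10, by norm_num⟩
    rw [show Nat.divisors 10 = {1, 2, 5, 10} by decide] at this
    simpa using this
  have hdiv11 : 443520 / n / 11 = e L * Nat.card L.K := by
    rw [hNn, show e L * (11 * Nat.card L.K) = 11 * (e L * Nat.card L.K) by ring]
    exact Nat.mul_div_cancel_left _ (by norm_num)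
  have hK : 443520 / n / 11 / e L = Nat.card L.K := by
    rw [hdiv11, Nat.mul_div_cancel_left _ (e_pos L)]
  have hcase := List.all_eq_true.1 (List.all_eq_true.1 params_eleven_check n (List.mem_filter.2
    ⟨mem_dvds hndvd, by
      simp only [Bool.and_eq_true, decide_eq_true_eq]
      exact ⟨⟨hnmod, hn1⟩, hNn.symm ▸ Nat.mod_eq_zero_of_dvd ⟨e L * Nat.card L.K, by ring⟩⟩⟩)) (e L) hemem
  simp only [Bool.or_eq_true, Bool.and_eq_true, decide_eq_true_eq, Bool.not_eq_true', ne_eq, hdiv11,
    Nat.mul_mod_right, not_true_eq_false, false_or] at hcase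
  rw [Nat.mul_div_cancel_left _ (e_pos L)] at hcase
  rcases hcase with (h144 | ⟨h8064, h5⟩) | hbad
  · exfalso
    have hall : ∀ Q : Sylow 11 G, Nat.card (Q : Subgroup G) = 11 :=
      fun Q => card_sylow_prime hGN (by norm_num) (by norm_num) Q
    haveI := Fact.mk (show Nat.Prime 7 by norm_num)
    have h7 : 7 ∣ Nat.card L.K := by
      rw [h144] at hNn
      have : 7 ∣ e L * (11 * Nat.card L.K) := hNn ▸ (by norm_num)
      rcases (Nat.Prime.dvd_mul (by norm_num)).1 this with h | h
      · exfalso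
        simp only [List.mem_cons, List.not_mem_nil, or_false] at hemem
        omega
      · exact ((Nat.Prime.dvd_mul (by norm_num)).1 h).resolve_left (by norm_num)
    obtain ⟨xK, hxK⟩ := exists_prime_orderOf_dvd_card' (G := L.K) 7 h7
    set x := (xK : G)
    have hx : orderOf x = 7 := by rw [Subgroup.orderOf_coe]; exact hxK
    have hfix : ∀ Q : Sylow 11 G, x • Q = Q ↔ (Q : Subgroup G) ≤ Cg x := by
      intro Q
      rw [MElevenUnique.smul_sylow_eq_iff]
      constructor
      · intro h
        obtain ⟨s, hs1, hsx, hsC⟩ := Small.exists_ne_one_mem_centralizer_of_not_dvd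
          (P := (Q : Subgroup G)) (K := Subgroup.zpowers x) (Subgroup.zpowers_le.2 h) (by
            rw [Nat.card_zpowers, hx]
            intro hd
            have h7' := hd.trans (Small.relIndex_centralizer_dvd_pred (hall Q))
            norm_num at h7')
        have hxs : x ∈ Subgroup.zpowers s := by
          have := Subgroup.eq_of_le_of_card_ge (Subgroup.zpowers_le.2 hsx) (by
            rw [Nat.card_zpowers, Nat.card_zpowers, hx]
            have hd : orderOf s ∣ 7 := by
              have := Subgroup.orderOf_dvd_natCard _ hsx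
              rwa [Nat.card_zpowers, hx] at this
            rcases (Nat.dvd_prime (by norm_num)).1 hd with r | r
            · exact absurd (orderOf_eq_one_iff.1 r) hs1
            · exact r.ge)
          exact this.ge (Subgroup.mem_zpowers x)
        exact Small.sylow_le_centralizer_singleton Q (Subgroup.zpowers_le.2 hsC hxs)
      · intro h
        exact MElevenUnique.Cs_le_Ng _ (MElevenUnique.mem_Cs_of_le_Cg h)
    have hPx : (L.P : Subgroup G) ≤ Cg x := fun w hw =>
      mem_Cg.2 (L.commute hw xK.2).eq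
    have hmod7 := MElevenUnique.card_modEq_fix (X := Sylow 11 G) (p := 7) (y := x) (hx ▸ pow_orderOf_eq_one x)
    have hfeq : fixCard (Sylow 11 G) x = inCard 11 (Cg x) :=
      Nat.card_congr (Equiv.subtypeEquivRight hfix)
    obtain ⟨h11, hCmul⟩ := inCard_spec L.P hPx
    have hdvd : inCard 11 (Cg x) ∣ 443520 := (Dvd.intro _ hCmul.symm).trans (card_dvd_GN hGN _)
    have hle : inCard 11 (Cg x) ≤ 144 := h144 ▸ hn ▸ Nat.card_le_card_of_injective _ Subtype.val_injective
    have hlist : inCard 11 (Cg x) = 144 := by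
      rw [hfeq, ← hn, h144] at hmod7
      have key : ∀ m ∈ List.range 145, m % 11 = 1 → m % 7 = 144 % 7 → 443520 % m = 0 → m = 144 := by
        decide +kernel
      exact key _ (List.mem_range.2 (by omega)) h11 hmod7.symm (Nat.mod_eq_zero_of_dvd hdvd)
    -- every Sylow subgroup is fixed
    have hallfix : ∀ Q : Sylow 11 G, x • Q = Q := by
      intro Q
      have hsurj : Function.Bijective (Subtype.val : {Q : Sylow 11 G // (Q : Subgroup G) ≤ Cg x} → Sylow 11 G) :=
        (Nat.bijective_iff_injective_and_card _).2 ⟨Subtype.val_injective, by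
          show inCard 11 (Cg x) = _; rw [hlist, ← hn, h144]⟩
      obtain ⟨⟨Q', hQ'⟩, rfl⟩ := hsurj.2 Q
      exact (hfix Q').2 hQ'
    have hker : (MulAction.toPermHom G (Sylow 11 G)).ker = ⊤ :=
      (MonoidHom.normal_ker _).eq_bot_or_eq_top.resolve_left fun e => by
        have : x ∈ (MulAction.toPermHom G (Sylow 11 G)).ker :=
          MonoidHom.mem_ker.2 (Equiv.ext fun Q => hallfix Q)
        rw [e, Subgroup.mem_bot] at this
        rw [this, orderOf_one] at hx
        norm_num at hx
    haveI : Nontrivial (Sylow 11 G) := Finite.one_lt_card_iff_nontrivial.1 (by omega)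
    obtain ⟨Q₁, Q₂, hne⟩ := exists_pair_ne (Sylow 11 G)
    obtain ⟨g, hg⟩ := MulAction.exists_smul_eq G Q₁ Q₂
    have h1 : (MulAction.toPermHom G (Sylow 11 G)) g = 1 := MonoidHom.mem_ker.1 (hker ▸ Subgroup.mem_top g)
    exact hne ((DFunLike.congr_fun h1 Q₁).symm.trans hg)
  · refine ⟨h8064, h5, ?_⟩
    rw [h5, h8064] at hNn
    omega
  · exfalso
    obtain ⟨B⟩ := exists_block L (by norm_num)
    obtain ⟨l, -, hl⟩ := B.exists_reorder hGN hG (by norm_num) hn.symm rfl rfl hbad
    exact Bool.noConfusion hl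

theorem K_bot [Fact (Nat.Prime 11)] (L : Local 11 G) : L.K = ⊥ :=
  Subgroup.card_eq_one.1 (eleven_local hGN L).2.2

theorem card_Cs_eleven [Fact (Nat.Prime 11)] (P : Sylow 11 G) :
    Nat.card (Cs (P : Subgroup G)) = 11 ∧ Nat.card (Ng (P : Subgroup G)) = 55 := by
  obtain ⟨L, rfl⟩ := exists_local (p := 11) (hGN ▸ (by norm_num)) (hGN ▸ (by norm_num)) P
  obtain ⟨-, he, hK⟩ := eleven_local hGN L
  refine ⟨by rw [show Cs (L.P : Subgroup G) = Subgroup.centralizer ((L.P : Subgroup G) : Set G) from rfl,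
    L.card_centralizer, hK], ?_⟩
  have := card_N L
  rw [he, hK] at this
  exact this.symm

/-- An element commuting with an element of order 11 lies in its cyclic group. -/
theorem not_eleven_dvd_Cg {x : G} (hx : x ≠ 1) (h : ¬ 11 ∣ orderOf x) : ¬ 11 ∣ Nat.card (Cg x) := by
  haveI := Fact.mk (show Nat.Prime 11 by norm_num)
  intro hd
  obtain ⟨y, hy⟩ := exists_prime_orderOf_dvd_card' (G := Cg x) 11 hd
  have hy' : orderOf (y : G) = 11 := by rw [Subgroup.orderOf_coe]; exact hy
  obtain ⟨P, hP⟩ := MElevenUnique.exists_sylow_of_orderOf hy'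
  have hy1 : (y : G) ≠ 1 := fun e => by rw [e, orderOf_one] at hy'; norm_num at hy'
  have hC : Cg (y : G) = Cs (P : Subgroup G) :=
    Small.centralizer_singleton_eq_of_prime (card_sylow_prime hGN (by norm_num) (by norm_num) P) hP hy1
  have hxC : x ∈ Cs (P : Subgroup G) := hC ▸ MElevenUnique.mem_Cg_comm.1 y.2
  have h1 := Subgroup.orderOf_dvd_natCard _ hxC
  rw [(card_Cs_eleven hGN P).1, Nat.dvd_prime (by norm_num)] at h1
  rcases h1 with r | r
  · exact hx (orderOf_eq_one_iff.1 r)
  · exact h (r ▸ dvd_rfl)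

theorem Cg_mem_invOrders {t : G} (ht : orderOf t = 2) : Nat.card (Cg t) ∈ invOrders := by
  have hd := card_dvd_GN hGN (Cg t)
  have ht1 : t ≠ 1 := fun e => by rw [e, orderOf_one] at ht; omega
  have h2 : 2 ∣ Nat.card (Cg t) := ht ▸ Subgroup.orderOf_dvd_natCard _ (mem_Cg.2 rfl)
  have h11 := not_eleven_dvd_Cg hGN ht1 (by rw [ht]; norm_num)
  have h3 := (Cg t).index_mul_card
  rw [hGN] at h3
  have h4 : 11 * Nat.card (Cg t) ≤ (Cg t).index * Nat.card (Cg t) :=
    Nat.mul_le_mul_right _ (index_ge_eleven hGN (Small.centralizer_singleton_ne_top (not_comm hGN) ht1))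
  simp only [invOrders, List.mem_filter, Bool.and_eq_true, decide_eq_true_eq]
  exact ⟨mem_dvds hd, ⟨Nat.mod_eq_zero_of_dvd h2, fun e => h11 (Nat.dvd_of_mod_eq_zero e)⟩, by omega⟩

/-- A normaliser of a subgroup of order 5 or 7 has order prime to 11. -/
theorem not_eleven_dvd_N {p : ℕ} [Fact p.Prime] (hp : p = 5 ∨ p = 7) (L : Local p G) :
    ¬ 11 ∣ Nat.card L.N := by
  haveI := Fact.mk (show Nat.Prime 11 by norm_num)
  intro hd
  rw [← card_N L] at hd
  obtain ⟨x, hx, hx1⟩ : ∃ x : G, x ∈ (L.P : Subgroup G) ∧ x ≠ 1 := by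
    obtain ⟨u, hu⟩ := exists_mem_ne_one L
    exact ⟨u, u.2, fun e => hu (Subtype.ext e)⟩
  have hox := L.orderOf_of_mem hx hx1
  refine not_eleven_dvd_Cg hGN hx1 (by rcases hp with rfl | rfl <;> rw [hox] <;> norm_num) ?_
  rw [show Cg x = Subgroup.centralizer ((L.P : Subgroup G) : Set G) from L.centralizer_singleton hx hx1,
    L.card_centralizer]
  refine ((Nat.Prime.dvd_mul (by norm_num)).1 hd).resolve_left fun he => ?_
  have := Nat.le_of_dvd (e_pos L) he
  have := e_lt L
  omega

end CfsgLib.MTwentyTwoUnique
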