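import Cfsg.Agent.MTwentyTwoUnique.Block
import Cfsg.Agent.MElevenUnique.Tools
import Cfsg.Agent.Small.CosetRep

/-!
Consequences for a simple group: degrees, values at involutions, the class equation over a coset of
the complement and the centraliser of an involution commuting with an element of order `p`.
-/

set_option autoImplicit false
set_option linter.style.haveILetI false
set_option linter.unusedSectionVars false

namespace CfsgLib.MTwentyTwoUnique

open Cfsg CfsgLib.Characters CfsgLib.DefectOne CfsgLib.BrauerOrderP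
open CfsgLib.MElevenUnique (Cg Ng Cs mem_Cg)
open scoped ComplexConjugate

universe u

variable {G : Type u} [Group G] [Fintype G]

theorem commutator_eq_top [IsSimpleGroup G] (hG : ¬ IsMulCommutative G) : commutator G = ⊤ :=
  (inferInstance : (commutator G).Normal).eq_bot_or_eq_top.resolve_left fun e => hG
    ⟨⟨fun u v => commutatorElement_eq_one_iff_mul_comm.1 (Subgroup.mem_bot.1
      (e ▸ Subgroup.commutator_mem_commutator (Subgroup.mem_top u) (Subgroup.mem_top v)))⟩⟩

theorem one_lt_deg [IsSimpleGroup G] (hG : ¬ IsMulCommutative G) {χ : IrrCharacter G}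
    (h : (χ : G → ℂ) ≠ fun _ => 1) : 1 < deg χ := by
  have h0 := Blocks.charDegree_ne_zero χ
  by_contra hle
  exact h (eq_one_of_degree_one (commutator_eq_top hG) (by unfold deg at hle; omega))

theorem apply_one (χ : IrrCharacter G) : (χ : G → ℂ) 1 = (deg χ : ℂ) :=
  (Blocks.charDegree_cast χ).symm

theorem deg_dvd (χ : IrrCharacter G) : deg χ ∣ Nat.card G := Blocks.charDegree_dvd_card χ

open Classical in
/-- The integral value of a character, where there is one. -/
noncomputable def val (χ : IrrCharacter G) (t : G) : ℤ :=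
  if h : ∃ v : ℤ, (χ : G → ℂ) t = v then h.choose else 0

theorem val_of_eq {χ : IrrCharacter G} {t : G} {v : ℤ} (h : (χ : G → ℂ) t = v) : val χ t = v := by
  have hex : ∃ v : ℤ, (χ : G → ℂ) t = v := ⟨v, h⟩
  rw [val, dif_pos hex]
  exact Int.cast_injective (α := ℂ) (hex.choose_spec.symm.trans h)

theorem val_spec [IsSimpleGroup G] (hG : ¬ IsMulCommutative G) (χ : IrrCharacter G) {t : G}
    (ht : orderOf t = 2) :
    (χ : G → ℂ) t = val χ t ∧ ((χ : G → ℂ) ≠ (fun _ => 1) →
      (deg χ : ℤ) % 4 = val χ t % 4 ∧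
      (deg χ : ℤ) ∣ ((Cg t).index : ℤ) * val χ t ∧ -(deg χ : ℤ) < val χ t ∧ val χ t < deg χ) := by
  by_cases h : (χ : G → ℂ) = fun _ => 1
  · have : (χ : G → ℂ) t = ((1 : ℤ) : ℂ) := by rw [h, Int.cast_one]
    exact ⟨by rw [val_of_eq this, this], fun hn => absurd h hn⟩
  · obtain ⟨v, hv, hv'⟩ := Small.Check.exists_value hG χ (apply_one χ) (one_lt_deg hG h) ht
    rw [val_of_eq hv]
    exact ⟨hv, fun _ => hv'⟩

variable {p : ℕ} [Fact p.Prime] {L : Local p G}

theorem two_ne (hp : p ≠ 2) {t : G} (ht : orderOf t = 2) : ¬ p ∣ orderOf t := fun h =>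
  hp ((Nat.prime_dvd_prime_iff_eq (Fact.out : p.Prime) Nat.prime_two).1 (ht ▸ h))

theorem const_congr {χ : IrrCharacter G} {a : ℤ} (h : IsConst L χ a) :
    (p : ℤ) ∣ (deg χ : ℤ) - a := by
  obtain ⟨m, hm⟩ := h.congr
  have : 1 ≤ p := (Fact.out : p.Prime).one_le
  rw [Nat.cast_sub this, Nat.cast_one] at hm
  exact ⟨(m : ℤ) - a, by linear_combination hm⟩

open Classical in
/-- A constant row is congruent modulo `p` at `1` and at an involution of the complement. -/
theorem const_dvd_sub_val {χ : IrrCharacter G} {a v : ℤ} (h : IsConst L χ a) {k : G} (hk : k ∈ L.K)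
    (hk2 : orderOf k = 2) (hv : (χ : G → ℂ) k = v) : (p : ℤ) ∣ (deg χ : ℤ) - v := by
  haveI := L.finite_lam
  letI := Fintype.ofFinite L.Lam
  set kK : L.K := ⟨k, hk⟩
  have hkK : orderOf kK = 2 := by rw [← Subgroup.orderOf_coe]; exact hk2
  let Z : Subgroup L.K := Subgroup.zpowers kK
  let f : ↥(L.P : Subgroup G) × Z →* G := L.emb.comp ((MonoidHom.id _).prodMap Z.subtype)
  have hf : Function.Injective f := L.emb_injective.comp
    (Function.Injective.prodMap Function.injective_id Subtype.val_injective)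
  haveI := Fintype.ofFinite f.range
  obtain ⟨m, hm⟩ := classInner_characters (isCharacter_restrict f.range (isCharacter_of_isIrr χ.2))
    (isCharacter_of_isIrr (isIrr_one (G := f.range)))
  haveI := Fintype.ofFinite (L.P : Subgroup G)
  haveI := Fintype.ofFinite Z
  rw [Cfsg.classInner] at hm
  simp only [map_one, mul_one] at hm
  have hcardH : Nat.card f.range = p * 2 := by
    rw [← Nat.card_congr (MonoidHom.ofInjective hf).toEquiv, Nat.card_prod, L.card_P,
      Nat.card_zpowers, hkK]
  have hsum : ∑ x : f.range, (χ : G → ℂ) x = ∑ y : ↥(L.P : Subgroup G) × Z, (χ : G → ℂ) (f y) :=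
    (Fintype.sum_equiv (MonoidHom.ofInjective hf).toEquiv _ _ fun y => rfl).symm
  have hinner : ∀ z : Z, ∑ w : ↥(L.P : Subgroup G), (χ : G → ℂ) (f (w, z)) =
      (χ : G → ℂ) ((z : L.K) : G) + ((p : ℂ) - 1) * a := by
    intro z
    rw [← Finset.add_sum_erase _ _ (Finset.mem_univ (1 : ↥(L.P : Subgroup G))),
      Finset.sum_congr rfl (g := fun _ => (a : ℂ)) fun w hw => by
        show (χ : G → ℂ) ((w : G) * ((z : L.K) : G)) = a
        exact h.value (Finset.ne_of_mem_erase hw) _, Finset.sum_const,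
      Finset.card_erase_of_mem (Finset.mem_univ _), Finset.card_univ, ← Nat.card_eq_fintype_card,
      L.card_P, nsmul_eq_mul, Nat.cast_sub (Fact.out : p.Prime).one_le, Nat.cast_one]
    congr 1
    show (χ : G → ℂ) (((1 : ↥(L.P : Subgroup G)) : G) * ((z : L.K) : G)) = _
    rw [OneMemClass.coe_one, one_mul]
  have hZ : (Finset.univ : Finset Z) = {1, ⟨kK, Subgroup.mem_zpowers kK⟩} := by
    refine (Finset.eq_univ_of_card _ ?_).symm
    rw [← Nat.card_eq_fintype_card, Nat.card_zpowers, hkK, Finset.card_pair]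
    intro e
    have := congrArg (fun z : Z => (z : L.K)) e
    simp only [OneMemClass.coe_one] at this
    rw [← this, orderOf_one] at hkK
    omega
  have hne : (1 : Z) ≠ ⟨kK, Subgroup.mem_zpowers kK⟩ := fun e => by
    have := congrArg (fun z : Z => (z : L.K)) e
    simp only [OneMemClass.coe_one] at this
    rw [← this, orderOf_one] at hkK
    omega
  rw [hsum, Fintype.sum_prod_type, Finset.sum_comm, Finset.sum_congr rfl fun z _ => hinner z, hZ,
    Finset.sum_pair hne, hcardH] at hm
  simp only [OneMemClass.coe_one, kK] at hm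
  rw [hv, apply_one, inv_mul_eq_iff_eq_mul₀ (by simp [(Fact.out : p.Prime).ne_zero])] at hm
  have h2 : (deg χ : ℤ) + ((p : ℤ) - 1) * a + (v + ((p : ℤ) - 1) * a) = (p : ℤ) * 2 * m := by
    apply Int.cast_injective (α := ℂ)
    push_cast at hm ⊢
    linear_combination hm
  obtain ⟨c, hc⟩ := const_congr h
  exact ⟨2 * c - (2 * m : ℤ) + 2 * a, by linear_combination 2 * hc - h2⟩

/-- The class equation of an involution over a coset of the complement. -/
theorem Block.class_equation (B : Block L) [IsSimpleGroup G] (hG : ¬ IsMulCommutative G) (hp : p ≠ 2)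
    {t : G} (ht : orderOf t = 2) :
    ∃ a : ℕ, a ≤ Nat.card L.K ∧ (Odd (e L) → a = 0) ∧
      ((Nat.card G : ℤ) + (B.reps.map fun r =>
          B.co r * (val r t * val r t) * ((Nat.card G / deg r : ℕ) : ℤ)).sum) * (Nat.card L.K : ℤ) =
        (p : ℤ) * ((a : ℤ) * a) * ((Nat.card (Cg t) : ℤ) * Nat.card (Cg t)) := by
  classical
  obtain ⟨u, hu⟩ := exists_mem_ne_one L
  obtain ⟨a, ha, hodd, hT⟩ := card_pairsIn L ht u.2 (fun h => hu (Subtype.ext h)) hp
  refine ⟨a, ha, hodd, ?_⟩
  haveI := Fintype.ofFinite L.K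
  set S : Finset G := Finset.univ.image fun k : L.K => (u : G) * k
  have hS : ∀ g, g ∈ S ↔ g ∈ (fun k => (u : G) * k) '' (L.K : Set G) := fun g => by
    simp only [S, Finset.mem_image, Finset.mem_univ, true_and, Set.mem_image, Subtype.exists, SetLike.mem_coe]
    exact ⟨fun ⟨a, ha, e⟩ => ⟨a, ha, e⟩, fun ⟨a, ha, e⟩ => ⟨a, ha, e⟩⟩
  have key := ClassPairs.card_pairs t t S
  rw [sum_pairs_eq L ht S hS, hT] at key
  have hinj : Function.Injective fun k : L.K => (u : G) * k := fun x y h =>
    Subtype.ext (mul_left_cancel h)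
  simp only [S, Finset.sum_image fun x _ y _ h => hinj h] at key
  rw [Finset.sum_congr rfl (g := fun χ : IrrCharacter G =>
      (∑ᶠ k : L.K, conj ((χ : G → ℂ) ((u : G) * k))) *
        ((χ : G → ℂ) t * (χ : G → ℂ) t / (χ : G → ℂ) 1))
      fun χ _ => by rw [finsum_eq_sum_of_fintype],
    B.sum_coset u hu (fun χ => (χ : G → ℂ) t * (χ : G → ℂ) t / (χ : G → ℂ) 1) fun χ χ' h => by
      show (χ : G → ℂ) t * (χ : G → ℂ) t / (χ : G → ℂ) 1 = _
      rw [h.2 t (two_ne hp ht), apply_one, apply_one, h.1]] at key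
  simp only [B.one_eq, mul_one, div_one] at key
  have hterm : ∀ r : IrrCharacter G,
      (Nat.card G : ℂ) * ((B.co r : ℂ) * ((r : G → ℂ) t * (r : G → ℂ) t / (r : G → ℂ) 1)) =
        ((B.co r * (val r t * val r t) * ((Nat.card G / deg r : ℕ) : ℤ) : ℤ) : ℂ) := by
    intro r
    rw [(val_spec hG r ht).1, apply_one, Int.cast_mul, Int.cast_mul, Int.cast_mul, Int.cast_natCast,
      Nat.cast_div (deg_dvd r) (Nat.cast_ne_zero.2 (Blocks.charDegree_ne_zero r))]
    ring
  set F : IrrCharacter G → ℤ := fun r =>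
    B.co r * (val r t * val r t) * ((Nat.card G / deg r : ℕ) : ℤ) with hF
  have hsum : (Nat.card G : ℂ) *
      (B.reps.map fun r => (B.co r : ℂ) * ((r : G → ℂ) t * (r : G → ℂ) t / (r : G → ℂ) 1)).sum =
        (((B.reps.map F).sum : ℤ) : ℂ) := by
    rw [← List.sum_map_mul_left]
    simp only [hterm]
    clear_value F
    induction B.reps with
    | nil => simp
    | cons x l ih => simp only [List.map_cons, List.sum_cons, Int.cast_add, ih, hF]
  generalize hX : (B.reps.map F).sum = X at hsum ⊢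
  apply Int.cast_injective (α := ℂ)
  push_cast at key ⊢
  linear_combination -key - (Nat.card L.K : ℂ) * hsum

theorem Block.relation_val (B : Block L) [IsSimpleGroup G] (hG : ¬ IsMulCommutative G) (hp : p ≠ 2)
    {t : G} (ht : orderOf t = 2) : 1 + (B.reps.map fun r => B.co r * val r t).sum = 0 := by
  apply Int.cast_injective (α := ℂ)
  push_cast
  rw [List.map_map, ← B.relation t (two_ne hp ht)]
  congr 2
  refine List.map_congr_left fun r _ => ?_
  simp [(val_spec hG r ht).1]

theorem Block.relation_deg (B : Block L) : 1 + (B.reps.map fun r => B.co r * (deg r : ℤ)).sum = 0 := by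
  apply Int.cast_injective (α := ℂ)
  push_cast
  rw [List.map_map,
    ← B.relation 1 (by rw [orderOf_one, Nat.dvd_one]; exact (Fact.out : p.Prime).ne_one)]
  congr 2
  refine List.map_congr_left fun r _ => ?_
  simp [apply_one]

/-- Sums over the block of integral functions. -/
theorem Block.sum_int (B : Block L) (F : IrrCharacter G → ℤ)
    (hF : ∀ χ χ', Alike p χ χ' → F χ = F χ') :
    ∑ χ ∈ B.chars, F χ = (B.reps.map fun r => (B.mult r : ℤ) * F r).sum := by
  apply Int.cast_injective (α := ℂ)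
  push_cast
  rw [List.map_map, B.sum_chars _ fun χ χ' h => by rw [hF χ χ' h]]
  congr 1
  exact List.map_congr_left fun r _ => by simp

theorem val_congr (hp : p ≠ 2) [IsSimpleGroup G] (hG : ¬ IsMulCommutative G) {t : G}
    (ht : orderOf t = 2) {χ χ' : IrrCharacter G} (h : Alike p χ χ') : val χ t = val χ' t :=
  val_of_eq (by rw [h.2 t (two_ne hp ht)]; exact (val_spec hG χ' ht).1)

theorem Block.ne_one (B : Block L) {χ : IrrCharacter G} (h : χ ∈ B.chars) :
    (χ : G → ℂ) ≠ fun _ => 1 := fun e =>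
  ((B.mem_chars χ).1 h).2 (Subtype.ext (e.trans B.one_eq.symm))

variable (L)

/-- An involution commuting with an element of order `p` is conjugate into the complement; the shape
of its centraliser. -/
theorem centralizer_of_dvd (hp : p ≠ 2) {t : G} (ht : orderOf t = 2) (hd : p ∣ Nat.card (Cg t)) :
    (∃ g : G, g * t * g⁻¹ ∈ L.K) ∧
    ∃ M, Nat.card (Cg t) % M = 0 ∧ (Nat.card (Cg t) / M) % p = 1 ∧ M ∣ Nat.card L.N ∧
      (if Nat.card L.K = 4 then 4 else 2) * p ∣ M := by
  classical
  have hpp : p.Prime := Fact.out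
  obtain ⟨y, hy⟩ := exists_prime_orderOf_dvd_card' (G := Cg t) p hd
  obtain ⟨Q, hQ'⟩ := (IsPGroup.of_card (n := 1)
    (by rw [Nat.card_zpowers, Subgroup.orderOf_coe, hy, pow_one]) :
      IsPGroup p (Subgroup.zpowers (y : G))).exists_le_sylow
  have hQ : (y : G) ∈ (Q : Subgroup G) := hQ' (Subgroup.mem_zpowers _)
  obtain ⟨c, hc⟩ := MulAction.exists_smul_eq G Q L.P
  set z := c * t * c⁻¹ with hz
  have hzo : orderOf z = 2 := by
    rw [hz, show c * t * c⁻¹ = MulAut.conj c t from rfl, MulEquiv.orderOf_eq, ht]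
  have hyP : c * (y : G) * c⁻¹ ∈ (L.P : Subgroup G) := by
    rw [← hc, Sylow.coe_subgroup_smul, Subgroup.mem_pointwise_smul_iff_inv_smul_mem]
    simpa [MulAut.smul_def, mul_assoc] using hQ
  have hy1 : c * (y : G) * c⁻¹ ≠ 1 := fun h => by
    rw [conj_eq_one_iff] at h
    rw [← Subgroup.orderOf_coe, h, orderOf_one] at hy
    exact hpp.ne_one hy.symm
  have hzc : z ∈ Subgroup.centralizer ((L.P : Subgroup G) : Set G) := by
    rw [← L.centralizer_singleton hyP hy1, Subgroup.mem_centralizer_singleton_iff, hz]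
    calc c * t * c⁻¹ * (c * (y : G) * c⁻¹) = c * (t * (y : G)) * c⁻¹ := by group
      _ = c * ((y : G) * t) * c⁻¹ := by rw [mem_Cg.1 y.2]
      _ = c * (y : G) * c⁻¹ * (c * t * c⁻¹) := by group
  have hzK : z ∈ L.K := L.mem_K z hzc (two_ne hp hzo)
  refine ⟨⟨c, hzK⟩, ?_⟩
  have hPC : (L.P : Subgroup G) ≤ Cg z := fun w hw =>
    mem_Cg.2 (Subgroup.mem_centralizer_iff.1 hzc w hw)
  let P' : Sylow p (Cg z) := L.P.subtype hPC
  have hCt : Nat.card (Cg z) = Nat.card (Cg t) := MElevenUnique.card_Cg_conj t c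
  set M := Nat.card ↥(L.N ⊓ Cg z) with hM
  have hNP : Nat.card (Subgroup.normalizer ((P' : Subgroup (Cg z)) : Set (Cg z))) = M := by
    rw [hM, Sylow.coe_subtype,
      show ((L.P : Subgroup G).subgroupOf (Cg z) : Set (Cg z)) = (((L.P : Subgroup G).subgroupOf (Cg z) : Subgroup (Cg z)) : Set (Cg z)) from rfl,
      ← Subgroup.subgroupOf_normalizer_eq hPC,
      ← Subgroup.inf_subgroupOf_right,
      Nat.card_congr (Subgroup.subgroupOfEquivOfLe inf_le_right).toEquiv]
  have hn : Nat.card (Sylow p (Cg z)) * M = Nat.card (Cg z) := by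
    rw [← hNP]; exact Small.card_sylow_mul_card_normalizer P'
  have hM0 : 0 < M := Nat.card_pos
  refine ⟨M, ?_, ?_, Subgroup.card_dvd_of_le inf_le_left, ?_⟩
  · rw [← hCt, ← hn, Nat.mul_mod_left]
  · rw [← hCt, ← hn, Nat.mul_div_cancel _ hM0]
    exact Small.card_sylow_mod p
  · have hK4 : ∀ H : Subgroup L.K, (∀ k ∈ H, Commute (k : G) z) → Nat.card H * p ∣ M := by
      intro H hH
      let f : ↥(L.P : Subgroup G) × H →* G := L.emb.comp ((MonoidHom.id _).prodMap H.subtype)
      have hf : Function.Injective f := L.emb_injective.comp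
        (Function.Injective.prodMap Function.injective_id Subtype.val_injective)
      have hle : f.range ≤ L.N ⊓ Cg z := by
        rintro _ ⟨⟨w, k⟩, rfl⟩
        show (w : G) * ((k : L.K) : G) ∈ _
        refine ⟨Subgroup.mul_mem _ (Subgroup.le_normalizer w.2)
          (Subgroup.centralizer_le_normalizer _ (L.le_centralizer (k : L.K).2)), ?_⟩
        exact Subgroup.mul_mem _ (hPC w.2) (mem_Cg.2 (hH k.1 k.2).eq)
      have := Subgroup.card_dvd_of_le hle
      rwa [← Nat.card_congr (MonoidHom.ofInjective hf).toEquiv, Nat.card_prod, L.card_P,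
        mul_comm] at this
    split_ifs with h4
    · have hcomm := IsPGroup.isMulCommutative_of_card_eq_prime_sq (p := 2) (G := L.K) (by rw [h4]; norm_num)
      have := hK4 ⊤ fun k _ => congrArg Subtype.val (hcomm.is_comm.comm k ⟨z, hzK⟩)
      rwa [Subgroup.card_top, h4] at this
    · have := hK4 (Subgroup.zpowers ⟨z, hzK⟩) fun k hk => by
        obtain ⟨j, rfl⟩ := hk
        exact ((Commute.refl z).zpow_left j)
      rwa [Nat.card_zpowers, ← Subgroup.orderOf_coe, hzo] at this

end CfsgLib.MTwentyTwoUnique
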