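import Cfsg.Agent.MTwentyTwoUnique.Frame

/-!
The frame: the four-group `{1, t, s, t s}` of the centraliser of `x`, an element `y` permuting its
involutions cyclically and an involution `u` inverting `x` and fixing `t`.
-/

set_option autoImplicit false
set_option linter.style.haveILetI false
set_option linter.unusedSectionVars false

open scoped Pointwise
open MulAction

namespace CfsgLib.MTwentyTwoUnique

open Cfsg CfsgLib.DefectOne CfsgLib.BrauerOrderP
open CfsgLib.MElevenUnique (Cg mem_Cg)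

universe u

variable {G : Type u} [Group G]

/-- The four-group and the elements acting on it. -/
structure Frame (G : Type u) [Group G] where
  x : G
  t : G
  s : G
  y : G
  u : G
  hx : orderOf x = 3
  ht : orderOf t = 2
  hs : orderOf s = 2
  hu : orderOf u = 2
  cxt : Commute x t
  cxs : Commute x s
  cts : Commute t s
  hst : s ≠ t
  inv_cases : ∀ b : G, orderOf b = 2 → Commute x b → b = t ∨ b = s ∨ b = t * s
  cyx : Commute y x
  hy : ∃ k : ℕ, y ^ 3 = x ^ k
  y_t : y * t * y⁻¹ = s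
  y_s : y * s * y⁻¹ = t * s
  cut : Commute u t
  u_x : u * x * u⁻¹ = x⁻¹
  u_s : u * s * u⁻¹ = t * s
  u_y : ∃ k : ℕ, u * y * u⁻¹ = y⁻¹ * x ^ k
  c12 : ∀ c : G, Commute c x → Commute c t → Commute c s

/-- The subgroup `{1, a, b, a b}` for commuting involutions. -/
def fourGroup {a b : G} (ha : orderOf a = 2) (hb : orderOf b = 2) (h : Commute a b) : Subgroup G where
  carrier := {1, a, b, a * b}
  one_mem' := Or.inl rfl
  mul_mem' := by
    have h1 := mul_self_of_orderOf_two ha
    have h2 := mul_self_of_orderOf_two hb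
    have e1 : ∀ z : G, a * (a * z) = z := fun z => by rw [← mul_assoc, h1, one_mul]
    have e2 : ∀ z : G, b * (b * z) = z := fun z => by rw [← mul_assoc, h2, one_mul]
    have e3 : ∀ z : G, b * (a * z) = a * (b * z) := fun z => by rw [← mul_assoc, ← h.eq, mul_assoc]
    rintro p q (rfl | rfl | rfl | rfl) (rfl | rfl | rfl | rfl) <;>
      simp [mul_assoc, h1, h2, e1, e2, e3, h.eq.symm]
  inv_mem' := by
    have h1 := inv_eq_of_orderOf_two ha
    have h2 := inv_eq_of_orderOf_two hb
    rintro p (rfl | rfl | rfl | rfl) <;> simp [h1, h2, h.eq]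

theorem mem_fourGroup {a b : G} {ha : orderOf a = 2} {hb : orderOf b = 2} {h : Commute a b} {g : G} :
    g ∈ fourGroup ha hb h ↔ g = 1 ∨ g = a ∨ g = b ∨ g = a * b := Iff.rfl

theorem card_fourGroup {a b : G} (ha : orderOf a = 2) (hb : orderOf b = 2) (h : Commute a b)
    (hne : a ≠ b) : Nat.card (fourGroup ha hb h) = 4 := by
  classical
  have h1 := ne_one_of_orderOf_two ha
  have h2 := ne_one_of_orderOf_two hb
  have h3 : a * b ≠ 1 := ne_one_of_orderOf_two (orderOf_mul_two ha hb h hne)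
  show Nat.card ({1, a, b, a * b} : Set G) = 4
  rw [Nat.card_coe_set_eq, Set.ncard_insert_of_notMem, Set.ncard_insert_of_notMem,
    Set.ncard_pair]
  · exact fun e => h1 (right_eq_mul.1 e)
  · simp only [Set.mem_insert_iff, Set.mem_singleton_iff]
    rintro (e | e)
    · exact hne e
    · exact h2 (left_eq_mul.1 e)
  · simp only [Set.mem_insert_iff, Set.mem_singleton_iff]
    rintro (e | e | e)
    · exact h1 e.symm
    · exact h2 e.symm
    · exact h3 e.symm

variable [Fintype G] [IsSimpleGroup G] [Fact (Nat.Prime 11)] [Fact (Nat.Prime 7)] [Fact (Nat.Prime 5)]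
  (hGN : Nat.card G = 443520) (D : Data G)
include hGN D

set_option maxHeartbeats 800000 in
/-- **The frame exists.** -/
theorem Data.exists_frame : Nonempty (Frame G) := by
  classical
  haveI := Fact.mk Nat.prime_three
  haveI := Fact.mk Nat.prime_two
  obtain ⟨t, ht, -⟩ := exists_central_involution hGN
  obtain ⟨x, hx, cxt⟩ := D.exists_three hGN ht
  have hx1 : x ≠ 1 := fun e => by rw [e, orderOf_one] at hx; omega
  have hCx : Nat.card (Cg x) = 36 := (D.card_Cg_three hGN hx ht cxt x hx).2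
  obtain ⟨h12, g₀, cg₀t, hg₀x⟩ := D.common_centraliser hGN hx ht cxt
  have h3 := (D.counts hGN hx ht cxt).1
  -- the Sylow subgroup
  obtain ⟨Q, hxQ⟩ := MElevenUnique.exists_sylow_of_orderOf hx
  have hQ9 : Nat.card (Q : Subgroup G) = 9 := by
    rw [Sylow.card_eq_multiplicity, hGN, show 443520 = 3 ^ 2 * 49280 by norm_num,
      Nat.factorization_mul (by norm_num) (by norm_num), Finsupp.add_apply,
      Nat.Prime.factorization_pow Nat.prime_three, Finsupp.single_eq_same,
      Nat.factorization_eq_zero_of_not_dvd (by norm_num : ¬ 3 ∣ 49280)]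
    norm_num
  haveI hQc : IsMulCommutative Q :=
    IsPGroup.isMulCommutative_of_card_eq_prime_sq (p := 3) (G := (Q : Subgroup G)) (by rw [hQ9]; norm_num)
  have hQx : ∀ z ∈ (Q : Subgroup G), Commute z x := fun z hz =>
    congrArg Subtype.val (hQc.is_comm.comm (⟨z, hz⟩ : (Q : Subgroup G)) ⟨x, hxQ⟩)
  have hI : ∀ z : G, Commute z x → ∀ b, orderOf b = 2 → Commute x b →
      orderOf (z * b * z⁻¹) = 2 ∧ Commute x (z * b * z⁻¹) := by
    intro z hz b hb hxb
    refine ⟨by rw [ord_conj, hb], ?_⟩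
    have := commute_conj z hxb
    rwa [conj_eq_iff_commute.2 hz] at this
  -- `y`
  obtain ⟨y, hyQ, hyt⟩ : ∃ y ∈ (Q : Subgroup G), ¬ Commute y t := by
    by_contra hall
    push Not at hall
    have h9 : (Q : Subgroup G) ≤ Cg t := fun z hz => mem_Cg.2 (hall z hz).eq
    have := Subgroup.card_dvd_of_le h9
    rw [hQ9, D.card_Cg hGN ht] at this
    norm_num at this
  have cyx := hQx y hyQ
  set s := y * t * y⁻¹ with hsdef
  obtain ⟨hs, cxs⟩ := hI y cyx t ht cxt
  rw [← hsdef] at hs cxs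
  have hst : s ≠ t := fun e => hyt (conj_eq_iff_commute.1 e)
  set s' := y * s * y⁻¹ with hs'def
  obtain ⟨hs', cxs'⟩ := hI y cyx s hs cxs
  rw [← hs'def] at hs' cxs'
  have hs's : s' ≠ s := fun e => hst (conj_injective y e)
  have hy9 : y ^ 9 = 1 := by
    have := pow_card_eq_one' (G := (Q : Subgroup G)) (x := ⟨y, hyQ⟩)
    rw [hQ9] at this
    exact congrArg Subtype.val this
  have hs't : s' ≠ t := by
    intro e
    refine hyt ?_
    have h2 : Commute (y ^ 2) t := conj_eq_iff_commute.1 (by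
      rw [pow_two]
      calc y * y * t * (y * y)⁻¹ = y * (y * t * y⁻¹) * y⁻¹ := by group
        _ = t := e)
    have h10 : (y ^ 2) ^ 5 = y := by rw [← pow_mul]; show y ^ 10 = y; rw [pow_succ, hy9, one_mul]
    exact h10 ▸ h2.pow_left 5
  have hthree : ∀ b : G, orderOf b = 2 → Commute x b → b = t ∨ b = s ∨ b = s' := by
    intro b hb hxb
    by_contra hne
    push Not at hne
    obtain ⟨h1, h2, h3'⟩ := hne
    have hle := Finset.card_le_univ ({⟨t, ht, cxt⟩, ⟨s, hs, cxs⟩, ⟨s', hs', cxs'⟩, ⟨b, hb, hxb⟩} :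
      Finset (InvIn x))
    rw [Finset.card_insert_of_notMem (by
        simp only [Finset.mem_insert, Finset.mem_singleton, Subtype.mk.injEq]
        push Not; exact ⟨Ne.symm hst, Ne.symm hs't, Ne.symm h1⟩),
      Finset.card_insert_of_notMem (by
        simp only [Finset.mem_insert, Finset.mem_singleton, Subtype.mk.injEq]
        push Not; exact ⟨Ne.symm hs's, Ne.symm h2⟩),
      Finset.card_insert_of_notMem (by
        simp only [Finset.mem_singleton, Subtype.mk.injEq]; exact Ne.symm h3'),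
      Finset.card_singleton, ← Nat.card_eq_fintype_card, h3] at hle
    omega
  -- the involutions commute
  set H : Subgroup G := Cg x ⊓ Cg t with hHdef
  obtain ⟨S⟩ : Nonempty (Sylow 2 H) := inferInstance
  have hS4 : Nat.card (S : Subgroup H) = 4 := by
    rw [Sylow.card_eq_multiplicity, h12, show 12 = 2 ^ 2 * 3 by norm_num,
      Nat.factorization_mul (by norm_num) (by norm_num), Finsupp.add_apply,
      Nat.Prime.factorization_pow Nat.prime_two, Finsupp.single_eq_same,
      Nat.factorization_eq_zero_of_not_dvd (by norm_num : ¬ 2 ∣ 3)]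
    norm_num
  obtain ⟨b, hb, cxb, ctb, hbt⟩ : ∃ b : G, orderOf b = 2 ∧ Commute x b ∧ Commute t b ∧ b ≠ t := by
    by_cases hex : ∃ r : (S : Subgroup H), r ^ 2 ≠ 1 ∧ ((r ^ 2 : (S : Subgroup H)) : H).1 = t
    · obtain ⟨r, -, hr⟩ := hex
      set r' : G := ((r : H) : G)
      have hr2 : r' ^ 2 = t := hr
      have crx : Commute r' x := mem_Cg.1 (r : H).2.1
      have crt : Commute r' t := mem_Cg.1 (r : H).2.2
      obtain ⟨hb1, hb2⟩ := hI r' crx s hs cxs
      refine ⟨s, hs, cxs, ?_, hst⟩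
      refine conj_eq_iff_commute.1 ?_
      rw [← hr2, pow_two, show r' * r' * s * (r' * r')⁻¹ = r' * (r' * s * r'⁻¹) * r'⁻¹ by group]
      rcases hthree _ hb1 hb2 with e | e | e
      · exact absurd (conj_injective r' (e.trans (conj_eq_iff_commute.2 crt).symm)) hst
      · rw [e, e]
      · rw [e]
        obtain ⟨hc1, hc2⟩ := hI r' crx s' hs' cxs'
        rcases hthree _ hc1 hc2 with e' | e' | e'
        · exact absurd (conj_injective r' (e'.trans (conj_eq_iff_commute.2 crt).symm)) hs't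
        · exact e'
        · exact absurd (conj_injective r' (e.trans e'.symm)) hs's.symm
    · push Not at hex
      have htH : t ∈ H := ⟨mem_Cg.2 cxt.eq.symm, mem_Cg.2 rfl⟩
      set tH : H := ⟨t, htH⟩
      have htS : tH ∈ (S : Subgroup H) := by
        have htc : ∀ h : H, h * tH = tH * h := fun h => Subtype.ext (mem_Cg.1 h.2.2)
        haveI hn : (Subgroup.zpowers tH).Normal := ⟨fun n hn h => by
          obtain ⟨k, rfl⟩ := hn
          refine ⟨k, ?_⟩
          rw [((Commute.symm (htc h)).zpow_left k).symm.eq, mul_inv_cancel_right]⟩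
        have hp : IsPGroup 2 (Subgroup.zpowers tH) := IsPGroup.of_card (n := 1) (by
          rw [Nat.card_zpowers, ← Subgroup.orderOf_coe]; exact ht)
        exact hp.le_sylow_of_normal S (Subgroup.mem_zpowers tH)
      have hinv : ∀ r : (S : Subgroup H), r ^ 2 = 1 := by
        intro r
        by_contra h2
        have hr4 : orderOf r = 4 := by
          refine orderOf_eq_prime_pow (p := 2) (n := 1) h2 ?_
          have := pow_card_eq_one' (G := (S : Subgroup H)) (x := r)
          rwa [hS4] at this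
        have hgen : (⟨tH, htS⟩ : (S : Subgroup H)) ∈ Subgroup.zpowers r := by
          rw [Subgroup.eq_top_of_card_eq (Subgroup.zpowers r) (by rw [Nat.card_zpowers, hr4, hS4])]
          trivial
        rw [← mem_powers_iff_mem_zpowers, Submonoid.mem_powers_iff] at hgen
        obtain ⟨k, hk⟩ := hgen
        refine hex r h2 ?_
        have hk2 : r ^ (2 * k) = 1 := by
          rw [mul_comm, pow_mul, hk]
          refine Subtype.ext (Subtype.ext ?_)
          show t ^ 2 = 1
          rw [← ht, pow_orderOf_eq_one]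
        have hdiv := orderOf_dvd_of_pow_eq_one hk2
        rw [hr4] at hdiv
        have hk4 : k % 4 ≠ 0 := fun h0 => by
          rw [← pow_mod_orderOf, hr4, h0, pow_zero] at hk
          exact ne_one_of_orderOf_two ht (congrArg (fun z : (S : Subgroup H) => ((z : H) : G)) hk.symm)
        rw [← pow_mod_orderOf, hr4, show k % 4 = 2 by omega] at hk
        exact congrArg (fun z : (S : Subgroup H) => ((z : H) : G)) hk
      obtain ⟨r, hr, hr'⟩ : ∃ r : (S : Subgroup H), r ≠ 1 ∧ r ≠ ⟨tH, htS⟩ := by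
        by_contra hne
        push Not at hne
        have h4 : Nat.card (S : Subgroup H) ≤ 2 := by
          rw [Nat.card_eq_fintype_card]
          refine (Finset.card_le_card (t := ({1, ⟨tH, htS⟩} : Finset (S : Subgroup H))) fun r _ => ?_).trans
            Finset.card_le_two
          by_cases h : r = 1
          · simp [h]
          · simp [hne r h]
        omega
      refine ⟨((r : H) : G), orderOf_eq_prime (congrArg (fun z : (S : Subgroup H) => ((z : H) : G)) (hinv r))
        (fun e => hr (Subtype.ext (Subtype.ext e))), (mem_Cg.1 (r : H).2.1).symm,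
        (mem_Cg.1 (r : H).2.2).symm, fun e => hr' (Subtype.ext (Subtype.ext e))⟩
  have cts : Commute t s := by
    rcases hthree b hb cxb with e | e | e
    · exact absurd e hbt
    · exact e ▸ ctb
    · subst e
      -- conjugation by `y` twice
      have h := commute_conj (y⁻¹) ctb
      have e1 : y⁻¹ * s' * y⁻¹⁻¹ = s := by rw [hs'def]; group
      rw [e1] at h
      obtain ⟨hc1, hc2⟩ := hI y⁻¹ cyx.inv_left t ht cxt
      rcases hthree _ hc1 hc2 with e | e | e
      · exact absurd (conj_eq_iff_commute.1 e).inv_left (by simpa using hyt)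
      · rw [e] at h
        exfalso
        have h2 : y * (y⁻¹ * t * y⁻¹⁻¹) * y⁻¹ = y * s * y⁻¹ := by rw [e]
        exact hs't (by rw [hs'def, ← h2]; group)
      · rw [e] at h
        have h' := commute_conj y⁻¹ h
        rw [e1, show y⁻¹ * s * y⁻¹⁻¹ = t by rw [hsdef]; group] at h'
        exact h'.symm
  have hts : orderOf (t * s) = 2 := orderOf_mul_two ht hs cts (Ne.symm hst)
  have hs'ts : s' = t * s := by
    rcases hthree _ hts (cxt.mul_right cxs) with e | e | e
    · exact absurd (mul_eq_left.1 e) (ne_one_of_orderOf_two hs)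
    · exact absurd (mul_eq_right.1 e) (ne_one_of_orderOf_two ht)
    · exact e.symm
  have hinv : ∀ b : G, orderOf b = 2 → Commute x b → b = t ∨ b = s ∨ b = t * s := by
    intro b hb hxb; rw [← hs'ts]; exact hthree b hb hxb
  -- elements of the common centraliser
  have c12 : ∀ c : G, Commute c x → Commute c t → Commute c s := by
    have hle : Cg x ⊓ Cg t ⊓ Cg s = Cg x ⊓ Cg t := by
      refine Subgroup.eq_of_le_of_card_ge inf_le_left ?_
      set H' : Subgroup G := Cg x ⊓ Cg t ⊓ Cg s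
      have hm : ∀ z : G, Commute z x → Commute z t → Commute z s → z ∈ H' := fun z a b c =>
        ⟨⟨mem_Cg.2 a.eq, mem_Cg.2 b.eq⟩, mem_Cg.2 c.eq⟩
      have h3' : 3 ∣ Nat.card H' := hx ▸ Subgroup.orderOf_dvd_natCard _ (hm x (Commute.refl x) cxt cxs)
      have h4 : 4 ∣ Nat.card H' := by
        rw [← card_fourGroup ht hs cts (Ne.symm hst)]
        refine Subgroup.card_dvd_of_le fun z hz => ?_
        rcases hz with rfl | rfl | rfl | rfl
        · exact one_mem _
        · exact hm _ cxt.symm (Commute.refl _) cts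
        · exact hm _ cxs.symm cts.symm (Commute.refl _)
        · exact hm _ (cxt.mul_right cxs).symm ((Commute.refl t).mul_left cts.symm)
            (cts.mul_left (Commute.refl s))
      rw [h12]
      exact Nat.le_of_dvd Nat.card_pos (Nat.Coprime.mul_dvd_of_dvd_of_dvd (by norm_num : Nat.Coprime 3 4) h3' h4)
    intro c hcx hct
    have : c ∈ Cg x ⊓ Cg t := ⟨mem_Cg.2 hcx.eq, mem_Cg.2 hct.eq⟩
    rw [← hle] at this
    exact mem_Cg.1 this.2
  -- `y³` is a power of `x`
  have hpow_of : ∀ z ∈ (Q : Subgroup G), Commute z t → ∃ k : ℕ, z = x ^ k := by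
    intro z hz hzt
    have hle : Subgroup.zpowers x ≤ (Q : Subgroup G) ⊓ Cg t :=
      Subgroup.zpowers_le.2 ⟨hxQ, mem_Cg.2 cxt.eq⟩
    have heq : Subgroup.zpowers x = (Q : Subgroup G) ⊓ Cg t := by
      refine Subgroup.eq_of_le_of_card_ge hle ?_
      rw [Nat.card_zpowers, hx]
      refine Nat.le_of_dvd (by norm_num) ?_
      have h1 := Subgroup.card_dvd_of_le (inf_le_left : (Q : Subgroup G) ⊓ Cg t ≤ Q)
      have h2 := Subgroup.card_dvd_of_le (inf_le_right : (Q : Subgroup G) ⊓ Cg t ≤ Cg t)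
      rw [hQ9] at h1
      rw [D.card_Cg hGN ht] at h2
      have := Nat.dvd_gcd h1 h2
      rw [show Nat.gcd 9 384 = 3 by decide] at this
      exact this
    have hz' : z ∈ Subgroup.zpowers x := heq.ge ⟨hz, mem_Cg.2 hzt.eq⟩
    rw [← mem_powers_iff_mem_zpowers, Submonoid.mem_powers_iff] at hz'
    obtain ⟨k, hk⟩ := hz'
    exact ⟨k, hk.symm⟩
  have cy3t : Commute (y ^ 3) t := conj_eq_iff_commute.1 (by
    rw [show y ^ 3 * t * (y ^ 3)⁻¹ = y * (y * (y * t * y⁻¹) * y⁻¹) * y⁻¹ by simp only [pow_succ, pow_zero, one_mul, mul_inv_rev, mul_assoc], ← hsdef, ← hs'def]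
    obtain ⟨hc1, hc2⟩ := hI y cyx s' hs' cxs'
    rcases hthree _ hc1 hc2 with e | e | e
    · exact e
    · exact absurd (conj_injective y (e.trans hsdef)) hs't
    · exact absurd (conj_injective y (e.trans hs'def)) hs's)
  obtain ⟨k₃, hk₃⟩ := hpow_of _ (Subgroup.pow_mem _ hyQ 3) cy3t
  -- elements fixing `t` and normalising `Q`
  have hnofix : ∀ b : G, orderOf b = 2 → Commute x b → ¬ Commute y b := by
    intro b hb hxb hyb
    have h := conj_eq_iff_commute.2 hyb
    rcases hthree b hb hxb with rfl | rfl | rfl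
    · exact hst (by rw [hsdef]; exact h)
    · exact hs's (by rw [hs'def]; exact h)
    · exact hs's (conj_injective y (h.trans hs'def))
  have hfixI : ∀ c : G, Commute c x → Commute c t → c * y * c⁻¹ ∈ (Q : Subgroup G) →
      ∃ i : ℕ, c * y * c⁻¹ = y * x ^ i := by
    intro c hcx hct hcQ
    have hyy : Commute (y⁻¹ * (c * y * c⁻¹)) t := conj_eq_iff_commute.1 (by
      have e1 : c⁻¹ * t * c = t := by rw [mul_assoc, ← hct.eq, inv_mul_cancel_left]
      calc y⁻¹ * (c * y * c⁻¹) * t * (y⁻¹ * (c * y * c⁻¹))⁻¹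
          = y⁻¹ * (c * (y * (c⁻¹ * t * c) * y⁻¹) * c⁻¹) * y := by group
        _ = t := by rw [e1, ← hsdef, conj_eq_iff_commute.2 (c12 c hcx hct), hsdef]; group)
    obtain ⟨i, hi⟩ := hpow_of _ (mul_mem (inv_mem hyQ) hcQ) hyy
    exact ⟨i, by rw [← hi, mul_inv_cancel_left]⟩
  -- `u`
  have hQle : (Q : Subgroup G) ≤ Cg x := fun z hz => mem_Cg.2 (hQx z hz).eq
  obtain ⟨u₁, cu₁t, hu₁x, hu₁Q⟩ : ∃ u₁ : G, Commute u₁ t ∧ u₁ * x * u₁⁻¹ = x⁻¹ ∧ u₁ • Q = Q := by
    have hle' : ((g₀ • Q : Sylow 3 G) : Subgroup G) ≤ Cg x := by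
      intro z hz
      rw [Sylow.coe_subgroup_smul, Subgroup.mem_pointwise_smul_iff_inv_smul_mem] at hz
      have h1 : Commute (g₀⁻¹ * z * g₀) x := hQx _ (by simpa [MulAut.smul_def, mul_assoc] using hz)
      have h2 := commute_conj g₀ h1
      rw [show g₀ * (g₀⁻¹ * z * g₀) * g₀⁻¹ = z by group, hg₀x] at h2
      exact mem_Cg.2 (by simpa using h2.inv_right.eq)
    obtain ⟨c, hc⟩ := exists_smul_eq (Cg x) ((g₀ • Q).subtype hle') (Q.subtype hQle)
    simp_rw [Sylow.smul_subtype, Subgroup.smul_def, smul_smul] at hc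
    have hcQ := Sylow.subtype_injective hc
    have ccx : Commute (c : G) x := mem_Cg.1 c.2
    obtain ⟨hc1, hc2⟩ := hI c ccx t ht cxt
    obtain ⟨q, hq, hqc⟩ : ∃ q ∈ (Q : Subgroup G), Commute (q * (c : G)) t := by
      rcases hthree _ hc1 hc2 with e | e | e
      · exact ⟨1, one_mem _, by rw [one_mul]; exact conj_eq_iff_commute.1 e⟩
      · refine ⟨y⁻¹, inv_mem hyQ, conj_eq_iff_commute.1 ?_⟩
        rw [show y⁻¹ * ↑c * t * (y⁻¹ * ↑c)⁻¹ = y⁻¹ * (↑c * t * (↑c)⁻¹) * y by group, e, hsdef]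
        group
      · refine ⟨y⁻¹ * y⁻¹, mul_mem (inv_mem hyQ) (inv_mem hyQ), conj_eq_iff_commute.1 ?_⟩
        rw [show y⁻¹ * y⁻¹ * ↑c * t * (y⁻¹ * y⁻¹ * ↑c)⁻¹ = y⁻¹ * y⁻¹ * (↑c * t * (↑c)⁻¹) * (y * y) by
          simp only [mul_inv_rev, inv_inv, mul_assoc], e, hs'def, hsdef]
        group
    have cqx := hQx q hq
    refine ⟨q * c * g₀, hqc.mul_left cg₀t, ?_, ?_⟩
    · rw [show q * ↑c * g₀ * x * (q * ↑c * g₀)⁻¹ = q * ↑c * (g₀ * x * g₀⁻¹) * (q * ↑c)⁻¹ by group, hg₀x]
      exact conj_eq_iff_commute.2 (cqx.mul_left ccx).inv_right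
    · rw [mul_assoc q, mul_smul, hcQ]
      exact Sylow.smul_eq_iff_mem_normalizer.2 (Subgroup.le_normalizer hq)
  -- `c12` makes squares lie in the four-group
  set u := u₁ ^ 3 with hudef
  have hux : u * x * u⁻¹ = x⁻¹ := by
    rw [hudef, show u₁ ^ 3 * x * (u₁ ^ 3)⁻¹ = u₁ * (u₁ * (u₁ * x * u₁⁻¹) * u₁⁻¹) * u₁⁻¹ by simp only [pow_succ, pow_zero, one_mul, mul_inv_rev, mul_assoc], hu₁x,
      show u₁ * x⁻¹ * u₁⁻¹ = (u₁ * x * u₁⁻¹)⁻¹ by group, hu₁x, inv_inv, hu₁x]
  have cut : Commute u t := cu₁t.pow_left 3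
  have huQ : ∀ z ∈ (Q : Subgroup G), u * z * u⁻¹ ∈ (Q : Subgroup G) := by
    have h3Q : u • Q = Q := by
      rw [hudef, pow_succ, pow_two, mul_smul, mul_smul, hu₁Q, hu₁Q, hu₁Q]
    intro z hz
    have h : u * z * u⁻¹ ∈ ((u • Q : Sylow 3 G) : Subgroup G) := by
      rw [Sylow.coe_subgroup_smul, Subgroup.mem_pointwise_smul_iff_inv_smul_mem]
      simpa [MulAut.smul_def, mul_assoc] using hz
    rwa [h3Q] at h
  have hu2 : u ^ 2 = 1 := by
    have cu2x : Commute (u₁ ^ 2) x := conj_eq_iff_commute.1 (by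
      rw [show u₁ ^ 2 * x * (u₁ ^ 2)⁻¹ = u₁ * (u₁ * x * u₁⁻¹) * u₁⁻¹ by simp only [pow_succ, pow_zero, one_mul, mul_inv_rev, mul_assoc], hu₁x,
        show u₁ * x⁻¹ * u₁⁻¹ = (u₁ * x * u₁⁻¹)⁻¹ by group, hu₁x, inv_inv])
    set e := u ^ 2 with hedef
    set c := u₁ ^ 2 with hcdef
    have he : e = c ^ 3 := by rw [hedef, hudef, hcdef, ← pow_mul, ← pow_mul]
    have cct : Commute c t := cu₁t.pow_left 2
    have hcQ : c • Q = Q := by rw [hcdef, pow_two, mul_smul, hu₁Q, hu₁Q]
    obtain ⟨i, hi⟩ := hfixI c cu2x cct (by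
      have h : c * y * c⁻¹ ∈ ((c • Q : Sylow 3 G) : Subgroup G) := by
        rw [Sylow.coe_subgroup_smul, Subgroup.mem_pointwise_smul_iff_inv_smul_mem]
        simpa [MulAut.smul_def, mul_assoc] using hyQ
      rwa [hcQ] at h)
    have hxi : c * x ^ i * c⁻¹ = x ^ i := conj_eq_iff_commute.2 (cu2x.pow_right i)
    have cey : Commute e y := conj_eq_iff_commute.1 (by
      rw [he]
      have h2 : c * (y * x ^ i) * c⁻¹ = y * x ^ i * x ^ i := by
        rw [show c * (y * x ^ i) * c⁻¹ = c * y * c⁻¹ * (c * x ^ i * c⁻¹) by group, hi, hxi]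
      have h4 : c * (y * x ^ i * x ^ i) * c⁻¹ = y * x ^ i * x ^ i * x ^ i := by
        rw [show c * (y * x ^ i * x ^ i) * c⁻¹ = c * (y * x ^ i) * c⁻¹ * (c * x ^ i * c⁻¹) by group, h2, hxi]
      rw [show c ^ 3 * y * (c ^ 3)⁻¹ = c * (c * (c * y * c⁻¹) * c⁻¹) * c⁻¹ by simp only [pow_succ, pow_zero, one_mul, mul_inv_rev, mul_assoc], hi, h2, h4,
        mul_assoc, mul_assoc, ← pow_add, ← pow_add, show i + (i + i) = 3 * i by ring, pow_mul, ← hx,
        pow_orderOf_eq_one, one_pow, mul_one])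
    -- the common centraliser of `x`, `y`, `t`
    set K : Subgroup G := Cg x ⊓ Cg t ⊓ Cg y
    have hK : Subgroup.zpowers x = K := by
      refine Subgroup.eq_of_le_of_card_ge (Subgroup.zpowers_le.2
        ⟨⟨mem_Cg.2 rfl, mem_Cg.2 cxt.eq⟩, mem_Cg.2 cyx.eq.symm⟩) ?_
      rw [Nat.card_zpowers, hx]
      have hd := Subgroup.card_dvd_of_le (inf_le_left : K ≤ Cg x ⊓ Cg t)
      rw [h12] at hd
      have h2 : ¬ 2 ∣ Nat.card K := fun h2 => by
        obtain ⟨b, hb⟩ := exists_prime_orderOf_dvd_card' (G := K) 2 h2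
        exact hnofix b (by rw [Subgroup.orderOf_coe]; exact hb) (mem_Cg.1 b.2.1.1).symm
          (mem_Cg.1 b.2.2).symm
      have hle := Nat.le_of_dvd (by norm_num) hd
      by_contra hh
      interval_cases hc : Nat.card K <;> omega
    have heK : e ∈ Subgroup.zpowers x := hK.ge ⟨⟨mem_Cg.2 (he ▸ cu2x.pow_left 3).eq,
      mem_Cg.2 (cut.pow_left 2).eq⟩, mem_Cg.2 cey.eq⟩
    obtain ⟨n, hn⟩ := heK
    have h1 : u * e * u⁻¹ = e := conj_eq_iff_commute.2 ((Commute.refl u).pow_right 2)
    rw [← show x ^ n = e from hn, ← conj_zpow, hux, inv_zpow] at h1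
    have h2 : e * e = 1 := by rw [← show x ^ n = e from hn]; nth_rw 1 [← h1]; exact inv_mul_cancel _
    have h3' : e * e * e = 1 := by
      rw [← show x ^ n = e from hn, ← zpow_add, ← zpow_add, show n + n + n = 3 * n by ring, zpow_mul,
        show x ^ (3 : ℤ) = x ^ 3 from zpow_natCast x 3, ← hx, pow_orderOf_eq_one, one_zpow]
    rwa [h2, one_mul] at h3'
  have hu1 : u ≠ 1 := by
    intro e
    rw [e, one_mul, inv_one, mul_one] at hux
    have h2 : x ^ 2 = 1 := by rw [pow_two]; nth_rw 1 [hux]; exact inv_mul_cancel x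
    have := orderOf_dvd_of_pow_eq_one h2
    rw [hx] at this
    norm_num at this
  have hu : orderOf u = 2 := orderOf_eq_prime hu2 hu1
  have huu := mul_self_of_orderOf_two hu
  have huxs : orderOf (u * s * u⁻¹) = 2 ∧ Commute x (u * s * u⁻¹) := by
    refine ⟨by rw [ord_conj, hs], ?_⟩
    have := commute_conj u cxs
    rw [hux] at this
    simpa using this.inv_left
  set y' := u * y * u⁻¹ with hy'def
  have hy'Q : y' ∈ (Q : Subgroup G) := huQ y hyQ
  have hy't : y' * t * y'⁻¹ = u * s * u⁻¹ := by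
    rw [hy'def, hsdef]
    have h : u⁻¹ * t * u = t := by rw [mul_assoc, ← cut.eq, inv_mul_cancel_left]
    calc u * y * u⁻¹ * t * (u * y * u⁻¹)⁻¹ = u * y * (u⁻¹ * t * u) * y⁻¹ * u⁻¹ := by group
      _ = _ := by rw [h]; group
  have hus : u * s * u⁻¹ = t * s := by
    rcases hinv _ huxs.1 huxs.2 with e | e | e
    · exact absurd (conj_injective u (e.trans (conj_eq_iff_commute.2 cut).symm)) hst
    swap
    · exact e
    exfalso
    have hyy : Commute (y⁻¹ * y') t := conj_eq_iff_commute.1 (by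
      rw [show y⁻¹ * y' * t * (y⁻¹ * y')⁻¹ = y⁻¹ * (y' * t * y'⁻¹) * y by group, hy't, e, hsdef]
      group)
    obtain ⟨k, hk⟩ := hpow_of _ (mul_mem (inv_mem hyQ) hy'Q) hyy
    have hy' : y' = y * x ^ k := by rw [← hk, mul_inv_cancel_left]
    by_cases hk3 : x ^ k₃ = 1
    · -- `y` has order three
      have hzx : ∀ n : ℕ, u * x ^ n * u⁻¹ = (x ^ n)⁻¹ := fun n => by
        rw [← conj_pow, hux, inv_pow]
      set z := y * (x ^ k * x ^ k)
      have hzQ : z ∈ (Q : Subgroup G) := mul_mem hyQ (mul_mem (pow_mem hxQ _) (pow_mem hxQ _))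
      have huz : u * z * u⁻¹ = z := by
        have h1 : u * z * u⁻¹ = y' * ((u * x ^ k * u⁻¹) * (u * x ^ k * u⁻¹)) := by
          rw [hy'def]; simp only [z]; group
        rw [h1, hzx, hy']
        have h33 : x ^ k * x ^ k * x ^ k = 1 := by
          rw [← pow_add, ← pow_add, show k + k + k = 3 * k by ring, pow_mul, ← hx, pow_orderOf_eq_one,
            one_pow]
        calc y * x ^ k * ((x ^ k)⁻¹ * (x ^ k)⁻¹) = y * (x ^ k)⁻¹ := by group
          _ = y * (x ^ k * x ^ k) := by rw [inv_eq_of_mul_eq_one_left h33]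
      have hzt : ¬ Commute z t := by
        intro h
        refine hyt ?_
        have : y = z * (x ^ k * x ^ k)⁻¹ := (mul_inv_cancel_right y _).symm
        rw [this]
        exact h.mul_left ((cxt.pow_left k).mul_left (cxt.pow_left k)).inv_left
      have hz3 : orderOf z = 3 := by
        refine orderOf_eq_prime ?_ fun h => hzt (h ▸ Commute.one_left t)
        rw [(((cyx.pow_right k).mul_right (cyx.pow_right k))).mul_pow, hk₃, hk3, one_mul, ← pow_add,
          ← pow_mul, mul_comm, pow_mul, ← hx, pow_orderOf_eq_one, one_pow]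
      obtain ⟨g, hg⟩ := isConj_iff.1 (D.card_Cg_three hGN hx ht cxt z hz3).1
      obtain ⟨n, hn, hnz⟩ := Q.conj_eq_normalizer_conj_of_mem x g⁻¹ hxQ (by rw [inv_inv, hg]; exact hzQ)
      rw [inv_inv, hg] at hnz
      set w := n * u * n⁻¹ with hwdef
      have hw2 : orderOf w = 2 := by rw [hwdef, ord_conj, hu]
      have cwx : Commute x w := by
        have h := commute_conj n (conj_eq_iff_commute.1 huz)
        rw [← hwdef, hnz, show n * (n⁻¹ * x * n) * n⁻¹ = x by group] at h
        exact h.symm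
      have hwQ : ∀ q ∈ (Q : Subgroup G), w * q * w⁻¹ ∈ (Q : Subgroup G) := fun q hq => by
        have h1 := (Subgroup.mem_normalizer_iff.1 (inv_mem hn) q).1 hq
        have h2 := (Subgroup.mem_normalizer_iff.1 hn _).1 (huQ _ h1)
        convert h2 using 1
        rw [hwdef]; group
      have cwt : Commute w t := by
        rcases hinv w hw2 cwx with r | r | r <;> rw [r]
        · exact cts.symm
        · exact (Commute.refl t).mul_left cts.symm
      obtain ⟨i, hi⟩ := hfixI w cwx.symm cwt (hwQ y hyQ)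
      refine hnofix w hw2 cwx (conj_eq_iff_commute.1 ?_).symm
      have hwi : w * x ^ i * w⁻¹ = x ^ i := conj_eq_iff_commute.2 (cwx.symm.pow_right i)
      have hww : w * (w * y * w⁻¹) * w⁻¹ = y := by
        rw [show w * (w * y * w⁻¹) * w⁻¹ = w * w * y * (w * w)⁻¹ by group, mul_self_of_orderOf_two hw2,
          one_mul, inv_one, mul_one]
      rw [hi, show w * (y * x ^ i) * w⁻¹ = w * y * w⁻¹ * (w * x ^ i * w⁻¹) by group, hi, hwi,
        mul_assoc, mul_eq_left] at hww
      have h33 : x ^ i * x ^ i * x ^ i = 1 := by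
        rw [← pow_add, ← pow_add, show i + i + i = 3 * i by ring, pow_mul, ← hx, pow_orderOf_eq_one,
          one_pow]
      rw [hww, one_mul] at h33
      rw [hi, h33, mul_one]
    · -- `y` has order nine
      refine hk3 ?_
      have h1 : y' ^ 3 = u * y ^ 3 * u⁻¹ := by rw [hy'def, conj_pow]
      rw [hy', (cyx.pow_right k).mul_pow, hk₃, ← conj_pow, hux, ← pow_mul, mul_comm k 3, pow_mul, ← hx,
        pow_orderOf_eq_one, one_pow, mul_one, inv_pow] at h1
      have h2 : (x ^ k₃) ^ 2 = 1 := by rw [pow_two]; nth_rw 1 [h1]; exact inv_mul_cancel _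
      have h3' : (x ^ k₃) ^ 3 = 1 := by
        rw [← pow_mul, mul_comm, pow_mul, ← hx, pow_orderOf_eq_one, one_pow]
      rw [pow_succ, h2, one_mul] at h3'
      exact h3'
  have hyy : Commute (y * y') t := conj_eq_iff_commute.1 (by
    rw [show y * y' * t * (y * y')⁻¹ = y * (y' * t * y'⁻¹) * y⁻¹ by group, hy't, hus, ← hs'ts, hs'def]
    obtain ⟨hc1, hc2⟩ := hI y cyx _ hs' cxs'
    rw [← hs'def]
    rcases hthree _ hc1 hc2 with e | e | e
    · exact e
    · exact absurd (conj_injective y (e.trans hsdef)) hs't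
    · exact absurd (conj_injective y (e.trans hs'def)) hs's)
  obtain ⟨k, hk⟩ := hpow_of _ (mul_mem hyQ hy'Q) hyy
  exact ⟨⟨x, t, s, y, u, hx, ht, hs, hu, cxt, cxs, cts, hst, hinv, cyx, ⟨k₃, hk₃⟩, rfl,
    by rw [← hs'ts], cut, hux, hus, ⟨k, by rw [← hk, inv_mul_cancel_left]⟩, c12⟩⟩

end CfsgLib.MTwentyTwoUnique
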