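import Cfsg.Agent.MTwentyTwoUnique.OrderThree
import Cfsg.Agent.Small.SylowPrime
import Cfsg.Agent.Small.SimpleTools
import Cfsg.Agent.Small.NormalizerFusion

/-!
An element `x` of order 3 in the centraliser of an involution `t` of a simple group of order 443520: the
four-group of its centraliser, an element `y` permuting it cyclically and an involution `u` inverting `x`.
-/

set_option autoImplicit false
set_option linter.style.haveILetI false
set_option linter.unusedSectionVars false

open scoped Pointwise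
open MulAction

namespace CfsgLib.MTwentyTwoUnique

open Cfsg CfsgLib.DefectOne CfsgLib.BrauerOrderP
open CfsgLib.MElevenUnique (Cg Ng Cs mem_Cg card_Cg_conj card_Cg_of_isConj)

universe u

variable {G : Type u} [Group G]

theorem ord_conj (g a : G) : orderOf (g * a * g⁻¹) = orderOf a :=
  orderOf_injective (MulAut.conj g).toMonoidHom (MulAut.conj g).injective a

theorem conj_injective (g : G) {a b : G} (h : g * a * g⁻¹ = g * b * g⁻¹) : a = b :=
  mul_left_cancel (mul_right_cancel h)

theorem commute_conj {a b : G} (g : G) (h : Commute a b) : Commute (g * a * g⁻¹) (g * b * g⁻¹) :=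
  h.map (MulAut.conj g).toMonoidHom

theorem conj_eq_iff_commute {g a : G} : g * a * g⁻¹ = a ↔ Commute g a :=
  mul_inv_eq_iff_eq_mul

theorem mul_self_of_orderOf_two {a : G} (h : orderOf a = 2) : a * a = 1 := by
  rw [← pow_two, ← h, pow_orderOf_eq_one]

theorem inv_eq_of_orderOf_two {a : G} (h : orderOf a = 2) : a⁻¹ = a :=
  inv_eq_of_mul_eq_one_right (mul_self_of_orderOf_two h)

theorem ne_one_of_orderOf_two {a : G} (h : orderOf a = 2) : a ≠ 1 := fun e => by
  rw [e, orderOf_one] at h; omega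

theorem orderOf_mul_two {a b : G} (ha : orderOf a = 2) (hb : orderOf b = 2) (h : Commute a b)
    (hne : a ≠ b) : orderOf (a * b) = 2 := by
  haveI := Fact.mk Nat.prime_two
  refine orderOf_eq_prime ?_ fun e => hne ?_
  · rw [h.mul_pow, ← ha, pow_orderOf_eq_one, one_mul, ha, ← hb, pow_orderOf_eq_one]
  · rw [mul_eq_one_iff_eq_inv.1 e, inv_eq_of_orderOf_two hb]

/-- The involutions commuting with an element. -/
abbrev InvIn (x : G) : Type u := {b : G // orderOf b = 2 ∧ Commute x b}

/-- The number of involutions in the centraliser is a class invariant. -/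
theorem card_invIn_conj (x g : G) : Nat.card (InvIn (g * x * g⁻¹)) = Nat.card (InvIn x) := by
  refine (Nat.card_congr ((MulAut.conj g).toEquiv.subtypeEquiv fun b => ?_)).symm
  show _ ↔ orderOf (g * b * g⁻¹) = 2 ∧ Commute (g * x * g⁻¹) (g * b * g⁻¹)
  rw [ord_conj]
  refine and_congr_right fun _ => ⟨commute_conj g, fun h => ?_⟩
  simpa [mul_assoc] using commute_conj g⁻¹ h

variable [Fintype G] [IsSimpleGroup G] [Fact (Nat.Prime 11)] [Fact (Nat.Prime 7)] [Fact (Nat.Prime 5)]
  (hGN : Nat.card G = 443520) (D : Data G)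
include hGN D

/-- An element of order 3 commuting with a given involution. -/
theorem Data.exists_three {t : G} (ht : orderOf t = 2) : ∃ x : G, orderOf x = 3 ∧ Commute x t := by
  haveI := Fact.mk Nat.prime_three
  obtain ⟨x, hx⟩ := exists_prime_orderOf_dvd_card' (G := Cg t) 3 (by rw [D.card_Cg hGN ht]; norm_num)
  exact ⟨x, by rw [Subgroup.orderOf_coe]; exact hx, mem_Cg.1 x.2⟩

theorem Data.card_two_elements {t : G} (ht : orderOf t = 2) : Nat.card {b : G // orderOf b = 2} = 1155 := by
  rw [Nat.card_congr (Equiv.subtypeEquivRight (q := fun b => IsConj b t) fun b =>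
      ⟨fun hb => D.isConj hGN hb ht, fun h => by
        obtain ⟨c, rfl⟩ := isConj_iff.1 h.symm; rw [ord_conj, ht]⟩),
    Characters.card_conjugates_eq_index]
  have h := (Cg t).index_mul_card
  rw [D.card_Cg hGN ht, hGN] at h
  change (Cg t).index = 1155
  omega

variable {x t : G} (hx : orderOf x = 3) (ht : orderOf t = 2) (hxt : Commute x t)
include hx ht hxt

theorem Data.card_three_elements : Nat.card {a : G // orderOf a = 3} = 12320 := by
  rw [Nat.card_congr (Equiv.subtypeEquivRight (q := fun a => IsConj a x) fun a =>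
      ⟨fun ha => (D.card_Cg_three hGN hx ht hxt a ha).1.symm, fun h => by
        obtain ⟨c, rfl⟩ := isConj_iff.1 h.symm; rw [ord_conj, hx]⟩),
    Characters.card_conjugates_eq_index]
  have h := (Cg x).index_mul_card
  rw [(D.card_Cg_three hGN hx ht hxt x hx).2, hGN] at h
  change (Cg x).index = 12320
  omega

/-- **The counts.** -/
theorem Data.counts : Nat.card (InvIn x) = 3 ∧ Nat.card (Sylow 3 (Cg t)) = 16 := by
  classical
  haveI := Fact.mk Nat.prime_three
  have hn : ∀ b : G, orderOf b = 2 → Nat.card {a : G // orderOf a = 3 ∧ Commute a b} =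
      Nat.card {a : G // orderOf a = 3 ∧ Commute a t} := by
    intro b hb
    obtain ⟨g, rfl⟩ := isConj_iff.1 (D.isConj hGN ht hb)
    refine (Nat.card_congr ((MulAut.conj g).toEquiv.subtypeEquiv fun a => ?_)).symm
    show _ ↔ orderOf (g * a * g⁻¹) = 3 ∧ Commute (g * a * g⁻¹) (g * t * g⁻¹)
    rw [ord_conj]
    refine and_congr_right fun _ => ⟨commute_conj g, fun h => ?_⟩
    simpa [mul_assoc] using commute_conj g⁻¹ h
  have hi : ∀ a : G, orderOf a = 3 → Nat.card (InvIn a) = Nat.card (InvIn x) := by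
    intro a ha
    obtain ⟨g, rfl⟩ := isConj_iff.1 (D.card_Cg_three hGN hx ht hxt a ha).1
    exact card_invIn_conj x g
  let e : (Σ a : {a : G // orderOf a = 3}, InvIn a.1) ≃
      Σ b : {b : G // orderOf b = 2}, {a : G // orderOf a = 3 ∧ Commute a b.1} :=
    { toFun := fun p => ⟨⟨p.2.1, p.2.2.1⟩, ⟨p.1.1, p.1.2, p.2.2.2⟩⟩
      invFun := fun p => ⟨⟨p.2.1, p.2.2.1⟩, ⟨p.1.1, p.1.2, p.2.2.2⟩⟩
      left_inv := fun _ => rfl
      right_inv := fun _ => rfl }
  have hcount := Nat.card_congr e
  rw [Nat.card_sigma, Nat.card_sigma, Finset.sum_congr rfl fun (a : {a : G // orderOf a = 3}) _ => hi a.1 a.2,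
    Finset.sum_congr rfl fun (b : {b : G // orderOf b = 2}) _ => hn b.1 b.2, Finset.sum_const, Finset.sum_const, smul_eq_mul,
    smul_eq_mul, Finset.card_univ, Finset.card_univ, ← Nat.card_eq_fintype_card,
    ← Nat.card_eq_fintype_card, D.card_three_elements hGN hx ht hxt, D.card_two_elements hGN ht] at hcount
  have hC := D.card_Cg hGN ht
  have hcard3 : ∀ P : Sylow 3 (Cg t), Nat.card (P : Subgroup (Cg t)) = 3 := fun P =>
    card_sylow_of_sq_not_dvd (by rw [hC]; norm_num) (by rw [hC]; norm_num) P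
  have hnt : Nat.card {a : G // orderOf a = 3 ∧ Commute a t} = Nat.card (Sylow 3 (Cg t)) * 2 := by
    rw [← Small.card_orderOf_eq_prime hcard3]
    exact Nat.card_congr
      { toFun := fun a => ⟨⟨a.1, mem_Cg.2 a.2.2.eq⟩, by rw [Subgroup.orderOf_mk]; exact a.2.1⟩
        invFun := fun a => ⟨(a.1 : G), by rw [Subgroup.orderOf_coe]; exact a.2, mem_Cg.1 a.1.2⟩
        left_inv := fun _ => rfl
        right_inv := fun _ => rfl }
  rw [hnt] at hcount
  obtain ⟨P⟩ : Nonempty (Sylow 3 (Cg t)) := inferInstance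
  have hmul := Small.card_sylow_mul_card_normalizer P
  rw [hC] at hmul
  have hmod := Small.card_sylow_mod (G := Cg t) 3
  have hdvd : Nat.card (Sylow 3 (Cg t)) ∣ 384 := Dvd.intro _ hmul
  have hpar : Nat.card (InvIn x) ≤ 36 := by
    rw [← (D.card_Cg_three hGN hx ht hxt x hx).2]
    exact Nat.card_le_card_of_injective (fun b => (⟨b.1, mem_Cg.2 b.2.2.eq.symm⟩ : Cg x))
      fun b c h => Subtype.ext (congrArg Subtype.val (h : (⟨b.1, _⟩ : Cg x) = ⟨c.1, _⟩) :)
  -- the number of involutions is odd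
  have hodd : Nat.card (InvIn x) % 2 = 1 := by
    haveI := Fact.mk Nat.prime_two
    have hsq : Nat.card (InvIn x) + 1 = Nat.card {g : Cg x // g ^ 2 = 1} := by
      rw [← Nat.card_unique (α := PUnit.{u+1}), ← Nat.card_sum]
      refine Nat.card_congr (Equiv.ofBijective (fun
        | .inl b => ⟨⟨b.1, mem_Cg.2 b.2.2.eq.symm⟩, Subtype.ext (by
            simp only [SubmonoidClass.coe_pow, OneMemClass.coe_one]; rw [pow_two, mul_self_of_orderOf_two b.2.1])⟩
        | .inr _ => ⟨1, one_pow 2⟩) ⟨?_, ?_⟩)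
      · rintro (b | b) (c | c) h <;> simp only [Subtype.mk.injEq] at h
        · exact congrArg Sum.inl (Subtype.ext h)
        · exact absurd (congrArg Subtype.val h)
            (ne_one_of_orderOf_two b.2.1)
        · exact absurd (congrArg Subtype.val h.symm)
            (ne_one_of_orderOf_two c.2.1)
        · exact congrArg Sum.inr (Subsingleton.elim _ _)
      · intro g
        by_cases h : g.1 = 1
        · exact ⟨.inr PUnit.unit, Subtype.ext h.symm⟩
        · refine ⟨.inl ⟨(g.1 : G), ?_, (mem_Cg.1 g.1.2).symm⟩, Subtype.ext (Subtype.ext rfl)⟩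
          refine orderOf_eq_prime ?_ fun e => h (Subtype.ext e)
          exact congrArg Subtype.val g.2
    have h2 : 2 ∣ Nat.card {g : Cg x // g ^ 2 = 1} := by
      have hfix := Equiv.Perm.card_fixedPoints_modEq (f := (fun g => g⁻¹ : Function.End (Cg x))) (p := 2) (n := 1)
        (funext fun g => inv_inv g)
      rw [← Nat.card_eq_fintype_card, ← Nat.card_eq_fintype_card,
        (D.card_Cg_three hGN hx ht hxt x hx).2] at hfix
      rw [Nat.card_congr (Equiv.subtypeEquivRight (q := fun g => g ∈ Function.fixedPoints (fun g : Cg x => g⁻¹))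
        fun g => ⟨fun h => inv_eq_of_mul_eq_one_right (by rw [← pow_two]; exact h), fun h => by
          rw [pow_two]; nth_rw 1 [← (h : g⁻¹ = g)]; exact inv_mul_cancel g⟩)]
      exact Nat.dvd_of_mod_eq_zero (hfix.symm.trans rfl : _ % 2 = 36 % 2)
    omega
  have key : ∀ n ∈ Nat.divisors 384, n % 3 = 1 → ∀ i ≤ 36, i % 2 = 1 → 12320 * i = 1155 * (n * 2) →
      i = 3 ∧ n = 16 := by
    intro n hn h3 i _ hi h
    have h' : 16 * i = 3 * n := by omega
    have hlist : ∀ n ∈ Nat.divisors 384, n % 3 = 1 → n ∈ ([1, 4, 16, 64] : List ℕ) := by decide +kernel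
    have := hlist n hn h3
    simp only [List.mem_cons, List.not_mem_nil, or_false] at this
    omega
  exact key _ (Nat.mem_divisors.2 ⟨hdvd, by norm_num⟩) hmod _ hpar hodd hcount

/-- The common centraliser of `x` and `t`, and an element of the centraliser of `t` inverting `x`. -/
theorem Data.common_centraliser : Nat.card ↥(Cg x ⊓ Cg t) = 12 ∧
    ∃ g : G, Commute g t ∧ g * x * g⁻¹ = x⁻¹ := by
  classical
  haveI := Fact.mk Nat.prime_three
  have hC := D.card_Cg hGN ht
  set xC : Cg t := ⟨x, mem_Cg.2 hxt.eq⟩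
  have hxC : orderOf xC = 3 := by rw [← Subgroup.orderOf_coe]; exact hx
  obtain ⟨P, hP⟩ := MElevenUnique.exists_sylow_of_orderOf hxC
  have hP3 : Nat.card (P : Subgroup (Cg t)) = 3 :=
    card_sylow_of_sq_not_dvd (by rw [hC]; norm_num) (by rw [hC]; norm_num) P
  have hmul := Small.card_sylow_mul_card_normalizer P
  rw [hC, (D.counts hGN hx ht hxt).2] at hmul
  have hN : Nat.card (Subgroup.normalizer ((P : Subgroup (Cg t)) : Set (Cg t))) = 24 := by omega
  have hrel := Small.relIndex_centralizer_dvd_pred hP3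
  have hcm := Small.card_centralizer_mul_relIndex (P : Subgroup (Cg t))
  rw [hN] at hcm
  have hCx : Subgroup.centralizer ((P : Subgroup (Cg t)) : Set (Cg t)) = Subgroup.centralizer {xC} :=
    (Small.centralizer_singleton_eq_of_prime hP3 hP (fun e => by rw [e, orderOf_one] at hxC; omega)).symm
  have hiso : Nat.card (Subgroup.centralizer ({xC} : Set (Cg t))) = Nat.card ↥(Cg x ⊓ Cg t) :=
    Nat.card_congr
      { toFun := fun c => ⟨(c.1 : G), mem_Cg.2 (congrArg Subtype.val
          (Subgroup.mem_centralizer_singleton_iff.1 c.2)), c.1.2⟩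
        invFun := fun c => ⟨⟨c.1, c.2.2⟩,
          Subgroup.mem_centralizer_singleton_iff.2 (Subtype.ext (mem_Cg.1 c.2.1))⟩
        left_inv := fun _ => rfl
        right_inv := fun _ => rfl }
  have h36 : Nat.card ↥(Cg x ⊓ Cg t) ∣ 36 :=
    (D.card_Cg_three hGN hx ht hxt x hx).2 ▸ Subgroup.card_dvd_of_le inf_le_left
  rw [hCx] at hcm
  rw [hCx] at hrel
  rw [hiso] at hcm
  have hr := (Nat.dvd_prime Nat.prime_two).1 hrel
  have h12 : Nat.card ↥(Cg x ⊓ Cg t) = 12 := by
    rcases hr with h | h <;> rw [h] at hcm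
    · rw [mul_one] at hcm; rw [hcm] at h36; norm_num at h36
    · omega
  refine ⟨h12, ?_⟩
  obtain ⟨g, hg, hg'⟩ := SetLike.exists_of_lt (lt_of_le_of_ne
    (hCx.ge.trans (Subgroup.centralizer_le_normalizer _) : Subgroup.centralizer ({xC} : Set (Cg t)) ≤
      Subgroup.normalizer ((P : Subgroup (Cg t)) : Set (Cg t))) fun e => by
      have := congrArg (fun H : Subgroup (Cg t) => Nat.card H) e
      simp only [hiso, hN, h12] at this
      omega)
  refine ⟨(g : G), mem_Cg.1 g.2, ?_⟩
  have hmem : g * xC * g⁻¹ ∈ (P : Subgroup (Cg t)) := (Subgroup.mem_normalizer_iff.1 hg xC).1 hP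
  have hPz : (P : Subgroup (Cg t)) = Subgroup.zpowers xC :=
    (Subgroup.eq_of_le_of_card_ge (Subgroup.zpowers_le.2 hP) (by rw [Nat.card_zpowers, hxC, hP3])).symm
  rw [hPz, ← mem_powers_iff_mem_zpowers, Submonoid.mem_powers_iff] at hmem
  obtain ⟨k, hk⟩ := hmem
  rw [← pow_mod_orderOf, hxC] at hk
  have hk' : k % 3 < 3 := Nat.mod_lt _ (by norm_num)
  interval_cases hkk : k % 3
  · rw [pow_zero] at hk
    exact absurd (conj_eq_one_iff.1 hk.symm) (fun e => by rw [e, orderOf_one] at hxC; omega)
  · rw [pow_one] at hk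
    exact absurd (Subgroup.mem_centralizer_singleton_iff.2 (mul_inv_eq_iff_eq_mul.1 hk.symm)) hg'
  · have h2 : (g : G) * x * (g : G)⁻¹ = x ^ 2 := (congrArg Subtype.val hk).symm
    rw [h2, eq_inv_iff_mul_eq_one, ← pow_succ]
    have h3 := pow_orderOf_eq_one x
    rwa [hx] at h3

end CfsgLib.MTwentyTwoUnique
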