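import Cfsg.Agent.MTwentyTwoUnique.Quad

/-!
The normaliser of `A` is transitive on the involutions of `A`, so it has order 5760.
-/

set_option autoImplicit false
set_option linter.style.haveILetI false
set_option linter.unusedSectionVars false

open scoped Pointwise

namespace CfsgLib.MTwentyTwoUnique

open Cfsg CfsgLib.DefectOne CfsgLib.BrauerOrderP CfsgLib.Characters
open CfsgLib.MElevenUnique (Cg Ng mem_Cg)

universe u

variable {G : Type u} [Group G]

theorem mem_Ng_of_conj [Finite G] {H : Subgroup G} {g : G} (h : ∀ a ∈ H, g * a * g⁻¹ ∈ H) : g ∈ Ng H := by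
  refine Subgroup.mem_normalizer_iff.2 fun a => ⟨h a, fun ha => ?_⟩
  obtain ⟨a', ha'⟩ := Finite.surjective_of_injective (f := fun z : H => (⟨g * z * g⁻¹, h z z.2⟩ : H))
    (fun z w e => Subtype.ext (conj_injective g (congrArg Subtype.val e))) ⟨_, ha⟩
  have e : (a' : G) = a := conj_injective g (congrArg Subtype.val ha')
  exact e ▸ a'.2

theorem conj_mem_of_mem_Ng {H : Subgroup G} {g a : G} (h : g ∈ Ng H) (ha : a ∈ H) : g * a * g⁻¹ ∈ H :=
  (Subgroup.mem_normalizer_iff.1 h a).1 ha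

theorem map_conj_mul (H : Subgroup G) (g h : G) :
    (H.map (MulAut.conj h).toMonoidHom).map (MulAut.conj g).toMonoidHom =
      H.map (MulAut.conj (g * h)).toMonoidHom := by
  rw [Subgroup.map_map]
  congr 1
  ext z
  simp [mul_assoc]

theorem mem_conj {H : Subgroup G} {g z : G} :
    z ∈ H.map (MulAut.conj g).toMonoidHom ↔ g⁻¹ * z * g ∈ H := by
  constructor
  · rintro ⟨y, hy, rfl⟩
    simpa [mul_assoc] using hy
  · exact fun h => ⟨_, h, by simp [mul_assoc]⟩

namespace Quad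

variable (Q : Quad G)

/-- A conjugate of the four-group. -/
def P (g : G) : Subgroup G := Q.toCore.toFrame.E.map (MulAut.conj g).toMonoidHom

theorem card_P (g : G) : Nat.card (Q.P g) = 4 := by
  rw [P, Subgroup.card_map_of_injective (MulAut.conj g).injective, Q.toCore.toFrame.card_E]

theorem conj_mem_P {g n z : G} (hz : z ∈ Q.P g) : n * z * n⁻¹ ∈ Q.P (n * g) := by
  refine mem_conj.2 ?_
  rw [show (n * g)⁻¹ * (n * z * n⁻¹) * (n * g) = g⁻¹ * z * g by group]
  exact mem_conj.1 hz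

theorem map_P (g n : G) : (Q.P g).map (MulAut.conj n).toMonoidHom = Q.P (n * g) := map_conj_mul _ n g

theorem P_one : Q.P 1 = Q.toCore.toFrame.E := by
  ext z; rw [P, mem_conj]; simp

variable [Fintype G] [IsSimpleGroup G] [Fact (Nat.Prime 11)] [Fact (Nat.Prime 7)] [Fact (Nat.Prime 5)]
  (hGN : Nat.card G = 443520) (D : Data G)
include hGN D

omit hGN D in
theorem Ct_le : Cg Q.t ≤ Ng Q.A := fun c hc => mem_Ng_of_conj (Q.Ct_A c (mem_Cg.1 hc))

omit hGN D in
theorem y_mem : Q.y ∈ Ng Q.A := mem_Ng_of_conj Q.y_A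

/-- The orbit of `t`. -/
theorem card_normalizer : Nat.card (Ng Q.A) =
    384 * Nat.card {a : G // ∃ n ∈ Ng Q.A, n * Q.t * n⁻¹ = a} := by
  classical
  set H := Ng Q.A
  set tH : H := ⟨Q.t, Q.Ct_le (mem_Cg.2 rfl)⟩
  have hC : Nat.card (Subgroup.centralizer ({tH} : Set H)) = 384 := by
    rw [← D.card_Cg hGN Q.ht]
    refine Nat.card_congr
      { toFun := fun c => ⟨(c.1 : G), mem_Cg.2 (congrArg Subtype.val
          (Subgroup.mem_centralizer_singleton_iff.1 c.2))⟩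
        invFun := fun c => ⟨⟨c.1, Q.Ct_le c.2⟩,
          Subgroup.mem_centralizer_singleton_iff.2 (Subtype.ext (mem_Cg.1 c.2))⟩
        left_inv := fun _ => rfl
        right_inv := fun _ => rfl }
  have hO : Nat.card {a : G // ∃ n ∈ H, n * Q.t * n⁻¹ = a} = Nat.card {z : H // IsConj z tH} := by
    refine (Nat.card_congr (Equiv.ofBijective
      (fun z : {z : H // IsConj z tH} => (⟨(z.1 : G), by
        obtain ⟨c, hc⟩ := isConj_iff.1 z.2.symm
        exact ⟨c, c.2, congrArg Subtype.val hc⟩⟩ : {a : G // ∃ n ∈ H, n * Q.t * n⁻¹ = a})) ⟨?_, ?_⟩)).symm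
    · exact fun z w h => Subtype.ext (Subtype.ext (congrArg (fun a : {a : G // _} => (a : G)) h))
    · rintro ⟨a, n, hn, rfl⟩
      exact ⟨⟨⟨n, hn⟩ * tH * (⟨n, hn⟩ : H)⁻¹, (isConj_iff.2 ⟨⟨n, hn⟩, rfl⟩ : IsConj tH _).symm⟩, rfl⟩
  rw [hO, card_conjugates_eq_index, ← hC, mul_comm, Subgroup.index_mul_card]

/-- The orbit has length 3 or 15. -/
theorem orbit_card : Nat.card {a : G // ∃ n ∈ Ng Q.A, n * Q.t * n⁻¹ = a} = 3 ∨
    Nat.card {a : G // ∃ n ∈ Ng Q.A, n * Q.t * n⁻¹ = a} = 15 := by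
  classical
  haveI := Fact.mk Nat.prime_three
  set O := {a : G // ∃ n ∈ Ng Q.A, n * Q.t * n⁻¹ = a}
  set o := Nat.card O with ho
  have hle : o ≤ 15 := by
    have h1 : Nat.card {a : Q.A // a ≠ 1} = 15 := by
      have h := Nat.card_congr (Equiv.sumCompl fun a : Q.A => a ≠ 1)
      rw [Nat.card_sum, Q.card_A] at h
      have h2 : Nat.card {a : Q.A // ¬ a ≠ 1} = 1 := by
        refine Nat.card_eq_one_iff_unique.2 ⟨⟨fun a b => Subtype.ext ?_⟩, ⟨⟨1, by simp⟩⟩⟩
        exact (not_not.1 a.2).trans (not_not.1 b.2).symm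
      omega
    rw [← h1]
    refine Nat.card_le_card_of_injective (fun a : O => (⟨⟨a.1, by
      obtain ⟨n, hn, hna⟩ := a.2
      rw [← hna]; exact conj_mem_of_mem_Ng hn (Q.E_le_A Q.toCore.toFrame.t_mem_E)⟩, fun e => by
      obtain ⟨n, hn, hna⟩ := a.2
      exact ne_one_of_orderOf_two Q.ht (conj_eq_one_iff.1 (hna.trans (congrArg Subtype.val e)))⟩ :
        {a : Q.A // a ≠ 1})) fun a b h => Subtype.ext (congrArg (fun z : {a : Q.A // a ≠ 1} => (z.1 : G)) h)
  have hdvd : 384 * o ∣ 443520 := Q.card_normalizer hGN D ▸ card_dvd_GN hGN _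
  have hxN : Q.x ∈ Ng Q.A := Q.Ct_le (mem_Cg.2 Q.cxt.eq)
  let f : Function.End O := fun a => ⟨Q.x * a.1 * Q.x⁻¹, by
    obtain ⟨n, hn, hna⟩ := a.2
    exact ⟨Q.x * n, mul_mem hxN hn, by rw [← hna]; group⟩⟩
  have hf : f ^ 3 ^ 1 = 1 := by
    funext a
    refine Subtype.ext ?_
    show Q.x * (Q.x * (Q.x * a.1 * Q.x⁻¹) * Q.x⁻¹) * Q.x⁻¹ = a.1
    calc Q.x * (Q.x * (Q.x * a.1 * Q.x⁻¹) * Q.x⁻¹) * Q.x⁻¹ = Q.x ^ 3 * a.1 * (Q.x ^ 3)⁻¹ := by
          simp only [pow_succ, pow_zero, one_mul, mul_inv_rev, mul_assoc]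
      _ = a.1 := by rw [Q.toCore.toFrame.x_cubed, one_mul, inv_one, mul_one]
  have hmem : ∀ b, orderOf b = 2 → Commute Q.x b → ∃ n ∈ Ng Q.A, n * Q.t * n⁻¹ = b := by
    intro b hb hxb
    rcases Q.inv_cases b hb hxb with rfl | rfl | rfl
    · exact ⟨1, one_mem _, by simp⟩
    · exact ⟨Q.y, Q.y_mem, Q.y_t⟩
    · exact ⟨Q.y * Q.y, mul_mem Q.y_mem Q.y_mem, by
        rw [show Q.y * Q.y * Q.t * (Q.y * Q.y)⁻¹ = Q.y * (Q.y * Q.t * Q.y⁻¹) * Q.y⁻¹ by group, Q.y_t, Q.y_s]⟩
  have h := Equiv.Perm.card_fixedPoints_modEq hf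
  rw [← Nat.card_eq_fintype_card, ← Nat.card_eq_fintype_card] at h
  have hfix : Nat.card ↑(Function.fixedPoints f) = 3 := by
    rw [← (D.counts hGN Q.hx Q.ht Q.cxt).1]
    refine Nat.card_congr
      { toFun := fun a => ⟨a.1.1, by
          obtain ⟨n, -, hna⟩ := a.1.2
          rw [← hna, ord_conj, Q.ht], (conj_eq_iff_commute.1 (congrArg Subtype.val a.2))⟩
        invFun := fun b => ⟨⟨b.1, hmem b.1 b.2.1 b.2.2⟩, Subtype.ext (conj_eq_iff_commute.2 b.2.2)⟩
        left_inv := fun _ => rfl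
        right_inv := fun _ => rfl }
  rw [hfix] at h
  have hd : o ∈ Nat.divisors 1155 := Nat.mem_divisors.2
    ⟨(Nat.mul_dvd_mul_iff_left (by norm_num : 0 < 384)).1 (by exact hdvd), by norm_num⟩
  have key : ∀ o ∈ Nat.divisors 1155, o ≤ 15 → o % 3 = 3 % 3 → o = 3 ∨ o = 15 := by decide +kernel
  exact key o hd hle h

section Short

variable (ho : Nat.card {a : G // ∃ n ∈ Ng Q.A, n * Q.t * n⁻¹ = a} = 3)
include ho

/-- In the short case the conjugates of `t` under the normaliser stay in the four-group. -/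
theorem short_mem {n : G} (hn : n ∈ Ng Q.A) : n * Q.t * n⁻¹ ∈ Q.toCore.toFrame.E := by
  classical
  set O := {a : G // ∃ n ∈ Ng Q.A, n * Q.t * n⁻¹ = a}
  let a₀ : O := ⟨Q.t, 1, one_mem _, by simp⟩
  let a₁ : O := ⟨Q.s, Q.y, Q.y_mem, Q.y_t⟩
  let a₂ : O := ⟨Q.t * Q.s, Q.y * Q.y, mul_mem Q.y_mem Q.y_mem, by
    rw [show Q.y * Q.y * Q.t * (Q.y * Q.y)⁻¹ = Q.y * (Q.y * Q.t * Q.y⁻¹) * Q.y⁻¹ by group, Q.y_t, Q.y_s]⟩
  have h3 : ({a₀, a₁, a₂} : Finset O) = Finset.univ := by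
    refine Finset.eq_univ_of_card _ ?_
    rw [← Nat.card_eq_fintype_card, ho, Finset.card_insert_of_notMem, Finset.card_pair]
    · exact fun e => ne_one_of_orderOf_two Q.ht (right_eq_mul.1 (congrArg Subtype.val e))
    · simp only [Finset.mem_insert, Finset.mem_singleton]
      rintro (e | e)
      · exact Q.hst (congrArg Subtype.val e).symm
      · exact ne_one_of_orderOf_two Q.hs (left_eq_mul.1 (congrArg Subtype.val e))
  have := h3.ge (Finset.mem_univ (⟨_, n, hn, rfl⟩ : O))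
  simp only [Finset.mem_insert, Finset.mem_singleton] at this
  rcases this with e | e | e
  · rw [show n * Q.t * n⁻¹ = Q.t from congrArg Subtype.val e]; exact Q.toCore.toFrame.t_mem_E
  · rw [show n * Q.t * n⁻¹ = Q.s from congrArg Subtype.val e]; exact Q.toCore.toFrame.s_mem_E
  · rw [show n * Q.t * n⁻¹ = Q.t * Q.s from congrArg Subtype.val e]
    exact mul_mem Q.toCore.toFrame.t_mem_E Q.toCore.toFrame.s_mem_E

theorem NA_le_NE : Ng Q.A ≤ Ng Q.toCore.toFrame.E := by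
  intro n hn
  refine mem_Ng_of_conj fun e he => ?_
  have h1 := Q.short_mem hGN D ho hn
  have h2 := Q.short_mem hGN D ho (mul_mem hn Q.y_mem)
  rw [show n * Q.y * Q.t * (n * Q.y)⁻¹ = n * (Q.y * Q.t * Q.y⁻¹) * n⁻¹ by group, Q.y_t] at h2
  rcases Q.toCore.toFrame.mem_E.1 he with rfl | rfl | rfl | rfl
  · simp
  · exact h1
  · exact h2
  · rw [show n * (Q.t * Q.s) * n⁻¹ = n * Q.t * n⁻¹ * (n * Q.s * n⁻¹) by group]
    exact mul_mem h1 h2

theorem W_eq_R : Q.toCore.W = Q.R :=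
  le_antisymm Q.toCore.W_le_R fun r hr => Q.toCore.mem_W_of_normalizes hr fun _ he =>
    conj_mem_of_mem_Ng (Q.NA_le_NE hGN D ho (Q.Ct_le (Q.R_le hr))) he

theorem NA_eq_NE : Ng Q.A = Ng Q.toCore.toFrame.E := by
  classical
  refine Subgroup.eq_of_le_of_card_ge (Q.NA_le_NE hGN D ho) ?_
  rw [Q.card_normalizer hGN D, ho]
  set H := Ng Q.toCore.toFrame.E
  set tH : H := ⟨Q.t, Subgroup.le_normalizer Q.toCore.toFrame.t_mem_E⟩
  rw [← (Subgroup.centralizer ({tH} : Set H)).index_mul_card, mul_comm 384 3, ← card_conjugates_eq_index]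
  refine Nat.mul_le_mul ?_ ?_
  · rw [← (D.counts hGN Q.hx Q.ht Q.cxt).1]
    refine Nat.card_le_card_of_injective (fun z => (⟨(z.1 : G), ?_⟩ : InvIn Q.x))
      fun z w h => Subtype.ext (Subtype.ext (congrArg (fun b : InvIn Q.x => (b : G)) h))
    obtain ⟨c, hc⟩ := isConj_iff.1 z.2.symm
    have hc' : (c : G) * Q.t * (c : G)⁻¹ = z.1 := congrArg Subtype.val hc
    have hmem := conj_mem_of_mem_Ng c.2 Q.toCore.toFrame.t_mem_E
    rw [hc'] at hmem
    refine ⟨by rw [← hc', ord_conj, Q.ht], Q.toCore.toFrame.x_comm_E hmem⟩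
  · rw [← D.card_Cg hGN Q.ht]
    refine Nat.card_le_card_of_injective (fun c => (⟨(c.1 : G), mem_Cg.2 (congrArg Subtype.val
        (Subgroup.mem_centralizer_singleton_iff.1 c.2))⟩ : Cg Q.t))
      fun c d h => Subtype.ext (Subtype.ext (congrArg (fun z : Cg Q.t => (z : G)) h))

/-- Every element of the centraliser of an involution of the four-group normalises it. -/
theorem NE_of_commute {e c : G} (he : e ∈ Q.toCore.toFrame.E) (he1 : e ≠ 1) (hc : Commute c e) :
    c ∈ Ng Q.toCore.toFrame.E := by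
  obtain ⟨n, hn, hne⟩ : ∃ n ∈ Ng Q.A, n * Q.t * n⁻¹ = e := by
    rcases Q.toCore.toFrame.mem_E.1 he with rfl | rfl | rfl | rfl
    · exact absurd rfl he1
    · exact ⟨1, one_mem _, by simp⟩
    · exact ⟨Q.y, Q.y_mem, Q.y_t⟩
    · exact ⟨Q.y * Q.y, mul_mem Q.y_mem Q.y_mem, by
        rw [show Q.y * Q.y * Q.t * (Q.y * Q.y)⁻¹ = Q.y * (Q.y * Q.t * Q.y⁻¹) * Q.y⁻¹ by group, Q.y_t, Q.y_s]⟩
  have h1 : n⁻¹ * c * n ∈ Ng Q.A := Q.Ct_le (mem_Cg.2 (by
    have h := commute_conj n⁻¹ hc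
    rw [← hne, show n⁻¹ * (n * Q.t * n⁻¹) * n⁻¹⁻¹ = Q.t by group, inv_inv] at h
    exact h.eq))
  have := Q.NA_le_NE hGN D ho (mul_mem (mul_mem hn h1) (inv_mem hn))
  rwa [show n * (n⁻¹ * c * n) * n⁻¹ = c by group] at this

/-- Two conjugates of the four-group with a common involution are equal. -/
theorem P_unique {g h a : G} (ha : a ≠ 1) (hg : a ∈ Q.P g) (hh : a ∈ Q.P h) : Q.P g = Q.P h := by
  classical
  have key : ∀ g, a ∈ Q.P g → ∃ g', Q.P g' = Q.P g ∧ g' * Q.t * g'⁻¹ = a := by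
    intro g hg
    have he := mem_conj.1 hg
    have he1 : g⁻¹ * a * g ≠ 1 := fun e => ha (by
      have := congrArg (fun z => g * z * g⁻¹) e
      simpa [mul_assoc] using this)
    obtain ⟨n, hn, hne⟩ : ∃ n ∈ Ng Q.A, n * Q.t * n⁻¹ = g⁻¹ * a * g := by
      rcases Q.toCore.toFrame.mem_E.1 he with e | e | e | e
      · exact absurd e he1
      · exact ⟨1, one_mem _, by simp [e]⟩
      · exact ⟨Q.y, Q.y_mem, by rw [e]; exact Q.y_t⟩
      · exact ⟨Q.y * Q.y, mul_mem Q.y_mem Q.y_mem, by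
          rw [e, show Q.y * Q.y * Q.t * (Q.y * Q.y)⁻¹ = Q.y * (Q.y * Q.t * Q.y⁻¹) * Q.y⁻¹ by group, Q.y_t,
            Q.y_s]⟩
    refine ⟨g * n, ?_, by rw [show g * n * Q.t * (g * n)⁻¹ = g * (n * Q.t * n⁻¹) * g⁻¹ by group, hne]; group⟩
    have hnE := Q.NA_le_NE hGN D ho hn
    ext z
    rw [P, mem_conj, P, mem_conj, show (g * n)⁻¹ * z * (g * n) = n⁻¹ * (g⁻¹ * z * g) * n by group]
    have := Subgroup.mem_normalizer_iff.1 hnE (n⁻¹ * (g⁻¹ * z * g) * n)
    rw [show n * (n⁻¹ * (g⁻¹ * z * g) * n) * n⁻¹ = g⁻¹ * z * g by group] at this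
    exact this
  obtain ⟨g', hg', hga⟩ := key g hg
  obtain ⟨h', hh', hha⟩ := key h hh
  have hc : g'⁻¹ * h' ∈ Ng Q.toCore.toFrame.E := Q.NA_le_NE hGN D ho (Q.Ct_le (mem_Cg.2 (by
    have h1 : g'⁻¹ * h' * Q.t * (g'⁻¹ * h')⁻¹ = Q.t := by
      rw [show g'⁻¹ * h' * Q.t * (g'⁻¹ * h')⁻¹ = g'⁻¹ * (h' * Q.t * h'⁻¹) * g' by group, hha, ← hga]; group
    exact (conj_eq_iff_commute.1 h1).eq)))
  rw [← hg', ← hh']
  ext z
  rw [P, mem_conj, P, mem_conj]
  have := Subgroup.mem_normalizer_iff.1 hc (h'⁻¹ * z * h')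
  rw [show g'⁻¹ * h' * (h'⁻¹ * z * h') * (g'⁻¹ * h')⁻¹ = g'⁻¹ * z * g' by group] at this
  exact this.symm

/-- A conjugate of the four-group meeting `A` outside it centralises it and lies in `R`. -/
theorem P_le {g a : G} (ha : a ∈ Q.A) (haE : a ∉ Q.toCore.toFrame.E) (hag : a ∈ Q.P g) :
    ∀ b ∈ Q.P g, b ∈ Q.R ∧ ∀ e ∈ Q.toCore.toFrame.E, Commute e b := by
  classical
  have ha1 : a ≠ 1 := fun e => haE (e ▸ one_mem _)
  have hEa : ∀ e ∈ Q.toCore.toFrame.E, e * a * e⁻¹ = a := fun e he =>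
    conj_eq_iff_commute.2 (Q.comm_A e (Q.E_le_A he) a ha)
  have hP : ∀ e ∈ Q.toCore.toFrame.E, ∀ b ∈ Q.P g, e * b * e⁻¹ ∈ Q.P g := by
    intro e he b hb
    have h := Q.conj_mem_P (n := e) hag
    rw [hEa e he] at h
    exact (Q.P_unique hGN D ho ha1 h hag).le (Q.conj_mem_P hb)
  have hcommE : ∀ b ∈ Q.P g, ∀ e ∈ Q.toCore.toFrame.E, Commute e b := by
    intro b hb
    -- some involution of the four-group commutes with `b`
    have hcases : ∀ c ∈ Q.P g, c = 1 ∨ c = a ∨ c = b ∨ c = a * b ∨ b = 1 ∨ b = a := by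
      intro c hc
      by_contra hne
      push Not at hne
      obtain ⟨h1, h2, h3, h4, h5, h6⟩ := hne
      haveI := Fintype.ofFinite (Q.P g)
      have hle := Finset.card_le_univ ({1, ⟨a, hag⟩, ⟨b, hb⟩, ⟨a * b, mul_mem hag hb⟩, ⟨c, hc⟩} :
        Finset (Q.P g))
      rw [Finset.card_insert_of_notMem, Finset.card_insert_of_notMem, Finset.card_insert_of_notMem,
        Finset.card_insert_of_notMem, Finset.card_singleton, ← Nat.card_eq_fintype_card, Q.card_P] at hle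
      · omega
      · simp only [Finset.mem_singleton, Subtype.mk.injEq]; exact Ne.symm h4
      · simp only [Finset.mem_insert, Finset.mem_singleton, Subtype.mk.injEq]
        push Not
        exact ⟨fun e => ha1 (right_eq_mul.1 e), Ne.symm h3⟩
      · simp only [Finset.mem_insert, Finset.mem_singleton, Subtype.mk.injEq]
        push Not
        exact ⟨Ne.symm h6, fun e => h5 (left_eq_mul.1 e), Ne.symm h2⟩
      · simp only [Finset.mem_insert, Finset.mem_singleton, ← Subtype.val_inj, OneMemClass.coe_one]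
        push Not
        refine ⟨Ne.symm ha1, Ne.symm h5, fun e => h6 ?_, Ne.symm h1⟩
        rw [eq_comm, mul_eq_one_iff_eq_inv] at e
        have : a * a = 1 := Q.sq_A a ha
        rw [eq_inv_iff_mul_eq_one.1 e |> fun h => (mul_left_cancel (a := a) (h.trans this.symm))]
    by_cases hb1 : b = 1
    · intro e he; rw [hb1]; exact Commute.one_right e
    by_cases hba : b = a
    · intro e he; rw [hba]; exact Q.comm_A e (Q.E_le_A he) a ha
    have htwo : ∀ e ∈ Q.toCore.toFrame.E, e * b * e⁻¹ = b ∨ e * b * e⁻¹ = a * b := by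
      intro e he
      rcases hcases _ (hP e he b hb) with r | r | r | r | r | r
      · exact absurd (conj_eq_one_iff.1 r) hb1
      · exact absurd (conj_injective e (r.trans (hEa e he).symm)) hba
      · exact Or.inl r
      · exact Or.inr r
      · exact absurd r hb1
      · exact absurd r hba
    obtain ⟨e₀, he₀, he₀1, hcomm⟩ : ∃ e ∈ Q.toCore.toFrame.E, e ≠ 1 ∧ Commute b e := by
      rcases htwo _ Q.toCore.toFrame.t_mem_E with r | r
      · exact ⟨Q.t, Q.toCore.toFrame.t_mem_E, ne_one_of_orderOf_two Q.ht, (conj_eq_iff_commute.1 r).symm⟩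
      rcases htwo _ Q.toCore.toFrame.s_mem_E with r' | r'
      · exact ⟨Q.s, Q.toCore.toFrame.s_mem_E, ne_one_of_orderOf_two Q.hs, (conj_eq_iff_commute.1 r').symm⟩
      refine ⟨Q.t * Q.s, mul_mem Q.toCore.toFrame.t_mem_E Q.toCore.toFrame.s_mem_E,
        ne_one_of_orderOf_two Q.toCore.toFrame.orderOf_ts, (conj_eq_iff_commute.1 ?_).symm⟩
      rw [show Q.t * Q.s * b * (Q.t * Q.s)⁻¹ = Q.t * (Q.s * b * Q.s⁻¹) * Q.t⁻¹ by group, r',
        show Q.t * (a * b) * Q.t⁻¹ = Q.t * a * Q.t⁻¹ * (Q.t * b * Q.t⁻¹) by group,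
        hEa _ Q.toCore.toFrame.t_mem_E, r, ← mul_assoc, Q.sq_A a ha, one_mul]
    have hbE := Q.NE_of_commute hGN D ho he₀ he₀1 hcomm
    intro e he
    by_contra hne
    have h1 : e * b * e⁻¹ * b⁻¹ ∈ Q.P g := mul_mem (hP e he b hb) (inv_mem hb)
    have h2 : e * b * e⁻¹ * b⁻¹ ∈ Q.toCore.toFrame.E := by
      rw [show e * b * e⁻¹ * b⁻¹ = e * (b * e⁻¹ * b⁻¹) by group]
      exact mul_mem he (conj_mem_of_mem_Ng hbE (inv_mem he))
    have h3 : e * b * e⁻¹ * b⁻¹ ≠ 1 := fun h => hne (conj_eq_iff_commute.1 (mul_inv_eq_one.1 h))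
    rw [← Q.P_one] at h2
    have := Q.P_unique hGN D ho h3 h1 h2
    rw [Q.P_one] at this
    exact haE (this.le hag)
  intro b hb
  refine ⟨?_, hcommE b hb⟩
  have h2 : b ^ 2 ^ 1 = 1 := by
    have h := Q.toCore.toFrame.sq_mem_E (mem_conj.1 hb)
    rw [show g⁻¹ * b * g * (g⁻¹ * b * g) = g⁻¹ * (b * b) * g by group] at h
    rw [pow_one, pow_two]
    have := congrArg (fun z => g * z * g⁻¹) h
    simpa [mul_assoc] using this
  exact (Q.toCore.two_mem_W hGN D (Q.toCore.toFrame.mem_CE.2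
    ⟨(hcommE b hb _ Q.toCore.toFrame.t_mem_E).symm, (hcommE b hb _ Q.toCore.toFrame.s_mem_E).symm⟩) h2).1

/-- `A` is not central in `R`. -/
theorem not_central : ¬ ∀ r ∈ Q.R, ∀ v ∈ Q.A, Commute r v := by
  classical
  intro hc
  have hW := Q.W_eq_R hGN D ho
  have hab := Q.abelian_of_central hGN D hW hc
  let Ω : Subgroup G :=
    { carrier := {r | r ∈ Q.R ∧ r * r = 1}
      one_mem' := ⟨one_mem _, one_mul 1⟩
      mul_mem' := by
        rintro p q ⟨hp, hp2⟩ ⟨hq, hq2⟩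
        refine ⟨mul_mem hp hq, ?_⟩
        rw [show p * q * (p * q) = p * (q * p) * q by group, (hab q hq p hp).eq,
          show p * (p * q) * q = p * p * (q * q) by group, hp2, hq2, one_mul]
      inv_mem' := by
        rintro p ⟨hp, hp2⟩
        exact ⟨inv_mem hp, by rw [← mul_inv_rev, hp2, inv_one]⟩ }
  have hAΩ : Q.A ≤ Ω := fun a ha => ⟨Q.A_le_R ha, Q.sq_A a ha⟩
  have hΩR : Ω ≤ Q.R := fun r hr => hr.1
  have hxΩ : ∀ r ∈ Ω, Q.x * r * Q.x⁻¹ ∈ Ω := fun r hr => ⟨Q.toCore.x_conj_R hr.1, by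
    rw [show Q.x * r * Q.x⁻¹ * (Q.x * r * Q.x⁻¹) = Q.x * (r * r) * Q.x⁻¹ by group, hr.2, mul_one,
      mul_inv_cancel]⟩
  rcases Q.toCore.card_of_invariant (Q.E_le_A.trans hAΩ) hΩR hxΩ with h | h | h
  · have := Subgroup.card_le_of_le hAΩ
    rw [h, Q.card_A] at this; omega
  swap
  · -- rank
    have hΩ : ∀ r ∈ Q.R, r * r = 1 := fun r hr =>
      ((Subgroup.eq_of_le_of_card_ge hΩR (by rw [h, Q.card_R])).ge hr).2
    obtain ⟨χ, hχ⟩ : ∃ χ : IrrCharacter G, deg χ = 21 := by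
      have h1 := D.card_deg hGN (d := 21) (by decide)
      obtain ⟨χ, hχ⟩ := Finset.card_pos.1 (show 0 < (Finset.univ.filter fun χ : IrrCharacter G => deg χ = 21).card by
        rw [h1]; decide)
      exact ⟨χ, (Finset.mem_filter.1 hχ).2⟩
    haveI := Fintype.ofFinite Q.R
    obtain ⟨m, hm⟩ := SylowThreeNine.exists_sum_eq χ Q.R
    rw [← Finset.add_sum_erase _ _ (Finset.mem_univ (1 : Q.R)),
      Finset.sum_congr rfl (g := fun _ => (5 : ℂ)) fun r hr => by
        have hr1 : (r : G) ≠ 1 := fun e => Finset.ne_of_mem_erase hr (Subtype.ext e)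
        have ho2 : orderOf (r : G) = 2 := by
          haveI := Fact.mk Nat.prime_two
          exact orderOf_eq_prime (by rw [pow_two]; exact hΩ r r.2) hr1
        rw [(val_spec (not_comm hGN) χ ho2).1, D.val_eq hGN ho2, hχ]
        norm_num [tv],
      Finset.sum_const, Finset.card_erase_of_mem (Finset.mem_univ _), Finset.card_univ,
      ← Nat.card_eq_fintype_card, Q.card_R, OneMemClass.coe_one, apply_one, hχ] at hm
    have h' : ((336 : ℤ) : ℂ) = ((64 * m : ℤ) : ℂ) := by push_cast at hm ⊢; linear_combination hm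
    have : (336 : ℤ) = 64 * m := by exact_mod_cast h'
    omega
  -- the involutions of `R` form `A`
  have hΩA : Q.A = Ω := Subgroup.eq_of_le_of_card_ge hAΩ (by rw [h, Q.card_A])
  obtain ⟨a, ha, haE⟩ := SetLike.exists_of_lt (lt_of_le_of_ne Q.E_le_A fun e => by
    have := congrArg (fun K : Subgroup G => Nat.card K) e
    simp only [Q.card_A, Q.toCore.toFrame.card_E] at this
    omega)
  have ha2 : orderOf a = 2 := by
    haveI := Fact.mk Nat.prime_two
    exact orderOf_eq_prime (by rw [pow_two]; exact Q.sq_A a ha) fun e => haE (e ▸ one_mem _)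
  obtain ⟨g, hg⟩ := isConj_iff.1 (D.isConj hGN ha2 Q.ht)
  -- the conjugate of `R` is `R`
  set P' := Q.R.map (MulAut.conj g).toMonoidHom with hP'
  have hP'C : P' ≤ Cg Q.t := by
    rintro _ ⟨r, hr, rfl⟩
    have := commute_conj g (hc r hr a ha)
    rw [hg] at this
    exact mem_Cg.2 this.eq
  have hP'ab : ∀ p ∈ P', ∀ p' ∈ P', Commute p p' := by
    rintro _ ⟨r, hr, rfl⟩ _ ⟨r', hr', rfl⟩
    exact commute_conj g (hab r hr r' hr')
  have hP'card : Nat.card P' = 64 := by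
    rw [hP', Subgroup.card_map_of_injective (MulAut.conj g).injective, Q.card_R]
  have hP'R : P' ≤ Q.R := by
    by_contra hne
    obtain ⟨q, hqP, hqR⟩ := SetLike.not_le_iff_exists.1 hne
    -- the normal form of an element of the centraliser of `t`
    have hxR : Q.x ∉ Q.R := fun h => by
      have := Subgroup.orderOf_dvd_natCard _ h
      rw [Q.hx, Q.card_R] at this
      norm_num at this
    have huu := mul_self_of_orderOf_two Q.hu
    have hx3 := Q.toCore.toFrame.x_cubed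
    have hxpow : ∀ i : ℕ, Q.x ^ i ∈ Q.R → i % 3 = 0 := by
      intro i hi
      rw [← pow_mod_orderOf, Q.hx] at hi
      have := Nat.mod_lt i (show 3 > 0 by norm_num)
      interval_cases hh : i % 3
      · rfl
      · exact absurd (by simpa using hi) hxR
      · refine absurd ?_ hxR
        have h2 := mul_mem hi hi
        rwa [← pow_add, show 2 + 2 = 3 + 1 from rfl, pow_succ, hx3, one_mul] at h2
    have hxu : ∀ i : ℕ, Q.x ^ i * Q.u ∉ Q.R := by
      intro i hi
      have h1 := mul_mem (inv_mem hi) (Q.toCore.x_conj_R hi)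
      rw [show (Q.x ^ i * Q.u)⁻¹ * (Q.x * (Q.x ^ i * Q.u) * Q.x⁻¹) =
        Q.u⁻¹ * ((Q.x ^ i)⁻¹ * Q.x * Q.x ^ i) * Q.u * Q.x⁻¹ by group,
        show (Q.x ^ i)⁻¹ * Q.x * Q.x ^ i = Q.x by group, inv_eq_of_orderOf_two Q.hu] at h1
      have e : Q.u * Q.x * Q.u = Q.x⁻¹ := by
        have := Q.u_x; rwa [inv_eq_of_orderOf_two Q.hu] at this
      rw [e, ← mul_inv_rev, ← pow_two] at h1
      exact hxR (by
        have := mul_mem (inv_mem h1) (inv_mem h1)
        rwa [inv_inv, ← pow_add, show 2 + 2 = 3 + 1 from rfl, pow_succ, hx3, one_mul] at this)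
    let φ : Q.R × Fin 3 × Fin 2 → Cg Q.t := fun z =>
      ⟨(z.1 : G) * Q.x ^ (z.2.1 : ℕ) * Q.u ^ (z.2.2 : ℕ), mul_mem (mul_mem (Q.R_le z.1.2)
        (pow_mem (mem_Cg.2 Q.cxt.eq) _)) (pow_mem (mem_Cg.2 Q.cut.eq) _)⟩
    have hφ : Function.Injective φ := by
      rintro ⟨r, ⟨i, hi⟩, ⟨j, hj⟩⟩ ⟨r', ⟨i', hi'⟩, ⟨j', hj'⟩⟩ he
      have h : (r : G) * Q.x ^ i * Q.u ^ j = (r' : G) * Q.x ^ i' * Q.u ^ j' := congrArg Subtype.val he
      have same : ∀ i i' : ℕ, i < 3 → i' < 3 → ∀ r r' : Q.R, (r : G) * Q.x ^ i = (r' : G) * Q.x ^ i' →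
          r = r' ∧ i = i' := by
        intro i i' hi hi' r r' h
        have h2 : Q.x ^ (i + (3 - i')) ∈ Q.R := by
          have e : Q.x ^ (i + (3 - i')) = (r : G)⁻¹ * r' := by
            rw [pow_add, show Q.x ^ i = (r : G)⁻¹ * r' * Q.x ^ i' by
              rw [mul_assoc, ← h, inv_mul_cancel_left], mul_assoc, ← pow_add,
              show i' + (3 - i') = 3 by omega, hx3, mul_one]
          rw [e]; exact mul_mem (inv_mem r.2) r'.2
        have := hxpow _ h2
        obtain rfl : i = i' := by omega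
        exact ⟨Subtype.ext (mul_right_cancel h), rfl⟩
      interval_cases j <;> interval_cases j'
      · simp only [pow_zero, mul_one] at h
        obtain ⟨rfl, rfl⟩ := same i i' hi hi' r r' h
        rfl
      · exfalso
        simp only [pow_zero, mul_one, pow_one] at h
        refine hxu (3 - i + i') ?_
        have e : Q.x ^ (3 - i + i') * Q.u = Q.x ^ (3 - i) * ((r' : G)⁻¹ * r) * (Q.x ^ (3 - i))⁻¹ := by
          have e1 : (r' : G)⁻¹ * r = Q.x ^ i' * Q.u * (Q.x ^ i)⁻¹ := by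
            rw [eq_mul_inv_iff_mul_eq, mul_assoc, h, mul_assoc, inv_mul_cancel_left]
          have e2 : (Q.x ^ i)⁻¹ * (Q.x ^ (3 - i))⁻¹ = 1 := by
            rw [← mul_inv_rev, ← pow_add, show 3 - i + i = 3 by omega, hx3, inv_one]
          rw [e1, pow_add, show Q.x ^ (3 - i) * (Q.x ^ i' * Q.u * (Q.x ^ i)⁻¹) * (Q.x ^ (3 - i))⁻¹ =
            Q.x ^ (3 - i) * Q.x ^ i' * Q.u * ((Q.x ^ i)⁻¹ * (Q.x ^ (3 - i))⁻¹) by group, e2, mul_one]
        rw [e]
        exact Q.R_conj _ (Q.cxt.pow_left _) _ (mul_mem (inv_mem r'.2) r.2)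
      · exfalso
        simp only [pow_zero, mul_one, pow_one] at h
        refine hxu (3 - i' + i) ?_
        have e : Q.x ^ (3 - i' + i) * Q.u = Q.x ^ (3 - i') * ((r : G)⁻¹ * r') * (Q.x ^ (3 - i'))⁻¹ := by
          have e1 : (r : G)⁻¹ * r' = Q.x ^ i * Q.u * (Q.x ^ i')⁻¹ := by
            rw [eq_mul_inv_iff_mul_eq, mul_assoc, ← h, mul_assoc, inv_mul_cancel_left]
          have e2 : (Q.x ^ i')⁻¹ * (Q.x ^ (3 - i'))⁻¹ = 1 := by
            rw [← mul_inv_rev, ← pow_add, show 3 - i' + i' = 3 by omega, hx3, inv_one]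
          rw [e1, pow_add, show Q.x ^ (3 - i') * (Q.x ^ i * Q.u * (Q.x ^ i')⁻¹) * (Q.x ^ (3 - i'))⁻¹ =
            Q.x ^ (3 - i') * Q.x ^ i * Q.u * ((Q.x ^ i')⁻¹ * (Q.x ^ (3 - i'))⁻¹) by group, e2, mul_one]
        rw [e]
        exact Q.R_conj _ (Q.cxt.pow_left _) _ (mul_mem (inv_mem r.2) r'.2)
      · simp only [pow_one] at h
        obtain ⟨rfl, rfl⟩ := same i i' hi hi' r r' (mul_right_cancel h)
        rfl
    have hbij : Function.Bijective φ := (Nat.bijective_iff_injective_and_card _).2 ⟨hφ, by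
      rw [Nat.card_prod, Nat.card_prod, Q.card_R, Nat.card_fin, Nat.card_fin, D.card_Cg hGN Q.ht]⟩
    have form : ∀ p ∈ P', p ∉ Q.R → ∃ r ∈ Q.R, ∃ i : ℕ, p = r * Q.x ^ i * Q.u := by
      intro p hp hpR
      obtain ⟨⟨r, ⟨i, hi⟩, ⟨j, hj⟩⟩, hz⟩ := hbij.2 ⟨p, hP'C hp⟩
      have hz' : (r : G) * Q.x ^ i * Q.u ^ j = p := congrArg Subtype.val hz
      interval_cases j
      · exfalso
        rw [pow_zero, mul_one] at hz'
        have h64 : p ^ 64 = 1 := by
          have := pow_card_eq_one' (G := P') (x := ⟨p, hp⟩)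
          rw [hP'card] at this
          exact congrArg Subtype.val this
        -- modulo `R`
        have key : ∀ n : ℕ, (Q.x ^ (i * n))⁻¹ * p ^ n ∈ Q.R := fun n => by
          induction n with
          | zero => simp
          | succ n ih =>
            have h1 : Q.x ^ i * ((r : G)⁻¹ * 1) * (Q.x ^ i)⁻¹ ∈ Q.R := Q.R_conj _ (Q.cxt.pow_left _) _
              (mul_mem (inv_mem r.2) (one_mem _))
            have h2 : (Q.x ^ i)⁻¹ * ((Q.x ^ (i * n))⁻¹ * p ^ n * (r : G)) * Q.x ^ i ∈ Q.R := by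
              have := Q.R_conj _ ((Q.cxt.pow_left i).inv_left) _ (mul_mem ih r.2)
              rwa [inv_inv] at this
            convert h2 using 1
            rw [show i * (n + 1) = i * n + i by ring, pow_add Q.x, pow_succ p, ← hz']
            group
        have := inv_mem (key 64)
        rw [h64, mul_one, inv_inv] at this
        have h0 := hxpow _ this
        obtain rfl : i = 0 := by omega
        rw [pow_zero, mul_one] at hz'
        exact hpR (hz' ▸ r.2)
      · exact ⟨r, r.2, i, by rw [pow_one] at hz'; exact hz'.symm⟩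
    obtain ⟨r, hr, i, hq⟩ := form q hqP hqR
    set Dd : Subgroup G := P' ⊓ Q.R
    -- the intersection has index two
    have hD : 32 ≤ Nat.card Dd := by
      have key : ∀ p : P', (p : G) ∈ Q.R ∨ q⁻¹ * (p : G) ∈ Q.R := by
        intro p
        by_cases hp : (p : G) ∈ Q.R
        · exact Or.inl hp
        obtain ⟨r', hr', i', hp'⟩ := form p p.2 hp
        refine Or.inr ?_
        by_contra hne
        obtain ⟨r'', hr'', i'', he⟩ := form _ (mul_mem (inv_mem hqP) p.2) hne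
        have hpq : (p : G) = q * (r'' * Q.x ^ i'' * Q.u) := by rw [← he, mul_inv_cancel_left]
        -- two transpositions times a transposition
        have hconjR : ∀ n : ℕ, ∀ z ∈ Q.R, Q.x ^ n * Q.u * z * (Q.x ^ n * Q.u)⁻¹ ∈ Q.R := fun n z hz =>
          Q.R_conj _ ((Q.cxt.pow_left n).mul_left Q.cut) z hz
        have h3 : ∃ r₃ ∈ Q.R, ∃ n : ℕ, (p : G) = r₃ * Q.x ^ n := by
          refine ⟨r * (Q.x ^ i * Q.u * r'' * (Q.x ^ i * Q.u)⁻¹), mul_mem hr (hconjR i r'' hr''), i + 2 * i'', ?_⟩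
          have hu' : Q.u * Q.x ^ i'' * Q.u = Q.x ^ (2 * i'') := by
            rw [← inv_eq_of_orderOf_two Q.hu]
            nth_rw 1 [inv_eq_of_orderOf_two Q.hu]
            rw [← conj_pow, Q.u_x, pow_mul, show Q.x⁻¹ = Q.x ^ 2 from
              inv_eq_of_mul_eq_one_right (by rw [← pow_succ', hx3])]
          rw [hpq, hq, pow_add, ← hu', mul_inv_rev, inv_eq_of_orderOf_two Q.hu]
          have : (Q.x ^ i)⁻¹ * Q.x ^ i = 1 := inv_mul_cancel _
          calc r * Q.x ^ i * Q.u * (r'' * Q.x ^ i'' * Q.u)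
              = r * (Q.x ^ i * Q.u * r'' * (Q.u * ((Q.x ^ i)⁻¹ * Q.x ^ i) * Q.u)) * Q.x ^ i'' * Q.u := by
                rw [this, mul_one, huu]; group
            _ = _ := by group
        obtain ⟨r₃, hr₃, n, hp3⟩ := h3
        have h4 : (Q.x ^ n)⁻¹ * r₃⁻¹ * (r' * Q.x ^ i' * Q.u) = 1 := by
          rw [← hp', hp3]; group
        refine hxu (3 * n + (3 * n - n) + i' - 3 * n) ?_
        have h5 : Q.x ^ i' * Q.u = r'⁻¹ * r₃ * Q.x ^ n := by
          rw [mul_assoc r' , ← mul_assoc, mul_eq_one_iff_eq_inv] at h4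
          have e := hp3.symm.trans hp'
          rw [mul_assoc r'] at e
          rw [mul_assoc, ← e.symm, inv_mul_cancel_left]
        rw [show 3 * n + (3 * n - n) + i' - 3 * n = (3 * n - n) + i' by omega, pow_add, mul_assoc, h5,
          show Q.x ^ (3 * n - n) * (r'⁻¹ * r₃ * Q.x ^ n) =
            Q.x ^ (3 * n - n) * (r'⁻¹ * r₃) * (Q.x ^ (3 * n - n))⁻¹ * (Q.x ^ (3 * n - n) * Q.x ^ n) by group,
          ← pow_add, show 3 * n - n + n = 3 * n by omega, pow_mul, hx3, one_pow, mul_one]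
        exact Q.R_conj _ (Q.cxt.pow_left _) _ (mul_mem (inv_mem hr') hr₃)
      let f : P' → Dd ⊕ Dd := fun p =>
        if h : (p : G) ∈ Q.R then Sum.inl ⟨p, p.2, h⟩
        else Sum.inr ⟨q⁻¹ * p, P'.mul_mem (P'.inv_mem hqP) p.2, (key p).resolve_left h⟩
      have hf : Function.Injective f := by
        intro p p' h
        simp only [f] at h
        split_ifs at h with h1 h2 h2
        · exact Subtype.ext (congrArg (fun z : Dd => (z : G)) (Sum.inl.injEq _ _ ▸ h))
        · exact Subtype.ext (mul_left_cancel (congrArg (fun z : Dd => (z : G)) (Sum.inr.injEq _ _ ▸ h)))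
      have := Nat.card_le_card_of_injective f hf
      rw [Nat.card_sum, hP'card] at this
      omega
    set Dx := Dd.map (MulAut.conj Q.x).toMonoidHom
    have hDx : Dx ≤ Q.R := by
      rintro _ ⟨d, hd, rfl⟩
      exact Q.toCore.x_conj_R hd.2
    have hDxc : Nat.card Dx = Nat.card Dd := Subgroup.card_map_of_injective (MulAut.conj Q.x).injective
    set Z := Dd ⊓ Dx
    have hZ : 16 ≤ Nat.card Z := by
      have h1 : ∀ K : Subgroup G, K ≤ Q.R → 32 ≤ Nat.card K → (K.subgroupOf Q.R).index ≤ 2 := by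
        intro K hK hKc
        have := (K.subgroupOf Q.R).index_mul_card
        rw [Nat.card_congr (Subgroup.subgroupOfEquivOfLe hK).toEquiv, Q.card_R] at this
        by_contra hh
        have := Nat.mul_le_mul (Nat.le_of_not_le hh : 2 ≤ _) hKc
        nlinarith
      have h2 := Subgroup.index_inf_le (H := Dd.subgroupOf Q.R) (K := Dx.subgroupOf Q.R)
      have h3 : Dd.subgroupOf Q.R ⊓ Dx.subgroupOf Q.R = Z.subgroupOf Q.R := by ext z; rfl
      rw [h3] at h2
      have h4 := (Z.subgroupOf Q.R).index_mul_card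
      rw [Nat.card_congr (Subgroup.subgroupOfEquivOfLe (inf_le_right.trans hDx)).toEquiv, Q.card_R] at h4
      have := Nat.mul_le_mul (h1 Dd inf_le_right hD) (h1 Dx hDx (hDxc ▸ hD))
      nlinarith
    -- it is centralised by `x`
    have hcent : ∀ z ∈ Z, Commute Q.x z := by
      rintro z ⟨hz, d, hd, hdz⟩
      have hdz' : Q.x * d * Q.x⁻¹ = z := hdz
      have czq : Commute q z := hP'ab q hqP z hz.1
      have czq' : Commute (Q.x * q * Q.x⁻¹) z := hdz' ▸ commute_conj Q.x (hP'ab q hqP d hd.1)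
      have czR : ∀ w ∈ Q.R, Commute w z := fun w hw => hab w hw z hz.2
      have e : q * (Q.x * q * Q.x⁻¹)⁻¹ = r * Q.x * (Q.x * r * Q.x⁻¹)⁻¹ := by
        rw [hq, show Q.x * (r * Q.x ^ i * Q.u) * Q.x⁻¹ =
          Q.x * r * Q.x⁻¹ * (Q.x ^ i * (Q.x * Q.u * Q.x⁻¹)) by group,
          show Q.x * Q.u * Q.x⁻¹ = Q.x ^ 2 * Q.u by
            have hux := Q.u_x
            rw [mul_inv_eq_iff_eq_mul] at hux
            rw [pow_two, mul_assoc Q.x Q.x, mul_inv_eq_iff_eq_mul, mul_assoc Q.x, mul_assoc Q.x,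
              hux]
            group,
          mul_inv_rev, mul_inv_rev, mul_inv_rev, inv_eq_of_orderOf_two Q.hu]
        have e2 : (Q.x ^ 2)⁻¹ = Q.x := inv_eq_of_mul_eq_one_left (by rw [← pow_succ', hx3])
        calc r * Q.x ^ i * Q.u * (Q.u * (Q.x ^ 2)⁻¹ * (Q.x ^ i)⁻¹ * (Q.x * r * Q.x⁻¹)⁻¹)
            = r * Q.x ^ i * (Q.u * Q.u) * ((Q.x ^ 2)⁻¹ * (Q.x ^ i)⁻¹) * (Q.x * r * Q.x⁻¹)⁻¹ := by group
          _ = r * Q.x * (Q.x * r * Q.x⁻¹)⁻¹ := by
            rw [huu, e2, mul_one, ((Commute.refl Q.x).pow_right i).inv_right.eq, mul_assoc r, mul_inv_cancel_left]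
      have hcx : Commute (r⁻¹ * (q * (Q.x * q * Q.x⁻¹)⁻¹) * (Q.x * r * Q.x⁻¹)) z :=
        ((czR _ (inv_mem hr)).mul_left (czq.mul_left czq'.inv_left)).mul_left
          (czR _ (Q.toCore.x_conj_R hr))
      rw [e, show r⁻¹ * (r * Q.x * (Q.x * r * Q.x⁻¹)⁻¹) * (Q.x * r * Q.x⁻¹) = Q.x by group] at hcx
      exact hcx
    have hZE : Z ≤ Q.toCore.toFrame.E := fun z hz => Q.fix_R z hz.1.2 (hcent z hz)
    have := Subgroup.card_le_of_le hZE
    rw [Q.toCore.toFrame.card_E] at this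
    omega
  -- `g` normalises `R` and `A`
  have hgA : g ∈ Ng Q.A := mem_Ng_of_conj fun v hv => by
    rw [hΩA]
    exact ⟨hP'R ⟨v, Q.A_le_R hv, rfl⟩, by
      rw [show g * v * g⁻¹ * (g * v * g⁻¹) = g * (v * v) * g⁻¹ by group, Q.sq_A v hv, mul_one, mul_inv_cancel]⟩
  have := Q.short_mem hGN D ho (inv_mem hgA)
  rw [← hg, show g⁻¹ * (g * a * g⁻¹) * g⁻¹⁻¹ = a by group] at this
  exact haE this

/-- The elements of `R` commuting with an element of `A` outside the four-group lie in `A`. -/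
theorem mem_A_of_commute {a w : G} (ha : a ∈ Q.A) (haE : a ∉ Q.toCore.toFrame.E) (hw : w ∈ Q.R)
    (h : Commute w a) : w ∈ Q.A := by
  by_contra hwA
  exact Q.not_central hGN D ho (Q.central_of_commute hGN D (Q.W_eq_R hGN D ho) ha haE hw hwA h)

/-- The short case does not occur. -/
theorem false_of_short : False := by
  classical
  haveI := Fact.mk Nat.prime_two
  haveI := Fact.mk Nat.prime_three
  set E := Q.toCore.toFrame.E with hEdef
  have hP1 : Q.P 1 = E := Q.P_one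
  have huniq : ∀ {g h a : G}, a ≠ 1 → a ∈ Q.P g → a ∈ Q.P h → Q.P g = Q.P h :=
    fun ha hg hh => Q.P_unique hGN D ho ha hg hh
  have htP : ∀ g, g * Q.t * g⁻¹ ∈ Q.P g := fun g =>
    mem_conj.2 (by simpa [mul_assoc] using Q.toCore.toFrame.t_mem_E)
  have htP1 : ∀ g, g * Q.t * g⁻¹ ≠ 1 := fun g e => ne_one_of_orderOf_two Q.ht (conj_eq_one_iff.1 e)
  -- the lines in `A`
  have hgex : ∀ a : G, ∃ g : G, a ∈ Q.A → a ∉ E → g * Q.t * g⁻¹ = a := by
    intro a
    by_cases h : a ∈ Q.A ∧ a ∉ E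
    · have ha2 : orderOf a = 2 := orderOf_eq_prime (by rw [pow_two]; exact Q.sq_A a h.1)
        fun e => h.2 (e ▸ one_mem _)
      obtain ⟨g, hg⟩ := isConj_iff.1 (D.isConj hGN Q.ht ha2)
      exact ⟨g, fun _ _ => hg⟩
    · exact ⟨1, fun h1 h2 => absurd ⟨h1, h2⟩ h⟩
  choose γ hγ using hgex
  have hline : ∀ a ∈ Q.A, a ∉ E → a ∈ Q.P (γ a) ∧ Q.P (γ a) ≤ Q.A ∧ Q.P (γ a) ≠ E := by
    intro a ha haE
    have hmem : a ∈ Q.P (γ a) := by
      have h := htP (γ a); rwa [hγ a ha haE] at h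
    refine ⟨hmem, fun b hb => ?_, fun e => haE (e.le hmem)⟩
    refine Q.mem_A_of_commute hGN D ho ha haE (Q.P_le hGN D ho ha haE hmem b hb).1 ?_
    have h := commute_conj (γ a) (Q.toCore.toFrame.E_comm (mem_conj.1 hb) (mem_conj.1 hmem))
    simpa [mul_assoc] using h
  set J : Finset G := Finset.univ.filter fun a => a ∈ Q.A ∧ a ∉ E with hJdef
  have hcard : ∀ H : Subgroup G, (Finset.univ.filter fun a => a ∈ H).card = Nat.card H := fun H => by
    rw [← Fintype.card_subtype, ← Nat.card_eq_fintype_card]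
  have hJ : J.card = 12 := by
    have e : J = (Finset.univ.filter fun a => a ∈ Q.A) \ (Finset.univ.filter fun a => a ∈ E) := by
      ext a; simp [J]
    rw [e, Finset.card_sdiff_of_subset, hcard, hcard, Q.card_A, Q.toCore.toFrame.card_E]
    intro a ha
    simp only [Finset.mem_filter, Finset.mem_univ, true_and] at ha ⊢
    exact Q.E_le_A ha
  let ℓ : G → Subgroup G := fun a => Q.P (γ a)
  set Lam : Finset (Subgroup G) := J.image ℓ with hLamdef
  have hLam : ∀ L, L ∈ Lam ↔ ∃ g, L = Q.P g ∧ L ≤ Q.A ∧ L ≠ E := by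
    intro L
    simp only [Lam, Finset.mem_image, J, Finset.mem_filter, Finset.mem_univ, true_and]
    constructor
    · rintro ⟨a, ⟨ha, haE⟩, rfl⟩
      exact ⟨γ a, rfl, (hline a ha haE).2⟩
    · rintro ⟨g, rfl, hA, hE⟩
      have haE : g * Q.t * g⁻¹ ∉ E := fun h =>
        hE ((huniq (htP1 g) (htP g) (hP1.ge h)).trans hP1)
      exact ⟨_, ⟨hA (htP g), haE⟩, huniq (htP1 g) (hline _ (hA (htP g)) haE).1 (htP g)⟩
  have hdisj : ∀ L ∈ Lam, ∀ z ∈ L, z ∈ E → z = 1 := by
    intro L hL z hz hzE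
    obtain ⟨g, rfl, -, hne⟩ := (hLam L).1 hL
    by_contra h
    exact hne ((huniq h hz (hP1.ge hzE)).trans hP1)
  have hLam4 : Lam.card = 4 := by
    have h := Finset.card_eq_sum_card_image ℓ J
    rw [hJ, Finset.sum_congr rfl (g := fun _ => 3) fun L hL => ?_, Finset.sum_const, smul_eq_mul] at h
    · change 12 = Lam.card * 3 at h
      omega
    obtain ⟨g, rfl, hA, -⟩ := (hLam L).1 hL
    have e : J.filter (fun a => ℓ a = Q.P g) = (Finset.univ.filter fun a => a ∈ Q.P g).erase 1 := by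
      ext a
      simp only [J, Finset.mem_filter, Finset.mem_univ, true_and, Finset.mem_erase]
      constructor
      · rintro ⟨⟨ha, haE⟩, h⟩
        exact ⟨fun e => haE (e ▸ one_mem _), h.le (hline a ha haE).1⟩
      · rintro ⟨ha1, ha⟩
        have haE : a ∉ E := fun h => ha1 (hdisj _ hL a ha h)
        exact ⟨⟨hA ha, haE⟩, huniq ha1 (hline a (hA ha) haE).1 ha⟩
    rw [e, Finset.card_erase_of_mem, hcard, Q.card_P]
    exact Finset.mem_filter.2 ⟨Finset.mem_univ _, one_mem _⟩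
  -- two different lines generate `A`
  have hprod : ∀ L ∈ Lam, ∀ L' ∈ Lam, L ≠ L' →
      Function.Injective (fun z : L × L' => (z.1 : G) * z.2) ∧
        ∀ a ∈ Q.A, ∃ l ∈ L, ∃ l' ∈ L', l * l' = a := by
    intro L hL L' hL' hne
    obtain ⟨g, rfl, hA, -⟩ := (hLam L).1 hL
    obtain ⟨g', rfl, hA', -⟩ := (hLam L').1 hL'
    have hinj : Function.Injective (fun z : Q.P g × Q.P g' => (z.1 : G) * z.2) := by
      rintro ⟨a, b⟩ ⟨a', b'⟩ h
      have h' : ((a' : G))⁻¹ * a = b' * (b : G)⁻¹ := by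
        rw [eq_mul_inv_iff_mul_eq, mul_assoc, show (a : G) * b = a' * b' from h, inv_mul_cancel_left]
      have h1 : ((a' : G))⁻¹ * a = 1 := by
        by_contra hh
        exact hne (huniq hh (mul_mem (inv_mem a'.2) a.2) (by rw [h']; exact mul_mem b'.2 (inv_mem b.2)))
      have ha : a = a' := Subtype.ext (inv_mul_eq_one.1 h1).symm
      subst ha
      rw [Prod.mk.injEq]
      exact ⟨rfl, Subtype.ext (mul_left_cancel h)⟩
    refine ⟨hinj, fun a ha => ?_⟩
    let f : Q.P g × Q.P g' → Q.A := fun z => ⟨(z.1 : G) * z.2, mul_mem (hA z.1.2) (hA' z.2.2)⟩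
    have hf : Function.Bijective f := (Nat.bijective_iff_injective_and_card f).2
      ⟨fun z w h => hinj (congrArg Subtype.val h), by rw [Nat.card_prod, Q.card_P, Q.card_P, Q.card_A]⟩
    obtain ⟨⟨l, l'⟩, hll⟩ := hf.2 ⟨a, ha⟩
    exact ⟨l, l.2, l', l'.2, congrArg Subtype.val hll⟩
  -- conjugation of lines
  let cj : G → Subgroup G → Subgroup G := fun n L => L.map (MulAut.conj n).toMonoidHom
  have hcjmul : ∀ n m L, cj n (cj m L) = cj (n * m) L := fun n m L => map_conj_mul L n m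
  have hcj1 : ∀ L, cj 1 L = L := fun L => by ext z; simp [cj, mem_conj]
  have hcjinj : ∀ {n : G} {L L' : Subgroup G}, cj n L = cj n L' → L = L' := fun {n L L'} h => by
    have := congrArg (cj n⁻¹) h
    rwa [hcjmul, hcjmul, inv_mul_cancel, hcj1, hcj1] at this
  have hmap : ∀ {H : Subgroup G} {n : G}, n ∈ Ng H ↔ cj n H = H := by
    intro H n
    constructor
    · intro h
      ext z
      refine mem_conj.trans ?_
      have := Subgroup.mem_normalizer_iff.1 h (n⁻¹ * z * n)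
      rwa [show n * (n⁻¹ * z * n) * n⁻¹ = z by group] at this
    · intro h
      exact mem_Ng_of_conj fun a ha => h.le (mem_conj.2 (by simpa [mul_assoc] using ha))
  have hcjLam : ∀ n ∈ Ng Q.A, ∀ L ∈ Lam, cj n L ∈ Lam := by
    intro n hn L hL
    obtain ⟨g, rfl, hA, hne⟩ := (hLam L).1 hL
    refine (hLam _).2 ⟨n * g, Q.map_P g n, ?_, fun e => hne ?_⟩
    · rintro _ ⟨z, hz, rfl⟩
      exact conj_mem_of_mem_Ng hn (hA hz)
    · have h1 : cj n⁻¹ E = E := hmap.1 (inv_mem (Q.NA_le_NE hGN D ho hn))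
      rw [← e, hcjmul, inv_mul_cancel, hcj1] at h1
      exact h1.trans e
  have hxA : Q.x ∈ Ng Q.A := Q.Ct_le (mem_Cg.2 Q.cxt.eq)
  have hx3 := Q.toCore.toFrame.x_cubed
  -- `x` fixes exactly one line
  have hfixex : ∃ L ∈ Lam, cj Q.x L = L := by
    let f : Function.End {L // L ∈ Lam} := fun L => ⟨cj Q.x L, hcjLam _ hxA _ L.2⟩
    have hf : f ^ 3 ^ 1 = 1 := by
      funext L
      refine Subtype.ext ?_
      show cj Q.x (cj Q.x (cj Q.x L.1)) = L.1
      rw [hcjmul, hcjmul, show Q.x * Q.x * Q.x = 1 by rw [← hx3]; simp [pow_succ], hcj1]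
    have h := Equiv.Perm.card_fixedPoints_modEq hf
    rw [Fintype.card_coe, hLam4] at h
    have hpos : 0 < Fintype.card ↑(Function.fixedPoints f) := by
      by_contra hh
      rw [Nat.le_zero.1 (Nat.le_of_not_lt hh)] at h
      exact absurd h (by decide)
    obtain ⟨⟨⟨L, hL⟩, hfix⟩⟩ := Fintype.card_pos_iff.1 hpos
    exact ⟨L, hL, congrArg Subtype.val hfix⟩
  obtain ⟨E', hE', hxE'⟩ := hfixex
  have hxuniq : ∀ L ∈ Lam, cj Q.x L = L → L = E' := by
    intro L hL hxL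
    by_contra hne
    obtain ⟨hinj, hgen⟩ := hprod L hL E' hE' hne
    obtain ⟨l, hl, l', hl', hll⟩ := hgen Q.t (Q.E_le_A Q.toCore.toFrame.t_mem_E)
    have h1 : Q.x * l * Q.x⁻¹ ∈ L := hxL.le (mem_conj.2 (by simpa [mul_assoc] using hl))
    have h2 : Q.x * l' * Q.x⁻¹ ∈ E' := hxE'.le (mem_conj.2 (by simpa [mul_assoc] using hl'))
    have h3 := @hinj (⟨_, h1⟩, ⟨_, h2⟩) (⟨l, hl⟩, ⟨l', hl'⟩) (by
      show Q.x * l * Q.x⁻¹ * (Q.x * l' * Q.x⁻¹) = l * l'
      rw [show Q.x * l * Q.x⁻¹ * (Q.x * l' * Q.x⁻¹) = Q.x * (l * l') * Q.x⁻¹ by group, hll,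
        conj_eq_iff_commute.2 Q.cxt])
    have h4 : Q.x * l * Q.x⁻¹ = l := congrArg (fun z => (z.1 : G)) h3
    obtain ⟨g, rfl, hA, -⟩ := (hLam L).1 hL
    have hl1 : l = 1 := hdisj _ hL l hl (Q.fix_R l (Q.A_le_R (hA hl)) (conj_eq_iff_commute.1 h4))
    rw [hl1, one_mul] at hll
    exact ne_one_of_orderOf_two Q.ht (hdisj _ hE' _ (hll ▸ hl') Q.toCore.toFrame.t_mem_E)
  -- some element of `R` moves the fixed line
  obtain ⟨r, hr, hrE'⟩ : ∃ r ∈ Q.R, cj r E' ≠ E' := by
    by_contra hne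
    push Not at hne
    obtain ⟨g, rfl, hA, -⟩ := (hLam E').1 hE'
    have haE : g * Q.t * g⁻¹ ∉ E := fun h => htP1 g (hdisj _ hE' _ (htP g) h)
    have hRA : Q.R ≤ Q.A := fun r hr => by
      refine Q.mem_A_of_commute hGN D ho (hA (htP g)) haE hr (conj_eq_iff_commute.1 ?_)
      have h1 : r * (g * Q.t * g⁻¹) * r⁻¹ ∈ Q.P g :=
        (hne r hr).le (mem_conj.2 (by simpa [mul_assoc] using htP g))
      have h2 : br r (g * Q.t * g⁻¹) ∈ E :=
        Q.br_mem ((Q.W_eq_R hGN D ho).ge hr) (hA (htP g))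
      exact mul_inv_eq_one.1 (hdisj _ hE' _ (mul_mem h1 (inv_mem (htP g))) h2)
    have := Subgroup.card_le_of_le hRA
    rw [Q.card_R, Q.card_A] at this
    omega
  -- orbits of lines
  have horb : ∀ (H L : Subgroup G), Nat.card H =
      Nat.card {M : Subgroup G // ∃ h ∈ H, cj h L = M} * Nat.card (H ⊓ Ng L : Subgroup G) := by
    intro H L
    have hch : ∀ M : {M : Subgroup G // ∃ h ∈ H, cj h L = M}, ∃ h : H, cj h L = M := fun M =>
      ⟨⟨M.2.choose, M.2.choose_spec.1⟩, M.2.choose_spec.2⟩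
    choose c hc using hch
    rw [← Nat.card_prod]
    refine Nat.card_congr
      { toFun := fun h => (⟨cj h L, h, h.2, rfl⟩,
          ⟨((c ⟨cj h L, h, h.2, rfl⟩ : H) : G)⁻¹ * h, Subgroup.mem_inf.2 ⟨mul_mem (inv_mem (c _).2) h.2, hmap.2 (by
            rw [← hcjmul]
            exact (congrArg (cj _) (hc ⟨cj h L, h, h.2, rfl⟩)).symm.trans
              (by rw [hcjmul, inv_mul_cancel, hcj1]))⟩⟩)
        invFun := fun z => ⟨(c z.1 : G) * z.2, mul_mem (c z.1).2 (Subgroup.mem_inf.1 z.2.2).1⟩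
        left_inv := fun h => Subtype.ext (mul_inv_cancel_left _ _)
        right_inv := fun z => ?_ }
    obtain ⟨M, s, hsH, hsL⟩ := z
    have e : cj ((c M : G) * s) L = M := by rw [← hcjmul, hmap.1 hsL, hc]
    refine Prod.ext (Subtype.ext e) (Subtype.ext ?_)
    show ((c ⟨cj ((c M : G) * s) L, _⟩ : H) : G)⁻¹ * ((c M : G) * s) = s
    rw [show (⟨cj ((c M : G) * s) L, _⟩ : {M : Subgroup G // ∃ h ∈ H, cj h L = M}) = M from Subtype.ext e,
      inv_mul_cancel_left]
  have hNg : ∀ g, Nat.card (Ng (Q.P g)) = 1152 := by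
    intro g
    have h1 : Nat.card (Ng E) = 1152 := by
      rw [← Q.NA_eq_NE hGN D ho, Q.card_normalizer hGN D, ho]
    rw [← h1]
    have key : ∀ n, n ∈ Ng E ↔ g * n * g⁻¹ ∈ Ng (Q.P g) := fun n => by
      rw [hmap, hmap]
      show _ ↔ cj (g * n * g⁻¹) (cj g E) = cj g E
      rw [hcjmul, inv_mul_cancel_right, ← hcjmul]
      exact ⟨fun h => by rw [h], fun h => hcjinj h⟩
    let toF : Ng E → Ng (Q.P g) := fun n => ⟨g * (n : G) * g⁻¹, (key n).1 n.2⟩
    let invF : Ng (Q.P g) → Ng E := fun n => ⟨g⁻¹ * (n : G) * g, (key (g⁻¹ * (n : G) * g)).2 (by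
          rw [show g * (g⁻¹ * (n : G) * g) * g⁻¹ = (n : G) by group]; exact n.2)⟩
    refine (Nat.card_congr
      { toFun := toF
        invFun := invF
        left_inv := fun n => Subtype.ext (by show g⁻¹ * (g * (n : G) * g⁻¹) * g = n; group)
        right_inv := fun n => Subtype.ext (by show g * (g⁻¹ * (n : G) * g) * g⁻¹ = n; group) }).symm
  have hRN : r ∈ Ng Q.A := Q.Ct_le (Q.R_le hr)
  have hmoved : cj Q.x (cj r E') ≠ cj r E' := fun h => hrE' (hxuniq _ (hcjLam _ hRN _ hE') h)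
  -- the stabiliser of the fixed line
  set K : Subgroup G := Ng E ⊓ Ng E' with hK
  have hKcard : Nat.card K * 4 ≤ 1152 := by
    have h1 := horb (Ng E) E'
    have h2 : Nat.card (Ng E) = 1152 := by rw [← hP1]; exact hNg 1
    rw [h2] at h1
    set X := {M : Subgroup G // ∃ h ∈ Ng E, cj h E' = M}
    have hNA := Q.NA_eq_NE hGN D ho
    set L₁ := cj r E'
    have hxE : ∀ {M}, cj Q.x M = E' → M = E' := fun {M} h => by
      have := congrArg (cj Q.x⁻¹) h
      rw [hcjmul, inv_mul_cancel, hcj1] at this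
      rw [this]
      nth_rw 1 [← hxE']
      rw [hcjmul, inv_mul_cancel, hcj1]
    have hxne : cj Q.x (cj Q.x L₁) ≠ L₁ := fun h => hmoved (by
      calc cj Q.x L₁ = cj Q.x (cj Q.x (cj Q.x L₁)) := by rw [h]
        _ = L₁ := by
          rw [hcjmul, hcjmul, show Q.x * Q.x * Q.x = 1 by rw [← hx3]; simp [pow_succ], hcj1])
    have hmem : ∀ n ∈ Ng Q.A, ∃ h ∈ Ng E, cj h E' = cj n E' := fun n hn => ⟨n, hNA.le hn, rfl⟩
    let v : Fin 4 → X := ![⟨E', 1, one_mem _, hcj1 _⟩, ⟨L₁, hmem r hRN⟩,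
      ⟨cj Q.x L₁, by rw [hcjmul]; exact hmem _ (mul_mem hxA hRN)⟩,
      ⟨cj Q.x (cj Q.x L₁), by rw [hcjmul, hcjmul]; exact hmem _ (mul_mem (mul_mem hxA hxA) hRN)⟩]
    have hv : Function.Injective v := by
      have a1 : L₁ ≠ E' := hrE'
      have a2 : cj Q.x L₁ ≠ E' := fun h => a1 (hxE h)
      have a3 : cj Q.x (cj Q.x L₁) ≠ E' := fun h => a2 (hxE h)
      have a5 : cj Q.x (cj Q.x L₁) ≠ cj Q.x L₁ := fun h => hmoved (hcjinj h)
      intro i j h
      have h' := congrArg Subtype.val h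
      fin_cases i <;> fin_cases j <;> first
        | rfl
        | exact absurd h' a1 | exact absurd h' a1.symm | exact absurd h' a2 | exact absurd h' a2.symm
        | exact absurd h' a3 | exact absurd h' a3.symm | exact absurd h' hmoved | exact absurd h' hmoved.symm
        | exact absurd h' hxne | exact absurd h' hxne.symm | exact absurd h' a5 | exact absurd h' a5.symm
    have h4 := Nat.card_le_card_of_injective v hv
    rw [Nat.card_fin] at h4
    calc Nat.card K * 4 ≤ Nat.card K * Nat.card X := Nat.mul_le_mul_left _ h4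
      _ = 1152 := by rw [mul_comm, ← h1]
  set E'' := cj r E' with hE''def
  have hE'' : E'' ∈ Lam := hcjLam _ hRN _ hE'
  set S : Subgroup G := Ng E' ⊓ Ng E'' with hS
  have hSA : S ≤ Ng Q.A := fun n hn => mem_Ng_of_conj fun a ha => by
    obtain ⟨l, hl, l', hl', rfl⟩ := (hprod E' hE' E'' hE'' (Ne.symm hrE')).2 a ha
    obtain ⟨g1, e1, hA1, -⟩ := (hLam E').1 hE'
    obtain ⟨g2, e2, hA2, -⟩ := (hLam E'').1 hE''
    rw [show n * (l * l') * n⁻¹ = n * l * n⁻¹ * (n * l' * n⁻¹) by group]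
    exact mul_mem (hA1 (conj_mem_of_mem_Ng hn.1 hl)) (hA2 (conj_mem_of_mem_Ng hn.2 hl'))
  have hSK : S ≤ K := fun n hn => ⟨Q.NA_le_NE hGN D ho (hSA hn), hn.1⟩
  have hxK : Q.x ∈ K := ⟨Q.NA_le_NE hGN D ho hxA, hmap.2 hxE'⟩
  have hScard : Nat.card S * 3 ≤ Nat.card K := by
    have h1 := (S.subgroupOf K).index_mul_card
    rw [Nat.card_congr (Subgroup.subgroupOfEquivOfLe hSK).toEquiv] at h1
    have hxS : (⟨Q.x, hxK⟩ : K) ∉ S.subgroupOf K := fun h => hmoved (hmap.1 (Subgroup.mem_subgroupOf.1 h).2)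
    have h0 : (S.subgroupOf K).index ≠ 0 := Subgroup.index_ne_zero_of_finite
    have hne1 : (S.subgroupOf K).index ≠ 1 := fun h => hxS (by rw [Subgroup.index_eq_one.1 h]; trivial)
    have hne2 : (S.subgroupOf K).index ≠ 2 := fun h => hxS (by
      have h2 := Subgroup.sq_mem_of_index_two h (⟨Q.x, hxK⟩ * ⟨Q.x, hxK⟩ : K)
      have e : ((⟨Q.x, hxK⟩ * ⟨Q.x, hxK⟩ : K) ^ 2) = ⟨Q.x, hxK⟩ := Subtype.ext (by
        show (Q.x * Q.x) ^ 2 = Q.x
        rw [← pow_two Q.x, ← pow_mul, show 2 * 2 = 3 + 1 from rfl, pow_succ, hx3, one_mul])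
      rwa [e] at h2)
    calc Nat.card S * 3 ≤ Nat.card S * (S.subgroupOf K).index := Nat.mul_le_mul_left _ (by omega)
      _ = Nat.card K := by rw [mul_comm, h1]
  -- at least twelve lines centralise the fixed one
  obtain ⟨g', hg', hg'A, -⟩ := (hLam E').1 hE'
  obtain ⟨g'', hg'', hg''A, -⟩ := (hLam E'').1 hE''
  set Y := {M : Subgroup G // ∃ h ∈ Ng E', cj h E'' = M}
  have hY : 12 ≤ Nat.card Y := by
    have h1 := horb (Ng E') E''
    have h2 : Nat.card (Ng E') = 1152 := by rw [hg']; exact hNg g'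
    rw [h2] at h1
    change 1152 = Nat.card Y * Nat.card S at h1
    nlinarith [Nat.card_pos (α := S)]
  -- the involutions of `R` outside the four-group
  set I : Finset G := Finset.univ.filter fun a => a ∈ Q.R ∧ a ∉ E ∧ a * a = 1 with hIdef
  have hI : I.card ≤ 24 := by
    have h1 : (I.filter fun a => a ∈ Q.A).card ≤ 12 := by
      rw [← hJ]
      refine Finset.card_le_card fun a ha => ?_
      simp only [I, J, Finset.mem_filter, Finset.mem_univ, true_and] at ha ⊢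
      exact ⟨ha.2, ha.1.2.1⟩
    set I' := I.filter fun a => a ∉ Q.A with hI'
    set A' : Subgroup Q.R := Q.A.subgroupOf Q.R
    let q : G → Q.R ⧸ A' := fun a => if h : a ∈ Q.R then ((⟨a, h⟩ : Q.R) : Q.R ⧸ A') else ((1 : Q.R) : Q.R ⧸ A')
    have h4 : Fintype.card (Q.R ⧸ A') = 4 := by
      have := A'.index_mul_card
      rw [Nat.card_congr (Subgroup.subgroupOfEquivOfLe Q.A_le_R).toEquiv, Q.card_A, Q.card_R,
        Subgroup.index_eq_card, Nat.card_eq_fintype_card] at this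
      omega
    have himg : (I'.image q).card ≤ 3 := by
      have hsub : I'.image q ⊆ Finset.univ.erase ((1 : Q.R) : Q.R ⧸ A') := by
        intro c hc
        obtain ⟨a, ha, rfl⟩ := Finset.mem_image.1 hc
        simp only [I', I, Finset.mem_filter, Finset.mem_univ, true_and] at ha
        refine Finset.mem_erase.2 ⟨fun h => ha.2 ?_, Finset.mem_univ _⟩
        simp only [q, dif_pos ha.1.1] at h
        have h' := QuotientGroup.eq.1 h.symm
        rw [inv_one, one_mul] at h'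
        exact Subgroup.mem_subgroupOf.1 h'
      have := Finset.card_le_card hsub
      rw [Finset.card_erase_of_mem (Finset.mem_univ _), Finset.card_univ, h4] at this
      exact this
    have hfib : ∀ c ∈ I'.image q, (I'.filter fun a => q a = c).card ≤ 4 := by
      intro c hc
      obtain ⟨w, hw, rfl⟩ := Finset.mem_image.1 hc
      simp only [I', I, Finset.mem_filter, Finset.mem_univ, true_and] at hw
      have h4E : (Finset.univ.filter fun a => a ∈ E).card = 4 := by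
        rw [hcard]; exact Q.toCore.toFrame.card_E
      rw [← h4E]
      refine Finset.card_le_card_of_injOn (fun a => w⁻¹ * a) (fun a ha => ?_) fun a _ b _ h => mul_left_cancel h
      simp only [I', I, Finset.mem_filter, Finset.mem_univ, true_and, Finset.coe_filter, Set.mem_ofPred_eq] at ha ⊢
      obtain ⟨⟨⟨haR, -, ha2⟩, haA⟩, haq⟩ := ha
      simp only [q, dif_pos haR, dif_pos hw.1.1] at haq
      have hd : w⁻¹ * a ∈ Q.A := Subgroup.mem_subgroupOf.1 (QuotientGroup.eq.1 haq.symm)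
      by_contra hdE
      refine hw.2 (Q.mem_A_of_commute hGN D ho hd hdE hw.1.1 ?_)
      have d2 := Q.sq_A _ hd
      have winv : w⁻¹ = w := inv_eq_of_mul_eq_one_right hw.1.2.2
      rw [winv] at d2 ⊢
      refine mul_left_cancel (a := w) (mul_right_cancel (b := a) ?_)
      calc w * (w * (w * a)) * a = w * w * (w * (a * a)) := by group
        _ = w := by rw [hw.1.2.2, ha2, one_mul, mul_one]
        _ = w * (w * a * (w * a)) := by rw [d2, mul_one]
        _ = w * (w * a * w) * a := by group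
    have h2 : I'.card ≤ 4 * (I'.image q).card := Finset.card_le_mul_card_image _ 4 hfib
    have h3 := Finset.card_filter_add_card_filter_not (s := I) (fun a => a ∈ Q.A)
    change _ + I'.card = _ at h3
    omega
  -- transport
  have hmemI : ∀ M : Y, ∀ z ∈ cj g'⁻¹ M.1, z ≠ 1 → z ∈ I := by
    rintro ⟨M, h, hh, rfl⟩ z hz hz1
    have e : cj g'⁻¹ (cj h E'') = Q.P (g'⁻¹ * h * g'') := by
      rw [hcjmul, hg'']; exact Q.map_P g'' _
    have hzP : z ∈ Q.P (g'⁻¹ * h * g'') := e.le hz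
    have hz2 : z * z = 1 := by
      set k := g'⁻¹ * h * g''
      have := Q.toCore.toFrame.sq_mem_E (mem_conj.1 hzP)
      have := congrArg (fun w => k * w * k⁻¹) this
      simpa [mul_assoc] using this
    have hzc : ∀ e ∈ E, Commute z e := by
      intro e0 he0
      have h1 : g' * e0 * g'⁻¹ ∈ E' := hg'.ge (mem_conj.2 (by simpa [mul_assoc] using he0))
      have h2 : h⁻¹ * (g' * z * g'⁻¹) * h ∈ E'' := by
        have := mem_conj.1 (mem_conj.1 hz)
        simpa [mul_assoc] using this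
      have h3 : h⁻¹ * (g' * e0 * g'⁻¹) * h ∈ E' := by
        have := conj_mem_of_mem_Ng (inv_mem hh) h1
        rwa [inv_inv] at this
      have h4 := commute_conj (g'⁻¹ * h) (Q.comm_A _ (hg''A h2) _ (hg'A h3))
      simpa [mul_assoc] using h4
    have hzE : z ∉ E := by
      intro hzE
      have e1 : Q.P (g'⁻¹ * h * g'') = E := (huniq hz1 hzP (hP1.ge hzE)).trans hP1
      refine hrE' ?_
      have e2 := congrArg (cj g') (e.trans e1)
      have e3 : cj g' E = E' := hg'.symm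
      rw [hcjmul, mul_inv_cancel, hcj1, e3] at e2
      have e4 := congrArg (cj h⁻¹) e2
      rwa [hcjmul, inv_mul_cancel, hcj1, hmap.1 (inv_mem hh)] at e4
    have hzR := (Q.toCore.two_mem_W hGN D (g := z) (k := 1) (Q.toCore.toFrame.mem_CE.2
      ⟨hzc _ Q.toCore.toFrame.t_mem_E, hzc _ Q.toCore.toFrame.s_mem_E⟩) (by rw [pow_one, pow_two]; exact hz2)).1
    exact Finset.mem_filter.2 ⟨Finset.mem_univ _, hzR, hzE, hz2⟩
  have hP_cj : ∀ M : Y, ∃ k, cj g'⁻¹ M.1 = Q.P k := by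
    rintro ⟨M, h, hh, rfl⟩
    exact ⟨g'⁻¹ * h * g'', by rw [hcjmul, hg'']; exact Q.map_P g'' _⟩
  choose k hk using hP_cj
  let f : Y × {z : E // z ≠ 1} → I := fun p => ⟨k p.1 * p.2.1 * (k p.1)⁻¹, hmemI p.1 _
    (by rw [hk]; exact mem_conj.2 (by simpa [mul_assoc] using p.2.1.2))
    (fun h => p.2.2 (Subtype.ext (conj_eq_one_iff.1 h)))⟩
  have hf : Function.Injective f := by
    rintro ⟨M, z⟩ ⟨M', z'⟩ h
    have hz : k M * z.1 * (k M)⁻¹ = k M' * z'.1 * (k M')⁻¹ := congrArg Subtype.val h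
    have hmemk : ∀ (M : Y) (z : E), k M * z * (k M)⁻¹ ∈ Q.P (k M) := fun M z =>
      mem_conj.2 (by simpa [mul_assoc] using z.2)
    have e := huniq (fun h1 => z.2 (Subtype.ext (conj_eq_one_iff.1 h1))) (hmemk M z.1) (hz ▸ hmemk M' z'.1)
    rw [← hk, ← hk] at e
    have eM : M = M' := by
      have := congrArg (cj g') e
      rw [hcjmul, hcjmul, mul_inv_cancel, hcj1, hcj1] at this
      exact Subtype.ext this
    subst eM
    rw [Prod.mk.injEq]
    exact ⟨rfl, Subtype.ext (Subtype.ext (conj_injective _ hz))⟩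
  have h36 := Nat.card_le_card_of_injective f hf
  have h3 : Nat.card {z : E // z ≠ 1} = 3 := by
    rw [Nat.card_eq_fintype_card, Fintype.card_subtype_compl, Fintype.card_subtype_eq,
      ← Nat.card_eq_fintype_card, Q.toCore.toFrame.card_E]
  rw [Nat.card_prod, h3, Nat.card_eq_fintype_card (α := I), Fintype.card_coe] at h36
  omega

end Short

/-- **The normaliser of `A` is transitive on its involutions.** -/
theorem card_NA : Nat.card (Ng Q.A) = 5760 := by
  rw [Q.card_normalizer hGN D]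
  rcases Q.orbit_card hGN D with h | h
  · exact (Q.false_of_short hGN D h).elim
  · rw [h]

/-- Every involution of `A` is conjugate to `t` under the normaliser. -/
theorem exists_conj_A {a : G} (ha : a ∈ Q.A) (ha1 : a ≠ 1) : ∃ n ∈ Ng Q.A, n * Q.t * n⁻¹ = a := by
  classical
  set O := {a : G // ∃ n ∈ Ng Q.A, n * Q.t * n⁻¹ = a}
  have hO : Nat.card O = 15 := by
    have h := Q.card_NA hGN D
    rw [Q.card_normalizer hGN D] at h
    change 384 * Nat.card O = _ at h
    omega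
  let f : O → {a : Q.A // a ≠ 1} := fun z => ⟨⟨z.1, by
      obtain ⟨n, hn, hna⟩ := z.2
      rw [← hna]; exact conj_mem_of_mem_Ng hn (Q.E_le_A Q.toCore.toFrame.t_mem_E)⟩, fun e => by
      obtain ⟨n, hn, hna⟩ := z.2
      exact ne_one_of_orderOf_two Q.ht (conj_eq_one_iff.1 (hna.trans (congrArg Subtype.val e)))⟩
  have hf : Function.Bijective f := (Nat.bijective_iff_injective_and_card f).2
    ⟨fun z w h => Subtype.ext (congrArg (fun v : {a : Q.A // a ≠ 1} => (v.1 : G)) h), by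
      rw [hO, Nat.card_eq_fintype_card, Fintype.card_subtype_compl, Fintype.card_subtype_eq,
        ← Nat.card_eq_fintype_card, Q.card_A]⟩
  obtain ⟨⟨b, hb⟩, hbz⟩ := hf.2 ⟨⟨a, ha⟩, fun e => ha1 (congrArg Subtype.val e)⟩
  have : b = a := congrArg (fun v : {a : Q.A // a ≠ 1} => (v.1 : G)) hbz
  exact this ▸ hb

end Quad

end CfsgLib.MTwentyTwoUnique
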