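import Cfsg.Agent.MTwentyTwoUnique.Eleven
import Cfsg.Agent.MTwentyTwoUnique.Data
import Cfsg.Agent.BrauerOrderP.BlockSum

/-!
Soundness of the joint search for the blocks for 11, 7 and 5: counting by degrees, values at an
involution, norms and the class equations.
-/

set_option autoImplicit false
set_option linter.style.haveILetI false
set_option linter.unusedSectionVars false

namespace CfsgLib.MTwentyTwoUnique

open Cfsg CfsgLib.Characters CfsgLib.DefectOne CfsgLib.BrauerOrderP
open CfsgLib.Small.Check (Item)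
open CfsgLib.MElevenUnique (Cg mem_Cg)
open scoped ComplexConjugate

theorem look_eq {t : List Item} {W : List (ℕ × List (List ℤ × ℤ))}
    (h : (W.all fun c => vals 443520 c.1 t == c.2) = true) (C : ℕ) : look t W C = vals 443520 C t := by
  induction W with
  | nil => rfl
  | cons c W ih =>
    simp only [List.all_cons, Bool.and_eq_true, beq_iff_eq] at h
    rw [look]
    split_ifs with hc
    · rw [← h.1, of_decide_eq_true hc]
    · exact ih h.2

theorem mem_cvals {md d idx C : ℕ} {v : ℤ} (h1 : -(d : ℤ) < v) (h2 : v < d)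
    (hB : v.natAbs ≤ bnd C) (hi : (d : ℤ) ∣ (idx : ℤ) * v) (hm : (md : ℤ) ∣ (d : ℤ) - v) :
    v ∈ cvals md d idx C := by
  have hd : 0 < d := by omega
  set s := d / Nat.gcd d idx with hs
  have hs0 : 0 < s := Nat.div_pos (Nat.gcd_le_left _ hd) (Nat.gcd_pos_of_pos_left _ hd)
  have hdvd : s ∣ v.natAbs := by
    have h3 : d ∣ idx * v.natAbs := by
      have := Int.natAbs_dvd_natAbs.2 hi
      rwa [Int.natAbs_mul, Int.natAbs_natCast, Int.natAbs_natCast] at this
    obtain ⟨m', n', hco, hdm, hidx⟩ := Nat.exists_coprime d idx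
    set g := Nat.gcd d idx
    have hg : 0 < g := Nat.gcd_pos_of_pos_left _ hd
    have hsd : s = m' := by rw [hs]; exact Nat.div_eq_of_eq_mul_left hg hdm
    rw [hdm, hidx, mul_assoc, mul_comm g v.natAbs, ← mul_assoc] at h3
    rw [hsd]
    exact hco.dvd_of_dvd_mul_left (Nat.dvd_of_mul_dvd_mul_right hg h3)
  obtain ⟨j, hj⟩ := hdvd
  set J := min (d - 1) (bnd C) / s with hJ
  have hjJ : j ≤ J := (Nat.le_div_iff_mul_le hs0).2 (by rw [mul_comm, ← hj]; omega)
  simp only [cvals, ← hs, ← hJ, List.mem_filter, List.mem_map, List.mem_range, decide_eq_true_eq]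
  refine ⟨?_, Int.emod_eq_zero_of_dvd hm⟩
  rcases le_total 0 v with hv | hv
  · refine ⟨J + j, by omega, ?_⟩
    rw [Nat.cast_add, show ((J : ℤ) + j - J) = j by ring, ← Nat.cast_mul, ← hj]
    omega
  · refine ⟨J - j, by omega, ?_⟩
    rw [Nat.cast_sub hjJ, show ((J : ℤ) - j - J) = -(j : ℤ) by ring, mul_neg, ← Nat.cast_mul, ← hj]
    omega

theorem natAbs_le_bnd {C : ℕ} {v : ℤ} (h : v * v < C) (hC : C ≤ 40320) : v.natAbs ≤ bnd C := by
  have h1 : ((v.natAbs * v.natAbs : ℕ) : ℤ) < C := by
    rw [Nat.cast_mul, Int.natAbs_mul_self']; exact h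
  have h2 : v.natAbs * v.natAbs < C := by exact_mod_cast h1
  have key : ∀ b, C ≤ b * b → v.natAbs ≤ b := fun b hb => by
    by_contra hh
    have := Nat.mul_le_mul (Nat.le_of_not_le hh) (Nat.le_of_not_le hh)
    omega
  unfold bnd
  split_ifs <;> exact key _ (by omega)

theorem valsRec_mem {α : Type*} (GN : ℕ) (f : α → Item) (cand : Item → List ℤ) (v : α → ℤ) :
    ∀ (l : List α) (A R q : ℤ),
      (∀ a ∈ l, v a ∈ cand (f a)) →
      A + (l.map fun a => (f a).1 * v a).sum = 0 →
      R + (l.map fun a => (f a).1 * (v a * v a) * ((GN / (f a).2.2 : ℕ) : ℤ)).sum = 0 →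
      (l.map fun a => ((f a).2.1 : ℤ) * (v a * v a)).sum ≤ q →
      (l.map v, q - (l.map fun a => ((f a).2.1 : ℤ) * (v a * v a)).sum) ∈
        valsRec GN (cells cand (l.map f)) A R q
  | [], A, R, q, _, hA, hR, _ => by
    simp only [List.map_nil, List.sum_nil, add_zero] at hA hR
    simp [valsRec, cells, hA, hR]
  | a :: l, A, R, q, hmem, hA, hR, hq => by
    have hnn : 0 ≤ (l.map fun a => ((f a).2.1 : ℤ) * (v a * v a)).sum := List.sum_nonneg fun x hx => by
      obtain ⟨b, -, rfl⟩ := List.mem_map.1 hx
      exact mul_nonneg (Int.natCast_nonneg _) (mul_self_nonneg _)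
    simp only [List.map_cons, List.sum_cons] at hA hR hq
    set m := (f a).2.1
    set d := (f a).2.2
    set co := (f a).1
    have hf : f a = (co, m, d) := rfl
    have hreach : ∀ (l : List α), (∀ b ∈ l, v b ∈ cand (f b)) →
        ((l.map fun b => (f b).1 * v b).sum).natAbs ≤
          (match cells cand (l.map f) with | [] => 0 | c :: _ => c.2.2) := by
      intro l
      induction l with
      | nil => intro _; simp [cells]
      | cons b l ih =>
        intro hl
        have h1 := ih fun c hc => hl c (List.mem_cons_of_mem _ hc)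
        have h2 : (v b).natAbs ≤ maxAbs (cand (f b)) := by
          have hv := hl b List.mem_cons_self
          revert hv
          generalize cand (f b) = c
          intro hv
          induction c with
          | nil => simp at hv
          | cons x c ihc =>
            simp only [maxAbs, List.foldr_cons] at ihc ⊢
            rcases List.mem_cons.1 hv with e | e
            · rw [e]; exact le_max_left _ _
            · exact (ihc e).trans (le_max_right _ _)
        simp only [List.map_cons, List.sum_cons, cells]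
        refine (Int.natAbs_add_le _ _).trans (Nat.add_le_add ?_ h1)
        rw [Int.natAbs_mul]
        exact Nat.mul_le_mul_left _ h2
    have hr := hreach (a :: l) hmem
    simp only [List.map_cons, List.sum_cons, cells, hf] at hr
    rw [List.map_cons, List.map_cons, hf]
    simp only [cells, valsRec]
    have hAabs : A.natAbs = (co * v a + (l.map fun b => (f b).1 * v b).sum).natAbs := by omega
    rw [if_pos (Nat.ble_eq_true_of_le (hAabs ▸ hr)), List.mem_flatMap]
    have hcand := hmem a List.mem_cons_self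
    rw [hf] at hcand
    refine ⟨v a, hcand, ?_⟩
    rw [if_pos (decide_eq_true (by linarith))]
    refine List.mem_map.2 ⟨_, valsRec_mem GN f cand v l _ _ (q - (m : ℤ) * (v a * v a))
      (fun b hb => hmem b (List.mem_cons_of_mem _ hb)) (by linarith) (by linarith) (by linarith), ?_⟩
    refine Prod.ext rfl ?_
    simp only [List.map_cons, List.sum_cons]
    ring

theorem feasRec_true {α : Type*} (ok : ℤ → Bool) (f : α → Item) (cand : Item → List ℤ) (v : α → ℤ) :
    ∀ (l : List α) (A R q : ℤ),
      (∀ a ∈ l, v a ∈ cand (f a)) →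
      A + (l.map fun a => (f a).1 * v a).sum = 0 →
      ok (R + (l.map fun a => (f a).1 * (v a * v a) * ((443520 / (f a).2.2 : ℕ) : ℤ)).sum) = true →
      (l.map fun a => if (f a).2.2 % 11 = 0 then ((f a).2.1 : ℤ) * (v a * v a) else 0).sum ≤ q →
      feasRec ok ((l.map f).map fun x => (x, cand x)) A R q = true
  | [], A, R, q, _, hA, hok, _ => by
    simp only [List.map_nil, List.sum_nil, add_zero] at hA hok
    simp [feasRec, hA, hok]
  | a :: l, A, R, q, hmem, hA, hok, hq => by
    have hnn : 0 ≤ (l.map fun a =>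
        if (f a).2.2 % 11 = 0 then ((f a).2.1 : ℤ) * (v a * v a) else 0).sum :=
      List.sum_nonneg fun x hx => by
        obtain ⟨b, -, rfl⟩ := List.mem_map.1 hx
        split_ifs
        · exact mul_nonneg (Int.natCast_nonneg _) (mul_self_nonneg _)
        · exact le_rfl
    simp only [List.map_cons, List.sum_cons] at hA hok hq
    rw [List.map_cons, List.map_cons]
    have hcand := hmem a List.mem_cons_self
    set x := f a
    obtain ⟨co, m, d⟩ := x
    rw [feasRec, List.any_eq_true]
    refine ⟨v a, hcand, ?_⟩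
    have hrec : ∀ q', (l.map fun a =>
          if (f a).2.2 % 11 = 0 then ((f a).2.1 : ℤ) * (v a * v a) else 0).sum ≤ q' →
        feasRec ok ((l.map f).map fun x => (x, cand x)) (A + co * v a)
          (R + co * (v a * v a) * ((443520 / d : ℕ) : ℤ)) q' = true := fun q' h =>
      feasRec_true ok f cand v l _ _ q' (fun b hb => hmem b (List.mem_cons_of_mem _ hb))
        (by dsimp only at hA ⊢; linarith) (by dsimp only at hok; rwa [add_assoc]) h
    dsimp only at hq
    by_cases hd : d % 11 = 0
    · rw [if_pos hd] at hq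
      rw [if_pos (decide_eq_true hd)]
      simp only [Bool.and_eq_true, decide_eq_true_eq]
      exact ⟨by linarith, hrec _ (by linarith)⟩
    · rw [if_neg hd, zero_add] at hq
      rw [if_neg (by simpa using hd)]
      exact hrec _ hq

universe u

variable {G : Type u} [Group G] [Fintype G] [IsSimpleGroup G] (hGN : Nat.card G = 443520)
include hGN

theorem sum_deg_sq : ∑ χ : IrrCharacter G, deg χ * deg χ = 443520 := by
  have h := sum_degree_sq (G := G)
  simp only [apply_one, hGN] at h
  have e : ((∑ χ : IrrCharacter G, deg χ * deg χ : ℕ) : ℂ) = ((443520 : ℕ) : ℂ) := by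
    push_cast at h ⊢
    rw [← h]
    exact Finset.sum_congr rfl fun χ _ => (sq _).symm
  exact_mod_cast e

theorem sum_val_sq {t : G} (ht : orderOf t = 2) :
    ∑ χ : IrrCharacter G, val χ t * val χ t = (Nat.card (Cg t) : ℤ) := by
  have h := sum_irr_mul_conj_of_isConj (IsConj.refl t)
  simp only [fun χ => (val_spec (not_comm hGN) χ ht).1, map_intCast] at h
  exact_mod_cast h

/-- The trivial character takes the value one. -/
theorem val_one {p : ℕ} [Fact p.Prime] {L : Local p G} (B : Block L) (t : G) : val B.one t = 1 :=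
  val_of_eq (by rw [B.one_eq, Int.cast_one])

variable {p : ℕ} [Fact p.Prime] {L : Local p G}

omit hGN [IsSimpleGroup G] in
open Classical in
/-- The number of characters of a degree in the block. -/
theorem Block.cntD_eq (B : Block L) {l : List (IrrCharacter G)} (hl : l.Perm B.reps) (d : ℕ) :
    cntD (l.map B.item) d = (B.chars.filter fun χ => deg χ = d).card := by
  have h := B.sum_int (fun χ => if deg χ = d then 1 else 0) fun χ χ' hh => by simp only [hh.1]
  rw [Finset.sum_boole, ← (hl.map _).sum_eq] at h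
  apply Int.natCast_inj.1
  rw [h, cntD, List.filter_map, List.map_map]
  clear h hl
  induction l with
  | nil => simp
  | cons r l ih =>
    by_cases hd : deg r = d
    · rw [List.map_cons, List.sum_cons,
        List.filter_cons_of_pos (p := (fun x : Item => decide (x.2.2 = d)) ∘ B.item) (a := r)
          (decide_eq_true hd),
        List.map_cons, List.sum_cons, Nat.cast_add, ih, if_pos hd, mul_one]
      rfl
    · rw [List.map_cons, List.sum_cons,
        List.filter_cons_of_neg (p := (fun x : Item => decide (x.2.2 = d)) ∘ B.item) (a := r)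
          (fun h => hd (of_decide_eq_true h)), ih, if_neg hd, mul_zero, zero_add]

omit hGN [IsSimpleGroup G] in
/-- A character outside a block with trivial complement has degree divisible by `p`. -/
theorem mem_chars_of_not_dvd (B : Block L) (hK : L.K = ⊥) {χ : IrrCharacter G}
    (h1 : (χ : G → ℂ) ≠ fun _ => 1) (hd : ¬ p ∣ deg χ) : χ ∈ B.chars := by
  haveI := L.finite_lam
  letI := Fintype.ofFinite L.Lam
  exact (B.mem_chars χ).2 ⟨by_contra fun h => hd (dvd_degree_out hK h),
    fun e => h1 (e ▸ B.one_eq)⟩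

omit hGN [IsSimpleGroup G] in
/-- The degrees in a block are prime to `p`. -/
theorem Block.not_dvd_deg (B : Block L) {χ : IrrCharacter G} (hχ : χ ∈ B.chars) : ¬ p ∣ deg χ := by
  classical
  exact (L.counting.2.1 χ).2 (by
    obtain ⟨q, hq⟩ := ((B.mem_chars χ).1 hχ).1
    exact ⟨q.1, hq⟩)

/-- The centraliser condition. -/
theorem okC_true {t : G} (ht : orderOf t = 2) (hp : p ≠ 2) {n K e' : ℕ} {items : List Item}
    (hn : Nat.card (Sylow p G) = n) (hK : Nat.card L.K = K) :
    okC p (n, e', K, items) (Nat.card (Cg t)) = true := by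
  classical
  unfold okC
  by_cases hd : p ∣ Nat.card (Cg t)
  · obtain ⟨⟨g, hg⟩, M, h1, h2, h3, h4⟩ := centralizer_of_dvd L hp ht hd
    have heven : K % 2 = 0 := by
      have h5 := Subgroup.orderOf_dvd_natCard _ hg
      rw [show g * t * g⁻¹ = MulAut.conj g t from rfl, MulEquiv.orderOf_eq, ht, hK] at h5
      exact Nat.mod_eq_zero_of_dvd h5
    have hN : 443520 / n = Nat.card L.N := by
      refine Nat.div_eq_of_eq_mul_left (hn ▸ Nat.card_pos) ?_
      rw [← hGN, ← Small.card_sylow_mul_card_normalizer L.P, ← hn, mul_comm]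
    simp only [Bool.or_eq_true, Bool.and_eq_true, decide_eq_true_eq, List.any_eq_true]
    refine Or.inr ⟨heven, M, mem_dvds (h3.trans (card_dvd_GN hGN _)), ⟨⟨?_, ?_⟩, h1⟩, h2⟩
    · exact Nat.mod_eq_zero_of_dvd (hK ▸ h4)
    · exact hN.symm ▸ Nat.mod_eq_zero_of_dvd h3
  · rw [decide_eq_true (show Nat.card (Cg t) % p ≠ 0 from fun e => hd (Nat.dvd_of_mod_eq_zero e))]
    rfl

variable [Fact (Nat.Prime 11)] {L₁₁ : Local 11 G} (B₁₁ : Block L₁₁)
include B₁₁

/-- A character of degree prime to 11 has the value of one in the block for 11. -/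
theorem exists_eleven_alike {χ : IrrCharacter G} (h1 : (χ : G → ℂ) ≠ fun _ => 1) (hd : ¬ 11 ∣ deg χ) :
    ∃ r ∈ B₁₁.reps, deg r = deg χ ∧ ∀ t : G, orderOf t = 2 → val r t = val χ t := by
  obtain ⟨r, hr, h⟩ := B₁₁.alike_rep χ (mem_chars_of_not_dvd B₁₁ (K_bot hGN L₁₁) h1 hd)
  exact ⟨r, hr, h.1.symm, fun t ht => (val_congr (by norm_num) (not_comm hGN) ht h).symm⟩

/-- The values of the block for 11 occur in the search. -/
theorem vals_mem {t : G} (ht : orderOf t = 2) {l : List (IrrCharacter G)} (hl : l.Perm B₁₁.reps) :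
    (l.map (fun r => val r t),
      (Nat.card (Cg t) : ℤ) - 1 - ∑ χ ∈ B₁₁.chars, val χ t * val χ t) ∈
      vals 443520 (Nat.card (Cg t)) (l.map B₁₁.item) := by
  classical
  have hG := not_comm hGN
  set C := Nat.card (Cg t) with hC
  have hsum := B₁₁.sum_int (fun χ => val χ t * val χ t) fun χ χ' h => by
    simp only [val_congr (by norm_num) hG ht h]
  rw [← (hl.map _).sum_eq] at hsum
  have hle : (∑ χ ∈ B₁₁.chars, val χ t * val χ t) + 1 ≤ (C : ℤ) := by
    rw [hC, ← sum_val_sq hGN ht, ← Finset.sum_erase_add _ _ (Finset.mem_univ B₁₁.one), val_one hGN B₁₁,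
      mul_one]
    refine add_le_add ?_ le_rfl
    exact Finset.sum_le_sum_of_subset_of_nonneg (fun χ hχ => Finset.mem_erase.2
      ⟨((B₁₁.mem_chars χ).1 hχ).2, Finset.mem_univ _⟩) fun χ _ _ => mul_self_nonneg _
  rw [hsum] at hle ⊢
  obtain ⟨a, -, hodd, hR⟩ := B₁₁.class_equation hG (by norm_num) ht
  obtain ⟨-, he, hK⟩ := eleven_local hGN L₁₁
  rw [hodd (by rw [he]; decide), hK, hGN, ← (hl.map _).sum_eq] at hR
  simp only [Nat.cast_zero, mul_zero, zero_mul, Nat.cast_one, mul_one] at hR
  have hrel := B₁₁.relation_val hG (by norm_num) ht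
  rw [← (hl.map _).sum_eq] at hrel
  refine valsRec_mem 443520 B₁₁.item _ (fun r => val r t) l 1 _ _ (fun r hr => ?_) hrel hR
    (by simp only [Block.item]; linarith)
  have hr' := B₁₁.rep_mem r (hl.subset hr)
  obtain ⟨h4, hi, hlo, hhi⟩ := (val_spec hG r ht).2 (B₁₁.ne_one hr')
  have hidx : (443520 / C : ℕ) = (Cg t).index := by
    rw [hC, ← hGN, ← (Cg t).index_mul_card, Nat.mul_div_cancel _ Nat.card_pos]
  have hC' : C ≤ 40320 := by
    have := Cg_mem_invOrders hGN ht
    simp only [invOrders, List.mem_filter, Bool.and_eq_true, decide_eq_true_eq] at this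
    omega
  have hsq : val r t * val r t < C := by
    have h1 : val r t * val r t ≤ ∑ χ ∈ B₁₁.chars, val χ t * val χ t :=
      Finset.single_le_sum (f := fun χ => val χ t * val χ t) (fun _ _ => mul_self_nonneg _) hr'
    rw [hsum] at h1
    linarith
  refine mem_cvals hlo hhi (natAbs_le_bnd hsq hC') ?_ ?_
  · rw [hidx]; exact hi
  · exact Int.dvd_of_emod_eq_zero (by
      show ((deg r : ℤ) - val r t) % 4 = 0
      rw [Int.sub_emod, h4, sub_self, Int.zero_emod])

omit hGN B₁₁ [Fact (Nat.Prime 11)] in
theorem sqOK_true {p n e K C a : ℕ} {items : List Item} {R : ℤ} (hp : 0 < p) (hC : 0 < C) (hK : 0 < K)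
    (ha : a ≤ K) (hodd : Odd e → a = 0)
    (h : R * (K : ℤ) = (p : ℤ) * ((a : ℤ) * a) * ((C : ℤ) * C)) :
    sqOK p (n, e, K, items) C R = true := by
  unfold sqOK
  by_cases he : e % 2 = 1
  · rw [if_pos (decide_eq_true he)]
    rw [hodd (Nat.odd_iff.2 he)] at h
    simp only [Nat.cast_zero, mul_zero, zero_mul, mul_eq_zero] at h
    rcases h with h | h
    · exact decide_eq_true h
    · omega
  · rw [if_neg (by simpa using he)]
    have hR : 0 ≤ R := by
      have : 0 ≤ R * (K : ℤ) := by rw [h]; positivity
      exact nonneg_of_mul_nonneg_left this (by exact_mod_cast hK)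
    have hN : R.natAbs * K = p * (C * C) * (a * a) := by
      apply Int.natCast_inj.1
      push_cast
      rw [abs_of_nonneg hR, h]
      ring
    dsimp only
    rw [hN, Nat.mul_div_cancel_left _ (Nat.mul_pos hp (Nat.mul_pos hC hC)), Nat.mul_mod_right,
      Nat.sqrt_eq]
    simp only [Bool.and_eq_true, Bool.or_eq_true, decide_eq_true_eq, and_self, and_true, hR, true_and]
    rcases Nat.lt_or_ge 1 K with h1 | h1
    · exact Or.inl h1
    · exact Or.inr (by omega)

/-- A block has values compatible with those of the block for 11. -/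
theorem feas_true (B : Block L) (hp : p ≠ 2) {n e' K : ℕ}
    (hn : Nat.card (Sylow p G) = n) (he : e L = e') (hK : Nat.card L.K = K)
    {t : G} (ht : orderOf t = 2) {l₁₁ l : List (IrrCharacter G)} (h₁₁ : l₁₁.Perm B₁₁.reps)
    (hl : l.Perm B.reps) {fix : Option (ℕ × ℤ)}
    (hfix : ∀ f, fix = some f → ∀ χ : IrrCharacter G, deg χ = f.1 → (χ : G → ℂ) ≠ (fun _ => 1) →
      val χ t = f.2) :
    feas p (n, e', K, l.map B.item) (Nat.card (Cg t)) (l₁₁.map B₁₁.item)
      (l₁₁.map (fun r => val r t),
        (Nat.card (Cg t) : ℤ) - 1 - ∑ χ ∈ B₁₁.chars, val χ t * val χ t) fix = true := by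
  classical
  have hG := not_comm hGN
  set C := Nat.card (Cg t) with hC
  obtain ⟨a, ha, hodd, hR⟩ := B.class_equation hG hp ht
  rw [hGN, ← (hl.map _).sum_eq, hK] at hR
  rw [he] at hodd
  rw [hK] at ha
  have hrel := B.relation_val hG hp ht
  rw [← (hl.map _).sum_eq] at hrel
  refine feasRec_true _ B.item _ (fun r => val r t) l 1 _ _ (fun r hr => ?_) hrel
    (sqOK_true (Fact.out : p.Prime).pos Nat.card_pos (hK ▸ Nat.card_pos) ha hodd hR) ?_
  · have hr' := B.rep_mem r (hl.subset hr)
    obtain ⟨h4, hi, hlo, hhi⟩ := (val_spec hG r ht).2 (B.ne_one hr')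
    have h4' : (4 : ℤ) ∣ (deg r : ℤ) - val r t :=
      Int.dvd_of_emod_eq_zero (by rw [Int.sub_emod, h4, sub_self, Int.zero_emod])
    have hmod : (modFor p C (B.mult r) : ℤ) ∣ (deg r : ℤ) - val r t := by
      unfold modFor
      split_ifs with hcond
      · simp only [Bool.and_eq_true, decide_eq_true_eq] at hcond
        obtain ⟨hd, hm1⟩ := hcond
        have hconst : IsConst L r (B.co r) := by
          obtain ⟨cs, hcs, ⟨-, hperm, -⟩ | ⟨hk, y, hperm, -, -, hmy, -⟩⟩ := B.shape
          · exact (hcs r (hperm.subset (hl.subset hr))).1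
          · rcases List.mem_append.1 (hperm.subset (hl.subset hr)) with h | h
            · exact (hcs r h).1
            · exfalso
              rw [List.mem_singleton.1 h, hmy] at hm1
              exact hk hm1
        obtain ⟨⟨g, hg⟩, -⟩ := centralizer_of_dvd L hp ht (Nat.dvd_of_mod_eq_zero hd)
        have hgo : orderOf (g * t * g⁻¹) = 2 := by
          rw [show g * t * g⁻¹ = MulAut.conj g t from rfl, MulEquiv.orderOf_eq, ht]
        have hval : (r : G → ℂ) (g * t * g⁻¹) = val r t := by
          rw [isClassFunction_of_isIrr r.2]; exact (val_spec hG r ht).1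
        have hcop : IsCoprime (4 : ℤ) (p : ℤ) := by
          rw [Int.isCoprime_iff_gcd_eq_one, Int.gcd, Int.natAbs_natCast]
          exact Nat.Coprime.pow_left 2 ((Nat.coprime_primes Nat.prime_two Fact.out).2 (Ne.symm hp))
        rw [Nat.cast_mul]
        exact hcop.mul_dvd h4' (const_dvd_sub_val hconst hg hgo hval)
      · exact h4'
    show val r t ∈ itemVals p C _ _ fix (B.item r)
    simp only [itemVals]
    by_cases hd : (B.item r).2.2 % 11 = 0
    · rw [if_pos (decide_eq_true hd)]
      refine List.mem_filter.2 ⟨mem_cvals hlo hhi ?_ ?_ hmod, ?_⟩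
      · refine natAbs_le_bnd ?_ ?_
        · rw [hC, ← sum_val_sq hGN ht]
          have hne : r ≠ B.one := ((B.mem_chars r).1 hr').2
          calc val r t * val r t < val r t * val r t + val B.one t * val B.one t := by
                rw [val_one hGN B]; omega
            _ = ∑ χ ∈ ({r, B.one} : Finset (IrrCharacter G)), val χ t * val χ t := (Finset.sum_pair (f := fun χ => val χ t * val χ t) hne).symm
            _ ≤ _ := Finset.sum_le_sum_of_subset_of_nonneg (Finset.subset_univ _) fun χ _ _ => mul_self_nonneg _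
        · have := Cg_mem_invOrders hGN ht
          simp only [invOrders, List.mem_filter, Bool.and_eq_true, decide_eq_true_eq] at this
          omega
      · rw [show (443520 / C : ℕ) = (Cg t).index by
          rw [hC, ← hGN, ← (Cg t).index_mul_card, Nat.mul_div_cancel _ Nat.card_pos]]
        exact hi
      · rcases fix with _ | f
        · rfl
        · by_cases hf : deg r = f.1
          · simp [hfix f rfl r hf (B.ne_one hr')]
          · simp [show (B.item r).2.2 = deg r from rfl, hf]
    · rw [if_neg (by simpa using hd)]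
      obtain ⟨r', hr'', hdeg, hv⟩ := exists_eleven_alike hGN B₁₁ (B.ne_one hr')
        (fun h => hd (Nat.mod_eq_zero_of_dvd h))
      rw [List.zip_map', List.filter_map, List.map_map, List.mem_map]
      refine ⟨r', List.mem_filter.2 ⟨h₁₁.symm.subset hr'', ?_⟩, hv t ht⟩
      simp only [Function.comp_apply, Bool.and_eq_true, decide_eq_true_eq, Block.item]
      exact ⟨decide_eq_true hdeg, decide_eq_true (by rw [hv t ht]; exact Int.emod_eq_zero_of_dvd hmod)⟩
  · -- the norm of the column
    have hF : ∀ χ χ', Alike p χ χ' → (if deg χ % 11 = 0 then val χ t * val χ t else 0) =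
        (if deg χ' % 11 = 0 then val χ' t * val χ' t else 0) := fun χ χ' h => by
      rw [h.1, val_congr hp hG ht h]
    have hsum := B.sum_int _ hF
    rw [← (hl.map _).sum_eq, ← Finset.sum_filter] at hsum
    have hlist : (l.map fun r => if (B.item r).2.2 % 11 = 0 then
        ((B.item r).2.1 : ℤ) * (val r t * val r t) else 0).sum =
        (l.map fun r => (B.mult r : ℤ) * if deg r % 11 = 0 then val r t * val r t else 0).sum := by
      congr 1
      refine List.map_congr_left fun r _ => ?_
      show (if deg r % 11 = 0 then (B.mult r : ℤ) * (val r t * val r t) else 0) = _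
      split_ifs <;> simp
    rw [hlist, ← hsum]
    set S := B.chars.filter fun χ => deg χ % 11 = 0
    have hdisj : Disjoint B₁₁.chars S := Finset.disjoint_left.2 fun χ h h' =>
      B₁₁.not_dvd_deg h (Nat.dvd_of_mod_eq_zero (Finset.mem_filter.1 h').2)
    have hsub : B₁₁.chars ∪ S ⊆ Finset.univ.erase B₁₁.one := by
      intro χ hχ
      refine Finset.mem_erase.2 ⟨fun e => ?_, Finset.mem_univ _⟩
      have h1 : (χ : G → ℂ) = fun _ => 1 := e ▸ B₁₁.one_eq
      rcases Finset.mem_union.1 hχ with h | h
      · exact B₁₁.ne_one h h1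
      · exact B.ne_one (Finset.mem_filter.1 h).1 h1
    have h3 : ∑ χ ∈ B₁₁.chars ∪ S, val χ t * val χ t ≤ (C : ℤ) - 1 := by
      rw [hC, ← sum_val_sq hGN ht, ← Finset.sum_erase_add _ _ (Finset.mem_univ B₁₁.one), val_one hGN B₁₁,
        mul_one, add_sub_cancel_right]
      exact Finset.sum_le_sum_of_subset_of_nonneg hsub fun χ _ _ => mul_self_nonneg _
    rw [Finset.sum_union hdisj] at h3
    linarith

end CfsgLib.MTwentyTwoUnique
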