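import Cfsg.Agent.MTwentyTwoUnique.Core
import Mathlib.GroupTheory.Perm.Cycle.Type

/-!
The elementary abelian subgroup `A` of order 16 normal in the centraliser of `t` and invariant under `y`.
-/

set_option autoImplicit false
set_option linter.style.haveILetI false
set_option linter.unusedSectionVars false

open scoped Pointwise

namespace CfsgLib.MTwentyTwoUnique

open Cfsg CfsgLib.DefectOne CfsgLib.BrauerOrderP
open CfsgLib.MElevenUnique (Cg Ng mem_Cg)

universe u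

variable {G : Type u} [Group G]

namespace Core

variable (C : Core G)

/-- Congruence modulo the four-group. -/
def Sim (a b : G) : Prop := a⁻¹ * b ∈ C.toFrame.E

theorem sim_refl (a : G) : C.Sim a a := by
  show a⁻¹ * a ∈ _
  rw [inv_mul_cancel]; exact one_mem _

theorem sim_symm {a b : G} (h : C.Sim a b) : C.Sim b a := by
  have := inv_mem h
  rwa [mul_inv_rev, inv_inv] at this

theorem sim_trans {a b c : G} (h : C.Sim a b) (h' : C.Sim b c) : C.Sim a c := by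
  have := mul_mem h h'
  rwa [show a⁻¹ * b * (b⁻¹ * c) = a⁻¹ * c by group] at this

theorem sim_one {a : G} : C.Sim a 1 ↔ a ∈ C.toFrame.E := by
  show a⁻¹ * 1 ∈ _ ↔ _
  rw [mul_one, inv_mem_iff]

theorem sim_mul {a a' b b' : G} (hb : b ∈ C.W) (h : C.Sim a a') (h' : C.Sim b b') :
    C.Sim (a * b) (a' * b') := by
  show (a * b)⁻¹ * (a' * b') ∈ _
  rw [show (a * b)⁻¹ * (a' * b') = b⁻¹ * (a⁻¹ * a') * b * (b⁻¹ * b') by group,
    show b⁻¹ * (a⁻¹ * a') * b = a⁻¹ * a' by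
      rw [mul_assoc, ← (C.comm_E_of_mem_W hb h).eq, inv_mul_cancel_left]]
  exact mul_mem h h'

theorem sim_conj {c a b : G} (hc : ∀ e ∈ C.toFrame.E, c * e * c⁻¹ ∈ C.toFrame.E) (h : C.Sim a b) :
    C.Sim (c * a * c⁻¹) (c * b * c⁻¹) := by
  show (c * a * c⁻¹)⁻¹ * (c * b * c⁻¹) ∈ _
  rw [show (c * a * c⁻¹)⁻¹ * (c * b * c⁻¹) = c * (a⁻¹ * b) * c⁻¹ by group]
  exact hc _ h

theorem x_norm_E : ∀ e ∈ C.toFrame.E, C.x * e * C.x⁻¹ ∈ C.toFrame.E := fun e he => by
  rw [conj_eq_iff_commute.2 (C.toFrame.x_comm_E he)]; exact he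

/-- The elements of `W` of order at most two and central modulo the four-group. -/
def M0set : Set G := {d | d ∈ C.W ∧ d * d ∈ C.toFrame.E ∧ ∀ w ∈ C.W, C.Sim (d * w) (w * d)}

theorem mul_mem_M0set {a b : G} (ha : a ∈ C.M0set) (hb : b ∈ C.M0set) : a * b ∈ C.M0set := by
  obtain ⟨ha, ha2, hac⟩ := ha
  obtain ⟨hb, hb2, hbc⟩ := hb
  refine ⟨mul_mem ha hb, ?_, fun w hw => ?_⟩
  · have h : C.Sim (a * b * (a * b)) (a * a * (b * b)) := by
      rw [show a * b * (a * b) = a * (b * a) * b by group, show a * a * (b * b) = a * (a * b) * b by group]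
      exact C.sim_mul hb (C.sim_mul (mul_mem hb ha) (C.sim_refl a) (C.sim_symm (hac b hb))) (C.sim_refl b)
    exact C.sim_one.1 (C.sim_trans h (C.sim_one.2 (mul_mem ha2 hb2)))
  · have h1 : C.Sim (a * (b * w)) (a * (w * b)) := C.sim_mul (mul_mem hb hw) (C.sim_refl a) (hbc w hw)
    have h2 : C.Sim (a * w * b) (w * a * b) := C.sim_mul hb (hac w hw) (C.sim_refl b)
    rw [mul_assoc, ← mul_assoc w]
    rw [mul_assoc a w b] at h2
    exact C.sim_trans h1 h2

variable [Fintype G]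

/-- The subgroup of these elements. -/
def M0 : Subgroup G where
  carrier := C.M0set
  one_mem' := ⟨one_mem _, by rw [one_mul]; exact one_mem _, fun w _ => by
    rw [one_mul, mul_one]; exact C.sim_refl w⟩
  mul_mem' := C.mul_mem_M0set
  inv_mem' := by
    intro a ha
    have hpow : ∀ n : ℕ, a ^ (n + 1) ∈ C.M0set := fun n => by
      induction n with
      | zero => rw [pow_one]; exact ha
      | succ n ih => rw [pow_succ]; exact C.mul_mem_M0set ih ha
    obtain ⟨k, hk⟩ := Nat.exists_eq_add_of_le (orderOf_pos a)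
    have hinv : a⁻¹ = a ^ (2 * orderOf a - 1) := by
      refine inv_eq_of_mul_eq_one_right ?_
      rw [← pow_succ', show 2 * orderOf a - 1 + 1 = orderOf a * 2 by omega, pow_mul, pow_orderOf_eq_one,
        one_pow]
    rw [hinv, show 2 * orderOf a - 1 = (2 * orderOf a - 2) + 1 by omega]
    exact hpow _

theorem mem_M0 {d : G} : d ∈ C.M0 ↔ d ∈ C.W ∧ d * d ∈ C.toFrame.E ∧ ∀ w ∈ C.W, C.Sim (d * w) (w * d) :=
  Iff.rfl

theorem M0_le_W : C.M0 ≤ C.W := fun _ h => h.1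

theorem E_le_M0 : C.toFrame.E ≤ C.M0 := fun e he => by
  refine C.mem_M0.2 ⟨C.E_le_W he, ?_, fun w hw => ?_⟩
  · rw [C.toFrame.sq_mem_E he]; exact one_mem _
  · rw [(C.comm_E_of_mem_W hw he).eq]; exact C.sim_refl _

/-- Elements normalising `W` and the four-group normalise `M0`. -/
theorem M0_conj {c : G} (hW : ∀ g ∈ C.W, c * g * c⁻¹ ∈ C.W)
    (hE : ∀ e ∈ C.toFrame.E, c * e * c⁻¹ ∈ C.toFrame.E) {d : G} (hd : d ∈ C.M0) : c * d * c⁻¹ ∈ C.M0 := by
  refine C.mem_M0.2 ⟨hW d hd.1, ?_, fun w hw => ?_⟩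
  · rw [show c * d * c⁻¹ * (c * d * c⁻¹) = c * (d * d) * c⁻¹ by group]
    exact hE _ hd.2.1
  · have hinv : c⁻¹ * w * c ∈ C.W := by
      classical
      obtain ⟨w', hw'⟩ := Finite.surjective_of_injective (f := fun g : C.W => (⟨c * g * c⁻¹, hW g g.2⟩ : C.W))
        (fun a b h => Subtype.ext (conj_injective c (congrArg Subtype.val h))) ⟨w, hw⟩
      have h' : c * (w' : G) * c⁻¹ = w := congrArg Subtype.val hw'
      rw [← h', show c⁻¹ * (c * (w' : G) * c⁻¹) * c = w' by group]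
      exact w'.2
    have := C.sim_conj hE (hd.2.2 _ hinv)
    rw [show c * (d * (c⁻¹ * w * c)) * c⁻¹ = c * d * c⁻¹ * w by group,
      show c * (c⁻¹ * w * c * d) * c⁻¹ = w * (c * d * c⁻¹) by group] at this
    exact this

theorem x_conj_M0 {d : G} (hd : d ∈ C.M0) : C.x * d * C.x⁻¹ ∈ C.M0 :=
  C.M0_conj (fun _ => C.x_conj_W) C.x_norm_E hd

theorem sim_comm {a b : G} (ha : a ∈ C.M0) (hb : b ∈ C.M0) : C.Sim (a * b) (b * a) := ha.2.2 b hb.1

theorem sim_sq {a : G} (ha : a ∈ C.M0) : C.Sim (a * a) 1 := C.sim_one.2 ha.2.1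

/-- The third conjugate is the product of the other two. -/
theorem sim_third {d : G} (hd : d ∈ C.M0) :
    C.Sim (C.x * (C.x * d * C.x⁻¹) * C.x⁻¹) (d * (C.x * d * C.x⁻¹)) := by
  set a := d
  set b := C.x * a * C.x⁻¹ with hb
  set c := C.x * b * C.x⁻¹ with hc
  have hbM := C.x_conj_M0 hd
  have hcM := C.x_conj_M0 hbM
  have hca : C.x * c * C.x⁻¹ = a := by
    rw [hc, hb, show C.x * (C.x * (C.x * a * C.x⁻¹) * C.x⁻¹) * C.x⁻¹ = C.x ^ 3 * a * (C.x ^ 3)⁻¹ by
      simp only [pow_succ, pow_zero, one_mul, mul_inv_rev, mul_assoc], C.toFrame.x_cubed, one_mul, inv_one,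
      mul_one]
  have hw : a * b * c ∈ C.toFrame.E := by
    refine C.mem_E_of_fix (mul_mem (mul_mem hd hbM) hcM).1.1 ?_
    rw [show C.x * (a * b * c) * C.x⁻¹ = C.x * a * C.x⁻¹ * (C.x * b * C.x⁻¹) * (C.x * c * C.x⁻¹) by group,
      ← hb, ← hc, hca]
    have h1 : C.Sim (b * c * a) (a * b * c) := by
      rw [mul_assoc a b c]
      exact C.sim_comm (mul_mem hbM hcM) hd
    exact C.sim_symm h1
  have h2 : C.Sim (a * b * c) (a * b * (a * b)) :=
    C.sim_trans (C.sim_one.2 hw) (C.sim_symm (C.sim_sq (mul_mem hd hbM)))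
  have h3 : (a * b * c)⁻¹ * (a * b * (a * b)) ∈ C.toFrame.E := h2
  rw [show (a * b * c)⁻¹ * (a * b * (a * b)) = c⁻¹ * (a * b) by group] at h3
  exact h3

/-- The line through an element. -/
def lineSet (d : G) : Set G :=
  {g | C.Sim g 1 ∨ C.Sim g d ∨ C.Sim g (C.x * d * C.x⁻¹) ∨ C.Sim g (d * (C.x * d * C.x⁻¹))}

theorem lineSet_subset {d : G} (hd : d ∈ C.M0) {g : G} (hg : g ∈ C.lineSet d) : g ∈ C.M0 := by
  have key : ∀ z ∈ C.M0, C.Sim g z → g ∈ C.M0 := fun z hz h => by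
    have h' : z⁻¹ * g ∈ C.toFrame.E := C.sim_symm h
    have := mul_mem hz (C.E_le_M0 h')
    rwa [mul_inv_cancel_left] at this
  rcases hg with h | h | h | h
  · exact key 1 (one_mem _) h
  · exact key _ hd h
  · exact key _ (C.x_conj_M0 hd) h
  · exact key _ (mul_mem hd (C.x_conj_M0 hd)) h

theorem mul_mem_lineSet {d : G} (hd : d ∈ C.M0) {g h : G} (hg : g ∈ C.lineSet d) (hh : h ∈ C.lineSet d) :
    g * h ∈ C.lineSet d := by
  set b := C.x * d * C.x⁻¹
  have hb : b ∈ C.M0 := C.x_conj_M0 hd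
  have hW : h ∈ C.W := (C.lineSet_subset hd hh).1
  have hdW := hd.1
  have hbW := hb.1
  have mul' : ∀ {p q r : G}, C.Sim g p → C.Sim h q → C.Sim (p * q) r → C.Sim (g * h) r :=
    fun hp hq hr => C.sim_trans (C.sim_mul hW hp hq) hr
  have bd : C.Sim (b * d) (d * b) := C.sim_comm hb hd
  have dd : C.Sim (d * d) 1 := C.sim_sq hd
  have bb : C.Sim (b * b) 1 := C.sim_sq hb
  have e1 : C.Sim (d * (d * b)) b := by
    rw [← mul_assoc]; simpa using C.sim_mul hbW dd (C.sim_refl b)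
  have e2 : C.Sim (d * b * d) b := by
    refine C.sim_trans ?_ e1
    rw [mul_assoc]
    exact C.sim_mul (mul_mem hbW hdW) (C.sim_refl d) bd
  have e3 : C.Sim (d * b * b) d := by
    rw [mul_assoc]; simpa using C.sim_mul (mul_mem hbW hbW) (C.sim_refl d) bb
  have e4 : C.Sim (b * (d * b)) d := by
    refine C.sim_trans ?_ e3
    rw [← mul_assoc]
    exact C.sim_mul hbW bd (C.sim_refl b)
  rcases hg with p | p | p | p <;> rcases hh with q | q | q | q
  · exact Or.inl (mul' p q (by rw [one_mul]; exact C.sim_refl _))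
  · exact Or.inr (Or.inl (mul' p q (by rw [one_mul]; exact C.sim_refl _)))
  · exact Or.inr (Or.inr (Or.inl (mul' p q (by rw [one_mul]; exact C.sim_refl _))))
  · exact Or.inr (Or.inr (Or.inr (mul' p q (by rw [one_mul]; exact C.sim_refl _))))
  · exact Or.inr (Or.inl (mul' p q (by rw [mul_one]; exact C.sim_refl _)))
  · exact Or.inl (mul' p q dd)
  · exact Or.inr (Or.inr (Or.inr (mul' p q (C.sim_refl _))))
  · exact Or.inr (Or.inr (Or.inl (mul' p q e1)))
  · exact Or.inr (Or.inr (Or.inl (mul' p q (by rw [mul_one]; exact C.sim_refl _))))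
  · exact Or.inr (Or.inr (Or.inr (mul' p q bd)))
  · exact Or.inl (mul' p q bb)
  · exact Or.inr (Or.inl (mul' p q e4))
  · exact Or.inr (Or.inr (Or.inr (mul' p q (by rw [mul_one]; exact C.sim_refl _))))
  · exact Or.inr (Or.inr (Or.inl (mul' p q e2)))
  · exact Or.inr (Or.inl (mul' p q e3))
  · exact Or.inl (mul' p q (C.sim_sq (mul_mem hd hb)))

open Classical in
/-- The line through `d` as a subgroup, and the four-group for the other elements. -/
noncomputable def line (d : G) : Subgroup G :=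
  if hd : d ∈ C.M0 then
    { carrier := C.lineSet d
      one_mem' := Or.inl (C.sim_refl 1)
      mul_mem' := C.mul_mem_lineSet hd
      inv_mem' := by
        intro a ha
        have hM := C.lineSet_subset hd ha
        have h : C.Sim a⁻¹ a := by
          show a⁻¹⁻¹ * a ∈ _
          rw [inv_inv]; exact hM.2.1
        rcases ha with p | p | p | p
        exacts [Or.inl (C.sim_trans h p), Or.inr (Or.inl (C.sim_trans h p)),
          Or.inr (Or.inr (Or.inl (C.sim_trans h p))), Or.inr (Or.inr (Or.inr (C.sim_trans h p)))] }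
  else C.toFrame.E

theorem mem_line {d g : G} (hd : d ∈ C.M0) : g ∈ C.line d ↔ C.Sim g 1 ∨ C.Sim g d ∨
    C.Sim g (C.x * d * C.x⁻¹) ∨ C.Sim g (d * (C.x * d * C.x⁻¹)) := by
  rw [line, dif_pos hd]; rfl

theorem self_mem_line {d : G} (hd : d ∈ C.M0) : d ∈ C.line d :=
  (C.mem_line hd).2 (Or.inr (Or.inl (C.sim_refl d)))

theorem line_le {d : G} (hd : d ∈ C.M0) : C.line d ≤ C.M0 := fun _ hg =>
  C.lineSet_subset hd ((C.mem_line hd).1 hg)

theorem E_le_line {d : G} (hd : d ∈ C.M0) : C.toFrame.E ≤ C.line d := fun _ hg =>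
  (C.mem_line hd).2 (Or.inl (C.sim_one.2 hg))

theorem line_x {d : G} (hd : d ∈ C.M0) {g : G} (hg : g ∈ C.line d) : C.x * g * C.x⁻¹ ∈ C.line d := by
  rcases (C.mem_line hd).1 hg with p | p | p | p
  · have h := C.sim_conj C.x_norm_E p
    rw [mul_one, mul_inv_cancel] at h
    exact (C.mem_line hd).2 (Or.inl h)
  · exact (C.mem_line hd).2 (Or.inr (Or.inr (Or.inl (C.sim_conj C.x_norm_E p))))
  · exact (C.mem_line hd).2 (Or.inr (Or.inr (Or.inr
      (C.sim_trans (C.sim_conj C.x_norm_E p) (C.sim_third hd)))))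
  · refine (C.mem_line hd).2 (Or.inr (Or.inl (C.sim_trans (C.sim_conj C.x_norm_E p) ?_)))
    set b := C.x * d * C.x⁻¹ with hb
    have hbM : b ∈ C.M0 := C.x_conj_M0 hd
    rw [show C.x * (d * b) * C.x⁻¹ = C.x * d * C.x⁻¹ * (C.x * b * C.x⁻¹) by group, ← hb]
    refine C.sim_trans (C.sim_mul (C.x_conj_M0 hbM).1 (C.sim_refl b) (C.sim_third hd)) ?_
    rw [← hb]
    refine C.sim_trans ?_ (show C.Sim (d * (b * b)) d by
      simpa using C.sim_mul (mul_mem hbM hbM).1 (C.sim_refl d) (C.sim_sq hbM))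
    show C.Sim (b * (d * b)) (d * (b * b))
    rw [← mul_assoc b, ← mul_assoc d]
    exact C.sim_mul hbM.1 (C.sim_comm hbM hd) (C.sim_refl b)

theorem card_line {d : G} (hd : d ∈ C.M0) (hdE : d ∉ C.toFrame.E) : Nat.card (C.line d) = 16 := by
  classical
  have hcase := C.card_of_invariant (C.E_le_line hd) ((C.line_le hd).trans (C.M0_le_W.trans C.W_le_R))
    fun g hg => C.line_x hd hg
  set rep : Fin 4 → G := ![1, d, C.x * d * C.x⁻¹, d * (C.x * d * C.x⁻¹)]
  have hex : ∀ g : C.line d, ∃ i, (rep i)⁻¹ * (g : G) ∈ C.toFrame.E := fun g => by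
    rcases (C.mem_line hd).1 g.2 with p | p | p | p
    exacts [⟨0, C.sim_symm p⟩, ⟨1, C.sim_symm p⟩, ⟨2, C.sim_symm p⟩, ⟨3, C.sim_symm p⟩]
  choose f hf using hex
  have hle : Nat.card (C.line d) ≤ 16 := by
    refine (Nat.card_le_card_of_injective (fun g => (f g, (⟨_, hf g⟩ : C.toFrame.E))) fun g h e => ?_).trans
      (by rw [Nat.card_prod, Nat.card_fin, C.toFrame.card_E])
    rw [Prod.mk.injEq] at e
    have : (rep (f g))⁻¹ * (g : G) = (rep (f h))⁻¹ * (h : G) := congrArg Subtype.val e.2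
    rw [e.1] at this
    exact Subtype.ext (mul_left_cancel this)
  have hgt : 4 < Nat.card (C.line d) := by
    by_contra hh
    have := Subgroup.eq_of_le_of_card_ge (C.E_le_line hd) (by rw [C.toFrame.card_E]; omega)
    exact hdE (this.ge (C.self_mem_line hd))
  omega

theorem line_eq {d g : G} (hd : d ∈ C.M0) (hg : g ∈ C.line d) (hgE : g ∉ C.toFrame.E) :
    C.line g = C.line d := by
  have hgM := C.line_le hd hg
  have hdE : d ∉ C.toFrame.E := fun h => hgE <| by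
    have hle : C.line d ≤ C.toFrame.E := fun z hz => by
      have hb : C.x * d * C.x⁻¹ ∈ C.toFrame.E := C.x_norm_E d h
      rcases (C.mem_line hd).1 hz with p | p | p | p
      · exact C.sim_one.1 p
      · exact C.sim_one.1 (C.sim_trans p (C.sim_one.2 h))
      · exact C.sim_one.1 (C.sim_trans p (C.sim_one.2 hb))
      · exact C.sim_one.1 (C.sim_trans p (C.sim_one.2 (mul_mem h hb)))
    exact hle hg
  refine Subgroup.eq_of_le_of_card_ge (fun z hz => ?_) (by rw [C.card_line hgM hgE, C.card_line hd hdE])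
  have key : ∀ w ∈ C.line d, C.Sim z w → z ∈ C.line d := fun w hw h => by
    have := mul_mem hw (C.E_le_line hd (C.sim_symm h : w⁻¹ * z ∈ C.toFrame.E))
    rwa [mul_inv_cancel_left] at this
  rcases (C.mem_line hgM).1 hz with p | p | p | p
  exacts [key 1 (one_mem _) p, key g hg p, key _ (C.line_x hd hg) p,
    key _ (mul_mem hg (C.line_x hd hg)) p]

/-- An element normalising the four-group and inverting or centralising `x` maps lines to lines. -/
theorem line_stable {c d : G} (hd : d ∈ C.M0) (hE : ∀ e ∈ C.toFrame.E, c * e * c⁻¹ ∈ C.toFrame.E)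
    (hx : c * C.x * c⁻¹ = C.x ∨ c * C.x * c⁻¹ = C.x⁻¹) {L : Subgroup G} (hEL : C.toFrame.E ≤ L)
    (hxL : ∀ g ∈ L, C.x * g * C.x⁻¹ ∈ L) (h : c * d * c⁻¹ ∈ L) {g : G} (hg : g ∈ C.line d) :
    c * g * c⁻¹ ∈ L := by
  have hb : c * (C.x * d * C.x⁻¹) * c⁻¹ ∈ L := by
    rw [show c * (C.x * d * C.x⁻¹) * c⁻¹ = c * C.x * c⁻¹ * (c * d * c⁻¹) * (c * C.x * c⁻¹)⁻¹ by group]
    rcases hx with e | e <;> rw [e]
    · exact hxL _ h
    · have h2 := hxL _ (hxL _ h)
      rw [show C.x⁻¹ = C.x * C.x by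
        rw [inv_eq_iff_mul_eq_one, ← mul_assoc]
        have := C.toFrame.x_cubed
        rwa [pow_succ, pow_two] at this]
      convert h2 using 1
      group
  have key : ∀ w, c * w * c⁻¹ ∈ L → C.Sim g w → c * g * c⁻¹ ∈ L := fun w hw p => by
    have h1 := mul_mem hw (hEL (C.sim_symm (C.sim_conj hE p) :
      (c * w * c⁻¹)⁻¹ * (c * g * c⁻¹) ∈ C.toFrame.E))
    rwa [mul_inv_cancel_left] at h1
  rcases (C.mem_line hd).1 hg with p | p | p | p
  · exact key 1 (by simp) p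
  · exact key d h p
  · exact key _ hb p
  · refine key _ ?_ p
    have := mul_mem h hb
    rwa [show c * d * c⁻¹ * (c * (C.x * d * C.x⁻¹) * c⁻¹) = c * (d * (C.x * d * C.x⁻¹)) * c⁻¹ by group]
      at this

theorem u_y' : C.u * C.y * C.u⁻¹ = C.y⁻¹ := by
  obtain ⟨k, hk⟩ := C.u_y
  have huu := mul_self_of_orderOf_two C.hu
  have hxk : C.u * C.x ^ k * C.u⁻¹ = (C.x ^ k)⁻¹ := by rw [← conj_pow, C.u_x, inv_pow]
  have h2 : C.u * (C.u * C.y * C.u⁻¹) * C.u⁻¹ = C.y := by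
    rw [show C.u * (C.u * C.y * C.u⁻¹) * C.u⁻¹ = C.u * C.u * C.y * (C.u * C.u)⁻¹ by group, huu, one_mul,
      inv_one, mul_one]
  rw [hk, show C.u * (C.y⁻¹ * C.x ^ k) * C.u⁻¹ = (C.u * C.y * C.u⁻¹)⁻¹ * (C.u * C.x ^ k * C.u⁻¹) by group,
    hxk, hk, mul_inv_rev, inv_inv, mul_assoc, ((C.cyx.pow_right k).inv_right).eq, ← mul_assoc,
    mul_eq_right] at h2
  have h3 : (C.x ^ k) ^ 2 = 1 := by rw [pow_two]; rw [← mul_inv_rev] at h2; exact inv_eq_one.1 h2
  have h4 : (C.x ^ k) ^ 3 = 1 := by rw [← pow_mul, mul_comm, pow_mul, C.toFrame.x_cubed, one_pow]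
  rw [pow_succ, h3, one_mul] at h4
  rw [hk, h4, mul_one]

variable [IsSimpleGroup G] [Fact (Nat.Prime 11)] [Fact (Nat.Prime 7)] [Fact (Nat.Prime 5)]
  (hGN : Nat.card G = 443520) (D : Data G)
include hGN D

omit hGN D in
/-- `M0` is larger than the four-group. -/
theorem exists_mem_M0 : ∃ d ∈ C.M0, d ∉ C.toFrame.E := by
  classical
  haveI := Fact.mk Nat.prime_two
  set N : Subgroup C.W := C.toFrame.E.subgroupOf C.W
  haveI : N.Normal := ⟨fun e he w => by
    show (w : G) * (e : G) * (w : G)⁻¹ ∈ C.toFrame.E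
    have he' : (e : G) ∈ C.toFrame.E := he
    rw [conj_eq_iff_commute.2 (C.comm_E_of_mem_W w.2 he')]; exact he'⟩
  have hN : Nat.card N = 4 := by
    rw [Nat.card_congr (Subgroup.subgroupOfEquivOfLe C.E_le_W).toEquiv, C.toFrame.card_E]
  have hq : 1 < Nat.card (C.W ⧸ N) := by
    have := Subgroup.card_eq_card_quotient_mul_card_subgroup N
    rw [hN] at this
    rcases C.card_W with h | h <;> omega
  have hp : IsPGroup 2 (C.W ⧸ N) := by
    refine IsPGroup.to_quotient ?_ N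
    rcases C.card_W with h | h
    · exact IsPGroup.of_card (n := 4) (by rw [h]; norm_num)
    · exact IsPGroup.of_card (n := 6) (by rw [h]; norm_num)
  haveI : Nontrivial (C.W ⧸ N) := Finite.one_lt_card_iff_nontrivial.1 hq
  haveI := hp.center_nontrivial
  obtain ⟨n, hn0, hn⟩ := (hp.to_subgroup (Subgroup.center (C.W ⧸ N))).nontrivial_iff_card.1 inferInstance
  obtain ⟨z, hz⟩ := exists_prime_orderOf_dvd_card' (G := Subgroup.center (C.W ⧸ N)) 2
    (by rw [hn]; exact dvd_pow_self 2 (by omega))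
  obtain ⟨d, hd⟩ := QuotientGroup.mk_surjective (z : C.W ⧸ N)
  have hz2 : (z : C.W ⧸ N) * (z : C.W ⧸ N) = 1 := by
    rw [← pow_two]
    have := pow_orderOf_eq_one z
    rw [hz] at this
    exact congrArg Subtype.val this
  refine ⟨d, C.mem_M0.2 ⟨d.2, ?_, fun w hw => ?_⟩, fun h => ?_⟩
  · rw [← hd, ← QuotientGroup.mk_mul, QuotientGroup.eq_one_iff] at hz2
    exact hz2
  · have h := (Subgroup.mem_center_iff.1 z.2 (⟨w, hw⟩ : C.W)).symm
    rw [← hd, ← QuotientGroup.mk_mul, ← QuotientGroup.mk_mul, QuotientGroup.eq] at h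
    exact h
  · have : (z : C.W ⧸ N) = 1 := by rw [← hd, QuotientGroup.eq_one_iff]; exact h
    rw [show z = 1 from Subtype.ext this, orderOf_one] at hz
    omega

/-- A line invariant under `y`. -/
theorem exists_y_line : ∃ d ∈ C.M0, d ∉ C.toFrame.E ∧ C.y * d * C.y⁻¹ ∈ C.line d := by
  classical
  obtain ⟨d₀, hd₀, hd₀E⟩ := C.exists_mem_M0
  have hyE : ∀ e ∈ C.toFrame.E, C.y * e * C.y⁻¹ ∈ C.toFrame.E := fun e he => C.toFrame.y_conj_E he
  have hyM : ∀ d ∈ C.M0, C.y * d * C.y⁻¹ ∈ C.M0 := fun d hd =>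
    C.M0_conj (fun g hg => C.y_conj_W hGN D hg) hyE hd
  have hyx : C.y * C.x * C.y⁻¹ = C.x := conj_eq_iff_commute.2 C.cyx
  have hyEm : ∀ d, d ∉ C.toFrame.E → C.y * d * C.y⁻¹ ∉ C.toFrame.E := fun d hd h => hd <| by
    have := C.toFrame.conj_inv_E hyE h
    rwa [show C.y⁻¹ * (C.y * d * C.y⁻¹) * C.y = d by group] at this
  rcases C.card_of_invariant C.E_le_M0 (C.M0_le_W.trans C.W_le_R) (fun _ => C.x_conj_M0) with h | h | h
  · exact absurd ((Subgroup.eq_of_le_of_card_ge C.E_le_M0 (by rw [h, C.toFrame.card_E])).ge hd₀) hd₀E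
  · refine ⟨d₀, hd₀, hd₀E, ?_⟩
    rw [Subgroup.eq_of_le_of_card_ge (C.line_le hd₀) (by rw [h, C.card_line hd₀ hd₀E])]
    exact hyM d₀ hd₀
  · -- five lines
    haveI := Fact.mk Nat.prime_three
    set P : Finset G := Finset.univ.filter fun d => d ∈ C.M0 ∧ d ∉ C.toFrame.E
    have hP : ∀ {d : G}, d ∈ P ↔ d ∈ C.M0 ∧ d ∉ C.toFrame.E := fun {d} => by simp [P]
    have hfib : ∀ L ∈ P.image C.line, (P.filter fun d => C.line d = L).card = 12 := by
      intro L hL
      obtain ⟨d, hd, rfl⟩ := Finset.mem_image.1 hL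
      obtain ⟨hdM, hdE⟩ := hP.1 hd
      rw [show (P.filter fun g => C.line g = C.line d) =
          (Finset.univ.filter fun g => g ∈ C.line d) \ (Finset.univ.filter fun g => g ∈ C.toFrame.E) by
        ext g
        simp only [Finset.mem_filter, Finset.mem_sdiff, Finset.mem_univ, true_and, hP]
        exact ⟨fun ⟨⟨hg, hgE⟩, he⟩ => ⟨he ▸ C.self_mem_line hg, hgE⟩,
          fun ⟨hg, hgE⟩ => ⟨⟨C.line_le hdM hg, hgE⟩, C.line_eq hdM hg hgE⟩⟩,
        Finset.card_sdiff_of_subset (fun g hg => by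
          simp only [Finset.mem_filter, Finset.mem_univ, true_and] at hg ⊢; exact C.E_le_line hdM hg),
        ← Fintype.card_subtype, ← Fintype.card_subtype, ← Nat.card_eq_fintype_card,
        ← Nat.card_eq_fintype_card]
      show Nat.card (C.line d) - Nat.card C.toFrame.E = 12
      rw [C.card_line hdM hdE, C.toFrame.card_E]
    have hcard := Finset.card_eq_sum_card_image C.line P
    rw [Finset.sum_congr rfl hfib, Finset.sum_const, smul_eq_mul] at hcard
    have hPc : P.card = 60 := by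
      rw [show P = (Finset.univ.filter fun g => g ∈ C.M0) \ (Finset.univ.filter fun g => g ∈ C.toFrame.E) by
        ext g; simp [P],
        Finset.card_sdiff_of_subset (fun g hg => by
          simp only [Finset.mem_filter, Finset.mem_univ, true_and] at hg ⊢; exact C.E_le_M0 hg),
        ← Fintype.card_subtype, ← Fintype.card_subtype, ← Nat.card_eq_fintype_card,
        ← Nat.card_eq_fintype_card]
      show Nat.card C.M0 - Nat.card C.toFrame.E = 60
      rw [h, C.toFrame.card_E]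
    rw [hPc] at hcard
    have h5 : Fintype.card ↥(P.image C.line) = 5 := by rw [Fintype.card_coe]; omega
    have himg : ∀ d ∈ P, C.y * d * C.y⁻¹ ∈ P := fun d hd =>
      hP.2 ⟨hyM d (hP.1 hd).1, hyEm d (hP.1 hd).2⟩
    have hmap : ∀ d ∈ P, (C.line d).map (MulAut.conj C.y).toMonoidHom = C.line (C.y * d * C.y⁻¹) := by
      intro d hd
      obtain ⟨hdM, hdE⟩ := hP.1 hd
      obtain ⟨hM', hE'⟩ := hP.1 (himg d hd)
      refine Subgroup.eq_of_le_of_card_ge ?_ ?_
      · rintro _ ⟨g, hg, rfl⟩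
        exact C.line_stable hdM hyE (Or.inl hyx) (C.E_le_line hM') (fun z => C.line_x hM')
          (C.self_mem_line hM') hg
      · rw [Subgroup.card_map_of_injective (MulAut.conj C.y).injective, C.card_line hdM hdE,
          C.card_line hM' hE']
    have hmem : ∀ L ∈ P.image C.line, L.map (MulAut.conj C.y).toMonoidHom ∈ P.image C.line := by
      intro L hL
      obtain ⟨d, hd, rfl⟩ := Finset.mem_image.1 hL
      exact Finset.mem_image.2 ⟨_, himg d hd, (hmap d hd).symm⟩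
    let f : ↥(P.image C.line) → ↥(P.image C.line) := fun L => ⟨_, hmem L.1 L.2⟩
    obtain ⟨k, hk⟩ := C.hy
    have hf3 : ∀ L, f (f (f L)) = L := by
      intro L
      obtain ⟨d, hd, hdL⟩ := Finset.mem_image.1 L.2
      refine Subtype.ext ?_
      show ((L.1.map _).map _).map _ = L.1
      rw [← hdL, hmap d hd, hmap _ (himg d hd), hmap _ (himg _ (himg d hd))]
      refine C.line_eq (hP.1 hd).1 ?_ (hyEm _ (hyEm _ (hyEm _ (hP.1 hd).2)))
      rw [show C.y * (C.y * (C.y * d * C.y⁻¹) * C.y⁻¹) * C.y⁻¹ = C.y ^ 3 * d * (C.y ^ 3)⁻¹ by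
        simp only [pow_succ, pow_zero, one_mul, mul_inv_rev, mul_assoc], hk]
      clear hk
      induction k with
      | zero => simpa using C.self_mem_line (hP.1 hd).1
      | succ k ih =>
        rw [show C.x ^ (k + 1) * d * (C.x ^ (k + 1))⁻¹ = C.x * (C.x ^ k * d * (C.x ^ k)⁻¹) * C.x⁻¹ by
          rw [pow_succ']; group]
        exact C.line_x (hP.1 hd).1 ih
    let σ : Equiv.Perm ↥(P.image C.line) := ⟨f, fun L => f (f L), hf3, hf3⟩
    obtain ⟨L, hL⟩ := Equiv.Perm.exists_fixed_point_of_prime (p := 3) (n := 1) (σ := σ)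
      (by rw [h5]; norm_num) (Equiv.ext fun L => by
        show σ (σ (σ L)) = L; exact hf3 L)
    obtain ⟨d, hd, hdL⟩ := Finset.mem_image.1 L.2
    refine ⟨d, (hP.1 hd).1, (hP.1 hd).2, ?_⟩
    have h1 : (C.line d).map (MulAut.conj C.y).toMonoidHom = C.line d := by
      rw [hdL]; exact congrArg Subtype.val hL
    exact h1.le ⟨d, C.self_mem_line (hP.1 hd).1, rfl⟩

/-- The subgroup `A`. -/
theorem exists_A : ∃ A : Subgroup G, C.toFrame.E ≤ A ∧ A ≤ C.W ∧ Nat.card A = 16 ∧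
    (∀ a ∈ A, a * a = 1) ∧ (∀ a ∈ A, ∀ b ∈ A, Commute a b) ∧ (∀ a ∈ A, C.y * a * C.y⁻¹ ∈ A) ∧
    (∀ c : G, Commute c C.t → ∀ a ∈ A, c * a * c⁻¹ ∈ A) ∧
    (∀ a ∈ A, ∀ w ∈ C.W, C.Sim (a * w) (w * a)) := by
  classical
  haveI := Fact.mk Nat.prime_two
  obtain ⟨d₁, hd₁, hd₁E, hyd₁⟩ := C.exists_y_line hGN D
  have hyE : ∀ e ∈ C.toFrame.E, C.y * e * C.y⁻¹ ∈ C.toFrame.E := fun e he => C.toFrame.y_conj_E he
  have huE : ∀ e ∈ C.toFrame.E, C.u * e * C.u⁻¹ ∈ C.toFrame.E := fun e he => C.toFrame.u_conj_E he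
  have hyx : C.y * C.x * C.y⁻¹ = C.x := conj_eq_iff_commute.2 C.cyx
  have huu := mul_self_of_orderOf_two C.hu
  have huM : ∀ d ∈ C.M0, C.u * d * C.u⁻¹ ∈ C.M0 := fun d hd =>
    C.M0_conj (fun g hg => C.u_conj_W hg) huE hd
  have hEu : ∀ g, C.u * g * C.u⁻¹ ∈ C.toFrame.E → g ∈ C.toFrame.E := fun g h => by
    have := C.toFrame.conj_inv_E huE h
    rwa [show C.u⁻¹ * (C.u * g * C.u⁻¹) * C.u = g by group] at this
  -- `y` acts on the line as a power of `x`
  obtain ⟨j, hj⟩ : ∃ j : ℕ, C.Sim (C.y * d₁ * C.y⁻¹) (C.x ^ j * d₁ * (C.x ^ j)⁻¹) := by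
    rcases (C.mem_line hd₁).1 hyd₁ with p | p | p | p
    · exfalso
      refine hd₁E ?_
      have := C.toFrame.conj_inv_E hyE (C.sim_one.1 p)
      rwa [show C.y⁻¹ * (C.y * d₁ * C.y⁻¹) * C.y = d₁ by group] at this
    · exact ⟨0, by simpa using p⟩
    · exact ⟨1, by rw [pow_one]; exact p⟩
    · refine ⟨2, C.sim_trans p (C.sim_symm ?_)⟩
      rw [show C.x ^ 2 * d₁ * (C.x ^ 2)⁻¹ = C.x * (C.x * d₁ * C.x⁻¹) * C.x⁻¹ by
        simp only [pow_succ, pow_zero, one_mul, mul_inv_rev, mul_assoc]]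
      exact C.sim_third hd₁
  set p := C.x ^ j with hp
  have hpx : ∀ g, g ∈ C.toFrame.E → p * g * p⁻¹ = g := fun g hg =>
    conj_eq_iff_commute.2 ((C.toFrame.x_comm_E hg).pow_left j)
  have cpy : Commute C.y p := C.cyx.pow_right j
  -- the elements on which `y` acts as `p`
  let F : Subgroup G :=
    { carrier := {g | g ∈ C.M0 ∧ C.Sim (C.y * g * C.y⁻¹) (p * g * p⁻¹)}
      one_mem' := ⟨one_mem _, by simp only [mul_one, mul_inv_cancel]; exact C.sim_refl 1⟩
      mul_mem' := by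
        rintro a b ⟨ha, ha'⟩ ⟨hb, hb'⟩
        refine ⟨mul_mem ha hb, ?_⟩
        rw [show C.y * (a * b) * C.y⁻¹ = C.y * a * C.y⁻¹ * (C.y * b * C.y⁻¹) by group,
          show p * (a * b) * p⁻¹ = p * a * p⁻¹ * (p * b * p⁻¹) by group]
        exact C.sim_mul (C.y_conj_W hGN D hb.1) ha' hb'
      inv_mem' := by
        rintro a ⟨ha, ha'⟩
        have h : C.Sim a⁻¹ a := by
          show a⁻¹⁻¹ * a ∈ _
          rw [inv_inv]; exact ha.2.1
        exact ⟨inv_mem ha, C.sim_trans (C.sim_conj hyE h) (C.sim_trans ha'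
          (C.sim_symm (C.sim_conj (fun e he => by rw [hpx e he]; exact he) h)))⟩ }
  have hEF : C.toFrame.E ≤ F := fun e he => ⟨C.E_le_M0 he, by
    refine C.sim_trans (C.sim_one.2 (hyE e he)) (C.sim_symm (C.sim_one.2 ?_))
    rw [hpx e he]; exact he⟩
  have hxF : ∀ g ∈ F, C.x * g * C.x⁻¹ ∈ F := by
    rintro g ⟨hg, hg'⟩
    refine ⟨C.x_conj_M0 hg, ?_⟩
    have := C.sim_conj C.x_norm_E hg'
    rw [show C.x * (C.y * g * C.y⁻¹) * C.x⁻¹ = (C.x * C.y) * g * (C.x * C.y)⁻¹ by group,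
      C.cyx.symm.eq, show C.y * C.x * g * (C.y * C.x)⁻¹ = C.y * (C.x * g * C.x⁻¹) * C.y⁻¹ by group,
      show C.x * (p * g * p⁻¹) * C.x⁻¹ = (C.x * p) * g * (C.x * p)⁻¹ by group,
      ((Commute.refl C.x).pow_right j).eq,
      show p * C.x * g * (p * C.x)⁻¹ = p * (C.x * g * C.x⁻¹) * p⁻¹ by group] at this
    exact this
  have hd₁F : d₁ ∈ F := ⟨hd₁, hj⟩
  -- `u` preserves them
  have huF : ∀ g ∈ F, C.u * g * C.u⁻¹ ∈ F := by
    rintro g ⟨hg, hg'⟩
    refine ⟨huM g hg, C.sim_symm ?_⟩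
    have hyinv : C.Sim (p⁻¹ * g * p) (C.y⁻¹ * g * C.y) := by
      have hc : ∀ e ∈ C.toFrame.E, (p⁻¹ * C.y⁻¹) * e * (p⁻¹ * C.y⁻¹)⁻¹ ∈ C.toFrame.E := fun e he => by
        have he' := C.toFrame.conj_inv_E hyE he
        rw [show p⁻¹ * C.y⁻¹ * e * (p⁻¹ * C.y⁻¹)⁻¹ = p⁻¹ * (C.y⁻¹ * e * C.y) * p by group]
        have := conj_eq_iff_commute.2 (((C.toFrame.x_comm_E he').pow_left j).inv_left)
        rw [inv_inv] at this
        rw [this]; exact he'
      have := C.sim_conj hc hg'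
      rw [show p⁻¹ * C.y⁻¹ * (C.y * g * C.y⁻¹) * (p⁻¹ * C.y⁻¹)⁻¹ = p⁻¹ * g * p by group,
        show p⁻¹ * C.y⁻¹ * (p * g * p⁻¹) * (p⁻¹ * C.y⁻¹)⁻¹ =
          (p⁻¹ * (C.y⁻¹ * p)) * g * (p⁻¹ * (C.y⁻¹ * p))⁻¹ by group,
        cpy.inv_left.eq, inv_mul_cancel_left, inv_inv] at this
      exact this
    have h := C.sim_conj huE hyinv
    have hup : C.u * p * C.u⁻¹ = p⁻¹ := by rw [hp, ← conj_pow, C.u_x, inv_pow]
    rw [show C.u * (C.y⁻¹ * g * C.y) * C.u⁻¹ =
        (C.u * C.y * C.u⁻¹)⁻¹ * (C.u * g * C.u⁻¹) * (C.u * C.y * C.u⁻¹) by group, C.u_y', inv_inv,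
      show C.u * (p⁻¹ * g * p) * C.u⁻¹ =
        (C.u * p * C.u⁻¹)⁻¹ * (C.u * g * C.u⁻¹) * (C.u * p * C.u⁻¹) by group, hup, inv_inv] at h
    exact h
  -- a line invariant under `y` and `u`
  obtain ⟨d, hd, hdE, hdF, hdu⟩ : ∃ d ∈ C.M0, d ∉ C.toFrame.E ∧ d ∈ F ∧ C.u * d * C.u⁻¹ ∈ C.line d := by
    by_cases h1 : C.u * d₁ * C.u⁻¹ ∈ C.line d₁
    · exact ⟨d₁, hd₁, hd₁E, hd₁F, h1⟩
    set d' := C.u * d₁ * C.u⁻¹ with hd'
    have hd'M : d' ∈ C.M0 := huM d₁ hd₁
    refine ⟨d₁ * d', mul_mem hd₁ hd'M, fun h => h1 ?_, mul_mem hd₁F (huF d₁ hd₁F), ?_⟩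
    · have hh := mul_mem (inv_mem (C.self_mem_line hd₁)) (C.E_le_line hd₁ h)
      rwa [inv_mul_cancel_left] at hh
    · refine (C.mem_line (mul_mem hd₁ hd'M)).2 (Or.inr (Or.inl ?_))
      rw [show C.u * (d₁ * d') * C.u⁻¹ = C.u * d₁ * C.u⁻¹ * (C.u * d' * C.u⁻¹) by group, ← hd',
        show C.u * d' * C.u⁻¹ = d₁ by
          rw [hd', show C.u * (C.u * d₁ * C.u⁻¹) * C.u⁻¹ = C.u * C.u * d₁ * (C.u * C.u)⁻¹ by group, huu,
            one_mul, inv_one, mul_one]]
      exact C.sim_comm hd'M hd₁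
  set A := C.line d with hA
  have hAx : ∀ a ∈ A, C.x * a * C.x⁻¹ ∈ A := fun a ha => C.line_x hd ha
  have hAp : ∀ n : ℕ, ∀ a ∈ A, C.x ^ n * a * (C.x ^ n)⁻¹ ∈ A := fun n => by
    induction n with
    | zero => intro a ha; simpa using ha
    | succ n ih =>
      intro a ha
      rw [show C.x ^ (n + 1) * a * (C.x ^ (n + 1))⁻¹ = C.x * (C.x ^ n * a * (C.x ^ n)⁻¹) * C.x⁻¹ by
        rw [pow_succ']; group]
      exact hAx _ (ih a ha)
  have hyd : C.y * d * C.y⁻¹ ∈ A := by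
    have := mul_mem (hAp j d (C.self_mem_line hd)) (C.E_le_line hd (C.sim_symm hdF.2 :
      (C.x ^ j * d * (C.x ^ j)⁻¹)⁻¹ * (C.y * d * C.y⁻¹) ∈ C.toFrame.E))
    rwa [mul_inv_cancel_left] at this
  have hAy : ∀ a ∈ A, C.y * a * C.y⁻¹ ∈ A := fun a ha =>
    C.line_stable hd hyE (Or.inl hyx) (C.E_le_line hd) hAx hyd ha
  have hAu : ∀ a ∈ A, C.u * a * C.u⁻¹ ∈ A := fun a ha =>
    C.line_stable hd huE (Or.inr C.u_x) (C.E_le_line hd) hAx hdu ha
  have hAW : A ≤ C.W := (C.line_le hd).trans C.M0_le_W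
  -- abelian
  set b := C.x * d * C.x⁻¹ with hb
  have hbM : b ∈ C.M0 := C.x_conj_M0 hd
  set c := (d * b)⁻¹ * (b * d) with hc
  have hcE : c ∈ C.toFrame.E := C.sim_comm hd hbM
  have hbd : b * d = d * b * c := (mul_inv_cancel_left _ _).symm
  have hcentral : ∀ e ∈ C.toFrame.E, ∀ w ∈ C.W, e * w = w * e :=
    fun e he w hw => (C.comm_E_of_mem_W hw he).eq.symm
  have hyc : C.y * c * C.y⁻¹ = c := by
    obtain ⟨e₁, he₁, h₁⟩ : ∃ e ∈ C.toFrame.E, C.y * d * C.y⁻¹ = p * d * p⁻¹ * e :=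
      ⟨_, C.sim_symm hdF.2, (mul_inv_cancel_left _ _).symm⟩
    obtain ⟨e₂, he₂, h₂⟩ : ∃ e ∈ C.toFrame.E, C.y * b * C.y⁻¹ = p * b * p⁻¹ * e :=
      ⟨_, C.sim_symm (hxF d hdF).2, (mul_inv_cancel_left _ _).symm⟩
    have hP : p * d * p⁻¹ ∈ C.W := hAW (hAp j d (C.self_mem_line hd))
    have hQ : p * b * p⁻¹ ∈ C.W := hAW (hAp j b (hAx d (C.self_mem_line hd)))
    have k1 : ∀ {P Q : G}, P ∈ C.W → Q ∈ C.W →
        P * e₁ * (Q * e₂) = P * Q * (e₁ * e₂) ∧ Q * e₂ * (P * e₁) = Q * P * (e₁ * e₂) := by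
      intro P Q hP hQ
      constructor
      · rw [show P * e₁ * (Q * e₂) = P * (e₁ * Q) * e₂ by group, hcentral e₁ he₁ Q hQ]; group
      · rw [show Q * e₂ * (P * e₁) = Q * (e₂ * P) * e₁ by group, hcentral e₂ he₂ P hP,
          (C.toFrame.E_comm he₁ he₂).eq]; group
    have hconj : (p * d * p⁻¹ * e₁ * (p * b * p⁻¹ * e₂))⁻¹ * (p * b * p⁻¹ * e₂ * (p * d * p⁻¹ * e₁)) = c := by
      obtain ⟨q1, q2⟩ := k1 hP hQ
      rw [q1, q2, show p * d * p⁻¹ * (p * b * p⁻¹) = p * (d * b) * p⁻¹ by group,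
        show p * b * p⁻¹ * (p * d * p⁻¹) = p * (b * d) * p⁻¹ by group, hbd,
        show (p * (d * b) * p⁻¹ * (e₁ * e₂))⁻¹ * (p * (d * b * c) * p⁻¹ * (e₁ * e₂)) =
          (e₁ * e₂)⁻¹ * (p * c * p⁻¹) * (e₁ * e₂) by group, hpx c hcE, mul_assoc,
        (C.toFrame.E_comm hcE (mul_mem he₁ he₂)).eq, inv_mul_cancel_left]
    rw [← h₁, ← h₂] at hconj
    rw [show C.y * c * C.y⁻¹ = (C.y * d * C.y⁻¹ * (C.y * b * C.y⁻¹))⁻¹ *
      (C.y * b * C.y⁻¹ * (C.y * d * C.y⁻¹)) by rw [hc]; group]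
    exact hconj
  have cdb : Commute d b := by
    rw [C.toFrame.eq_one_of_y_fix hcE hyc, mul_one] at hbd
    exact hbd.symm
  have hgen : ∀ a ∈ A, ∃ e ∈ C.toFrame.E, a = e ∨ a = d * e ∨ a = b * e ∨ a = d * b * e := by
    intro a ha
    rcases (C.mem_line hd).1 ha with q | q | q | q
    · exact ⟨a, C.sim_one.1 q, Or.inl rfl⟩
    · exact ⟨_, C.sim_symm q, Or.inr (Or.inl (mul_inv_cancel_left _ _).symm)⟩
    · exact ⟨_, C.sim_symm q, Or.inr (Or.inr (Or.inl (mul_inv_cancel_left _ _).symm))⟩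
    · exact ⟨_, C.sim_symm q, Or.inr (Or.inr (Or.inr (mul_inv_cancel_left _ _).symm))⟩
  have hcomm : ∀ a ∈ A, ∀ a' ∈ A, Commute a a' := by
    have cd : ∀ a ∈ A, Commute d a ∧ Commute b a := by
      intro a ha
      obtain ⟨e, he, hh⟩ := hgen a ha
      have c1 := C.comm_E_of_mem_W hd.1 he
      have c2 := C.comm_E_of_mem_W hbM.1 he
      rcases hh with rfl | rfl | rfl | rfl
      · exact ⟨c1, c2⟩
      · exact ⟨(Commute.refl d).mul_right c1, cdb.symm.mul_right c2⟩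
      · exact ⟨cdb.mul_right c1, (Commute.refl b).mul_right c2⟩
      · exact ⟨((Commute.refl d).mul_right cdb).mul_right c1, (cdb.symm.mul_right (Commute.refl b)).mul_right c2⟩
    intro a ha a' ha'
    obtain ⟨e, he, hh⟩ := hgen a ha
    have c3 : Commute e a' := (C.comm_E_of_mem_W (hAW ha') he).symm
    rcases hh with rfl | rfl | rfl | rfl
    · exact c3
    · exact (cd a' ha').1.mul_left c3
    · exact (cd a' ha').2.mul_left c3
    · exact ((cd a' ha').1.mul_left (cd a' ha').2).mul_left c3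
  have hb2 : b * b = d * d := by
    rw [hb, show C.x * d * C.x⁻¹ * (C.x * d * C.x⁻¹) = C.x * (d * d) * C.x⁻¹ by group]
    exact conj_eq_iff_commute.2 (C.toFrame.x_comm_E hd.2.1)
  have hdd : d * d = 1 := by
    obtain ⟨e, he, h3⟩ : ∃ e ∈ C.toFrame.E, C.x * b * C.x⁻¹ = d * b * e :=
      ⟨_, C.sim_symm (C.sim_third hd), (mul_inv_cancel_left _ _).symm⟩
    have hx2 : C.x * b * C.x⁻¹ * (C.x * b * C.x⁻¹) = d * d := by
      rw [show C.x * b * C.x⁻¹ * (C.x * b * C.x⁻¹) = C.x * (b * b) * C.x⁻¹ by group, hb2]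
      exact conj_eq_iff_commute.2 (C.toFrame.x_comm_E hd.2.1)
    rw [h3] at hx2
    have hsq : d * b * (d * b) = d * d * (d * d) := by
      rw [show d * b * (d * b) = d * (b * d) * b by group, ← cdb.eq,
        show d * (d * b) * b = d * d * (b * b) by group, hb2]
    rw [show d * b * e * (d * b * e) = d * b * (e * (d * b)) * e by group,
      hcentral e he _ (mul_mem hd.1 hbM.1), show d * b * (d * b * e) * e = d * b * (d * b) * (e * e) by group,
      hsq, C.toFrame.sq_mem_E he, mul_one, mul_eq_left] at hx2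
    exact hx2
  have hsq : ∀ a ∈ A, a * a = 1 := by
    intro a ha
    obtain ⟨e, he, hh⟩ := hgen a ha
    have hee := C.toFrame.sq_mem_E he
    have key : ∀ z ∈ C.W, z * z = 1 → z * e * (z * e) = 1 := fun z hz h => by
      rw [show z * e * (z * e) = z * (e * z) * e by group, hcentral e he z hz,
        show z * (z * e) * e = z * z * (e * e) by group, h, hee, one_mul]
    rcases hh with rfl | rfl | rfl | rfl
    · exact hee
    · exact key d hd.1 hdd
    · exact key b hbM.1 (hb2.trans hdd)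
    · refine key _ (mul_mem hd.1 hbM.1) ?_
      rw [show d * b * (d * b) = d * (b * d) * b by group, ← cdb.eq,
        show d * (d * b) * b = d * d * (b * b) by group, hb2, hdd, one_mul]
  refine ⟨A, C.E_le_line hd, hAW, C.card_line hd hdE, hsq, hcomm, hAy, ?_,
    fun a ha => (C.line_le hd ha).2.2⟩
  -- normal in the centraliser of `t`
  set T : Subgroup G := Cg C.t ⊓ Ng A
  have hTmem : ∀ {g : G}, (∀ a ∈ A, g * a * g⁻¹ ∈ A) → g ∈ Ng A := fun {g} h => by
    refine Subgroup.mem_normalizer_iff.2 fun a => ⟨h a, fun ha => ?_⟩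
    obtain ⟨a', ha'⟩ := Finite.surjective_of_injective (f := fun z : A => (⟨g * z * g⁻¹, h z z.2⟩ : A))
      (fun z w e => Subtype.ext (conj_injective g (congrArg Subtype.val e))) ⟨_, ha⟩
    have e : (a' : G) = a := conj_injective g (congrArg Subtype.val ha')
    exact e ▸ a'.2
  set N : Subgroup G := C.R ⊓ Ng A
  have hAR : A ≤ C.R := hAW.trans C.W_le_R
  have hAN : A ≤ N := le_inf hAR Subgroup.le_normalizer
  have hxNg : C.x ∈ Ng A := hTmem hAx
  have hxN : ∀ n ∈ N, C.x * n * C.x⁻¹ ∈ N := fun n hn =>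
    ⟨C.x_conj_R hn.1, (Ng A).mul_mem ((Ng A).mul_mem hxNg hn.2) ((Ng A).inv_mem hxNg)⟩
  have hN : C.R ≤ Ng A := by
    haveI : Group.IsNilpotent C.R :=
      (IsPGroup.of_card (n := 6) (by rw [C.card_R]; norm_num) : IsPGroup 2 C.R).isNilpotent
    have hnc := Group.normalizerCondition_of_isNilpotent (G := C.R)
    have hlt : A.subgroupOf C.R < ⊤ := by
      refine lt_top_iff_ne_top.2 fun e => ?_
      have := congrArg (fun K : Subgroup C.R => Nat.card K) e
      have h16 : Nat.card (A.subgroupOf C.R) = 16 :=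
        (Nat.card_congr (Subgroup.subgroupOfEquivOfLe hAR).toEquiv).trans (C.card_line hd hdE)
      simp only [Subgroup.card_top, C.card_R, h16] at this
      omega
    obtain ⟨m, hm, hm'⟩ := SetLike.exists_of_lt (hnc _ hlt)
    have hmN : (m : G) ∈ N :=
      ⟨m.2, hTmem fun a ha => (Subgroup.mem_normalizer_iff.1 hm ⟨a, hAR ha⟩).1 ha⟩
    rcases C.card_of_invariant ((C.E_le_line hd).trans hAN) inf_le_left hxN with h | h | h
    · exfalso
      have := Subgroup.card_le_of_le hAN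
      rw [h, C.card_line hd hdE] at this
      omega
    · exfalso
      exact hm' (show (m : G) ∈ A from
        (Subgroup.eq_of_le_of_card_ge hAN (by rw [h, C.card_line hd hdE])).ge hmN)
    · exact fun r hr => ((Subgroup.eq_of_le_of_card_ge (inf_le_left : N ≤ C.R) (by rw [h, C.card_R])).ge hr).2
  have huR : C.u ∉ C.R := fun h => by
    have h1 := mul_mem h (inv_mem (C.x_conj_R h))
    rw [show C.u * (C.x * C.u * C.x⁻¹)⁻¹ = C.u * C.x * C.u⁻¹ * C.x⁻¹ by group, C.u_x, ← mul_inv_rev] at h1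
    have h2 := Subgroup.orderOf_dvd_natCard _ (inv_mem h1)
    rw [inv_inv, ← pow_two, C.card_R, orderOf_pow' _ (by norm_num), C.hx] at h2
    norm_num at h2
  have hT := C.K_top T (le_inf C.R_le hN) inf_le_left ⟨mem_Cg.2 C.cxt.eq, hxNg⟩ C.u
    ⟨mem_Cg.2 C.cut.eq, hTmem hAu⟩ huR (by rw [pow_two]; exact huu)
  intro c hct a ha
  have hcT : c ∈ T := hT.ge (mem_Cg.2 hct.eq)
  exact (Subgroup.mem_normalizer_iff.1 hcT.2 a).1 ha

end Core

end CfsgLib.MTwentyTwoUnique
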