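import Cfsg.Agent.MTwentyTwoUnique.Rank
import Cfsg.Agent.Mathieu.SmallSimple

/-!
A simple group of order 443520 is the Mathieu group of degree 22.
-/

set_option autoImplicit false
set_option linter.style.haveILetI false

namespace CfsgLib.MTwentyTwoUnique

open Cfsg

universe u

/-- A simple subgroup of the order of a simple subgroup of index two coincides with it. -/
theorem eq_of_index_two {A : Type*} [Group A] [Finite A] {H K : Subgroup A} (hH : H.index = 2)
    (hK : IsSimpleGroup K) (hcard : Nat.card K = Nat.card H) (hbig : 2 < Nat.card K) : K = H := by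
  have hn := Subgroup.normal_of_index_eq_two hH
  rcases (Subgroup.Normal.subgroupOf hn K).eq_bot_or_eq_top with h | h
  · exfalso
    rw [Subgroup.subgroupOf_eq_bot, disjoint_iff] at h
    have hout : ∀ a : K, a ≠ 1 → (a : A) ∉ H := fun a ha haH => ha (Subtype.ext (by
      have : (a : A) ∈ H ⊓ K := ⟨haH, a.2⟩
      rwa [h, Subgroup.mem_bot] at this))
    have hinv : ∀ a b : K, a ≠ 1 → b ≠ 1 → a * b = 1 := fun a b ha hb => by
      by_contra hne
      exact hout _ hne ((Subgroup.mul_mem_iff_of_index_two hH).2 (iff_of_false (hout a ha) (hout b hb)))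
    have : Nat.card K ≤ 2 := by
      by_cases hex : ∃ a : K, a ≠ 1
      · obtain ⟨a, ha⟩ := hex
        refine (Nat.card_le_card_of_surjective (fun i : Fin 2 => if i = 0 then (1 : K) else a) fun b => ?_).trans
          (by rw [Nat.card_fin])
        by_cases hb : b = 1
        · exact ⟨0, by simp [hb]⟩
        · exact ⟨1, by
            have := (hinv a a ha ha).trans (hinv a b ha hb).symm
            simpa using mul_left_cancel this⟩
      · push Not at hex
        haveI : Subsingleton K := ⟨fun a b => (hex a).trans (hex b).symm⟩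
        exact (Finite.card_le_one_iff_subsingleton.2 inferInstance).trans (by norm_num)
    omega
  · exact Subgroup.eq_of_le_of_card_ge (Subgroup.subgroupOf_eq_top.1 h) hcard.ge

/-- The range of an embedding into the automorphisms of a system S(3,6,22). -/
theorem range_eq {G : Type*} [Group G] [IsSimpleGroup G] (hGN : Nat.card G = 443520) {α : Type*}
    [Fintype α] [DecidableEq α] {B : Set (Finset α)} {H : Subgroup (setSystemAut B)} (hH : H.index = 2)
    (hHM : IsM22 H) (f : G →* setSystemAut B) (hf : Function.Injective f) : f.range = H := by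
  have e := MonoidHom.ofInjective hf
  have hc : Nat.card f.range = 443520 := by rw [← Nat.card_congr e.toEquiv, hGN]
  exact eq_of_index_two hH (e.symm.isSimpleGroup_congr.2 inferInstance) (hc.trans hHM.2.symm)
    (by rw [hc]; norm_num)

theorem exists_embedding' (G : Type u) [Group G] [Finite G] [IsSimpleGroup G]
    (hGN : Nat.card G = 443520) :
    ∃ (α : Type u) (_ : Fintype α) (_ : DecidableEq α) (B : Set (Finset α)),
      Fintype.card α = 22 ∧ IsSteinerSystem 3 6 B ∧
        ∃ f : G →* setSystemAut B, Function.Injective f := by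
  haveI := Fintype.ofFinite G
  haveI : Fact (Nat.Prime 11) := ⟨by norm_num⟩
  haveI : Fact (Nat.Prime 7) := ⟨by norm_num⟩
  haveI : Fact (Nat.Prime 5) := ⟨by norm_num⟩
  obtain ⟨D⟩ := exists_data (G := G) hGN
  exact D.exists_embedding hGN

/-- **The Mathieu group of degree 22 is determined by its order.** -/
theorem iso_of_card {G : Type*} [Group G] [Finite G] (hs : IsSimpleGroup G)
    (hGN : Nat.card G = 443520) : Nonempty (G ≃* Spor.M22) := by
  classical
  haveI := hs
  haveI := Mathieu.simple_SporM22
  obtain ⟨α, _, _, B, hα, hB, f, hf⟩ := exists_embedding' G hGN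
  obtain ⟨β, _, _, B', hβ, hB', g, hg⟩ := exists_embedding' Spor.M22 Mathieu.card_SporM22
  obtain ⟨H, hH, hHM⟩ := (Mathieu.S22.aut22 hβ hB').2.2
  obtain ⟨e, he⟩ := Mathieu.S22.unique22 hα hβ hB hB'
  set f' := (Mathieu.setSystemAutCongr e he).toMonoidHom.comp f
  have hf' : Function.Injective f' := (Mathieu.setSystemAutCongr e he).injective.comp hf
  exact ⟨(MonoidHom.ofInjective hf').trans ((MulEquiv.subgroupCongr
    ((range_eq hGN hH hHM f' hf').trans (range_eq Mathieu.card_SporM22 hH hHM g hg).symm)).trans
      (MonoidHom.ofInjective hg).symm)⟩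

end CfsgLib.MTwentyTwoUnique
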