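import Cfsg.Agent.MTwentyTwoUnique.Degrees
import Cfsg.Agent.Characters.FixedPoints
import Cfsg.Agent.SylowThreeNine.Values

/-!
Elements of order 3 in a simple group of order 443520: one class, with centralisers of order 36 once some
of them commute with an involution; centralisers of the elements of order 5, 7 and 11.
-/

set_option autoImplicit false
set_option linter.style.haveILetI false
set_option linter.unusedSectionVars false
set_option maxRecDepth 20000
set_option maxHeartbeats 800000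

namespace CfsgLib.MTwentyTwoUnique

open Cfsg CfsgLib.Characters CfsgLib.DefectOne CfsgLib.BrauerOrderP
open CfsgLib.MElevenUnique (Cg mem_Cg)
open scoped ComplexConjugate Pointwise

universe u

variable {G : Type u} [Group G] [Fintype G]

/-- Centralisers of the elements of order `p` when the complement is trivial. -/
theorem card_Cg_of_prime {p : ℕ} [Fact p.Prime] {L : Local p G} (hK : Nat.card L.K = 1) {y : G}
    (hy : orderOf y = p) : Nat.card (Cg y) = p := by
  have hpp : p.Prime := Fact.out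
  obtain ⟨Q, hQ⟩ := MElevenUnique.exists_sylow_of_orderOf hy
  obtain ⟨c, hc⟩ := MulAction.exists_smul_eq G Q L.P
  have hyP : c * y * c⁻¹ ∈ (L.P : Subgroup G) := by
    rw [← hc, Sylow.coe_subgroup_smul, Subgroup.mem_pointwise_smul_iff_inv_smul_mem]
    simpa [MulAut.smul_def, mul_assoc] using hQ
  have hy1 : c * y * c⁻¹ ≠ 1 := fun h => by
    rw [conj_eq_one_iff.1 h, orderOf_one] at hy
    exact hpp.ne_one hy.symm
  rw [← MElevenUnique.card_Cg_conj y c,
    show Cg (c * y * c⁻¹) = Subgroup.centralizer ((L.P : Subgroup G) : Set G) from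
      L.centralizer_singleton hyP hy1, L.card_centralizer, hK, mul_one]

/-- The possible columns at an element of order 3, by centraliser order and degree. -/
def threeCol (s : ℤ) : ℕ → ℤ
  | 1 => 1 | 21 => 3 * s | 45 => 0 | 55 => 1 | 99 => 0 | 154 => 1 | 210 => 3 * s | 231 => -3 * s
  | 280 => 1 | 385 => -2 | _ => 0

/-- The columns satisfying the relations. -/
theorem three_check : ((List.range 5).all fun B : ℕ => (List.range 7).all fun E : ℕ =>
    (List.range 7).all fun I : ℕ => (List.range 23).all fun A : ℕ =>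
      let a : ℤ := 3 * ((A : ℤ) - 11)
      let b : ℤ := 9 * ((B : ℤ) - 2)
      let e : ℤ := 9 * ((E : ℤ) - 3)
      let i : ℤ := 3 * ((I : ℤ) - 3) + 1
      let n : ℤ := 1 + a * a + 2 * (b * b) + (1 + e - b) * (1 + e - b) + e * e +
        (i + b - e) * (i + b - e) + (a + i - 2 * b - 1) * (a + i - 2 * b - 1) +
        (i + b - 1 - a) * (i + b - 1 - a) + 2 * (i * i) + (1 - 3 * i) * (1 - 3 * i)
      decide (n ∉ ([9, 18, 36, 72, 144, 288, 576, 1152] : List ℤ)) ||
        (decide (b = 0) && decide (e = 0) && decide (i = 1) &&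
          ((decide (n = 9) && decide (a = 0)) || (decide (n = 36) && (decide (a = 3) || decide (a = -3)))))) =
      true := by
  decide +kernel

/-- The integer solutions. -/
theorem three_solve {f : ℕ → ℤ} {C : ℤ} (h1 : f 1 = 1) (h21 : (3 : ℤ) ∣ ((21 : ℕ) : ℤ) - f 21)
    (h280 : (3 : ℤ) ∣ ((280 : ℕ) : ℤ) - f 280) (h45 : (9 : ℤ) ∣ f 45) (h99 : (9 : ℤ) ∣ f 99)
    (e11 : 1 + (-1 * f 280 + (1 * f 210 + (1 * f 45 + (1 * f 45 + (-1 * f 21 + 0))))) = 0)
    (e7 : 1 + (1 * f 99 + (-1 * f 55 + (-1 * f 45 + 0))) = 0)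
    (e5 : 1 + (1 * f 231 + (-1 * f 154 + (-1 * f 99 + (1 * f 21 + 0)))) = 0)
    (ed : 1 + 21 * f 21 + 90 * f 45 + 55 * f 55 + 99 * f 99 + 154 * f 154 + 210 * f 210 + 231 * f 231 +
      560 * f 280 + 385 * f 385 = 0)
    (ez : 1 + 5 * f 21 - 6 * f 45 + 7 * f 55 + 3 * f 99 + 10 * f 154 + 2 * f 210 + 7 * f 231 -
      16 * f 280 + f 385 = 0)
    (en : 1 + f 21 * f 21 + 2 * (f 45 * f 45) + f 55 * f 55 + f 99 * f 99 + f 154 * f 154 + f 210 * f 210 +
      f 231 * f 231 + 2 * (f 280 * f 280) + f 385 * f 385 = C)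
    (hCmem : C ∈ ([9, 18, 36, 72, 144, 288, 576, 1152] : List ℤ)) :
    ∃ s : ℤ, ((C = 9 ∧ s = 0) ∨ (C = 36 ∧ (s = 1 ∨ s = -1))) ∧ ∀ d ∈ degSet, f d = threeCol s d := by
  obtain ⟨A, hA⟩ := h21
  obtain ⟨I, hI⟩ := h280
  obtain ⟨B, hB⟩ := h45
  obtain ⟨E, hE⟩ := h99
  have ea : f 21 = 3 * (7 - A) := by push_cast at hA; omega
  have ei : f 280 = 3 * (93 - I) + 1 := by push_cast at hI; omega
  set A' := 7 - A
  set I' := 93 - I
  have ec : f 55 = 1 + f 99 - f 45 := by omega
  have ef : f 154 = f 280 + f 45 - f 99 := by omega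
  have eg : f 210 = f 21 + f 280 - 2 * f 45 - 1 := by omega
  have eh : f 231 = f 280 + f 45 - 1 - f 21 := by omega
  have ej : f 385 = 1 - 3 * f 280 := by omega
  rw [ec, ef, eg, eh, ej] at en
  have hCle : C ≤ 1152 := by
    simp only [List.mem_cons, List.not_mem_nil, or_false] at hCmem
    omega
  have bound : ∀ v : ℤ, v * v ≤ 1152 → -33 ≤ v ∧ v ≤ 33 := fun v hv => by
    constructor <;> by_contra hh <;> nlinarith only [hv, hh]
  have nn := fun v : ℤ => mul_self_nonneg v
  have ba := bound (f 21) (by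
    linarith only [hCle, en, nn (f 45), nn (1 + f 99 - f 45), nn (f 99), nn (f 280 + f 45 - f 99),
      nn (f 21 + f 280 - 2 * f 45 - 1), nn (f 280 + f 45 - 1 - f 21), nn (f 280), nn (1 - 3 * f 280)])
  have bb : f 45 * f 45 ≤ 576 := by
    linarith only [hCle, en, nn (f 21), nn (1 + f 99 - f 45), nn (f 99), nn (f 280 + f 45 - f 99),
      nn (f 21 + f 280 - 2 * f 45 - 1), nn (f 280 + f 45 - 1 - f 21), nn (f 280), nn (1 - 3 * f 280)]
  have be := bound (f 99) (by
    linarith only [hCle, en, nn (f 21), nn (f 45), nn (1 + f 99 - f 45), nn (f 280 + f 45 - f 99),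
      nn (f 21 + f 280 - 2 * f 45 - 1), nn (f 280 + f 45 - 1 - f 21), nn (f 280), nn (1 - 3 * f 280)])
  have bi := bound (1 - 3 * f 280) (by
    linarith only [hCle, en, nn (f 21), nn (f 45), nn (1 + f 99 - f 45), nn (f 99), nn (f 280 + f 45 - f 99),
      nn (f 21 + f 280 - 2 * f 45 - 1), nn (f 280 + f 45 - 1 - f 21), nn (f 280)])
  have bb' : -24 ≤ f 45 ∧ f 45 ≤ 24 := by constructor <;> by_contra hh <;> nlinarith only [bb, hh]
  have hmem : ∀ (z lo : ℤ) (w : ℕ), lo ≤ z → z < lo + w → ∃ n ∈ List.range w, z = (n : ℤ) + lo :=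
    fun z lo w h1 h2 => ⟨(z - lo).toNat, List.mem_range.2 (by omega), by omega⟩
  obtain ⟨nB, hnB, eB⟩ := hmem B (-2) 5 (by omega) (by push_cast; omega)
  obtain ⟨nE, hnE, eE⟩ := hmem E (-3) 7 (by omega) (by push_cast; omega)
  obtain ⟨nI, hnI, eI⟩ := hmem I' (-3) 7 (by omega) (by push_cast; omega)
  obtain ⟨nA, hnA, eA⟩ := hmem A' (-11) 23 (by omega) (by push_cast; omega)
  have hk := List.all_eq_true.1 (List.all_eq_true.1 (List.all_eq_true.1 (List.all_eq_true.1 three_check
    nB hnB) nE hnE) nI hnI) nA hnA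
  simp only [Bool.or_eq_true, Bool.and_eq_true, decide_eq_true_eq] at hk
  have sa : (3 : ℤ) * ((nA : ℤ) - 11) = f 21 := by omega
  have sb : (9 : ℤ) * ((nB : ℤ) - 2) = f 45 := by omega
  have se : (9 : ℤ) * ((nE : ℤ) - 3) = f 99 := by omega
  have si : (3 : ℤ) * ((nI : ℤ) - 3) + 1 = f 280 := by omega
  rw [sa, sb, se, si] at hk
  rcases hk with hk | ⟨⟨⟨k1, k2⟩, k3⟩, hk⟩
  · refine absurd ?_ hk
    rw [← en] at hCmem
    convert hCmem using 1
  refine ⟨f 21 / 3, ?_, fun d hd => ?_⟩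
  · rcases hk with ⟨k4, k5⟩ | ⟨k4, k5 | k5⟩ <;> rw [k5] at en ⊢ <;> rw [k1, k2, k3] at en <;>
      norm_num at en ⊢ <;> omega
  · have ea' : 3 * (f 21 / 3) = f 21 := by omega
    fin_cases hd <;> simp only [threeCol] <;> omega

variable [IsSimpleGroup G] [Fact (Nat.Prime 11)] [Fact (Nat.Prime 7)] [Fact (Nat.Prime 5)]
  (hGN : Nat.card G = 443520) (D : Data G)
include hGN D

theorem Data.card_Cg_five {y : G} (hy : orderOf y = 5) : Nat.card (Cg y) = 5 :=
  card_Cg_of_prime (D.card_Sylow_five hGN).2.2 hy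

theorem Data.card_Cg_seven {y : G} (hy : orderOf y = 7) : Nat.card (Cg y) = 7 :=
  card_Cg_of_prime (D.card_Sylow_seven hGN).2.2 hy

theorem Data.card_Cg_eleven {y : G} (hy : orderOf y = 11) : Nat.card (Cg y) = 11 :=
  card_Cg_of_prime (eleven_local hGN D.L₁₁).2.2 hy

/-- A centraliser has order prime to 5, 7 and 11 unless the element has. -/
theorem Data.not_dvd_Cg {x : G} (hx : x ≠ 1) {p : ℕ} (hp : p = 5 ∨ p = 7 ∨ p = 11)
    (h : ¬ p ∣ orderOf x) : ¬ p ∣ Nat.card (Cg x) := by
  have hpp : p.Prime := by rcases hp with rfl | rfl | rfl <;> norm_num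
  haveI := Fact.mk hpp
  intro hd
  obtain ⟨y, hy⟩ := exists_prime_orderOf_dvd_card' (G := Cg x) p hd
  have hy' : orderOf (y : G) = p := by rw [Subgroup.orderOf_coe]; exact hy
  have hxy : x ∈ Cg (y : G) := MElevenUnique.mem_Cg_comm.1 y.2
  have hcard : Nat.card (Cg (y : G)) = p := by
    rcases hp with rfl | rfl | rfl
    exacts [D.card_Cg_five hGN hy', D.card_Cg_seven hGN hy', D.card_Cg_eleven hGN hy']
  have h1 := Subgroup.orderOf_dvd_natCard _ hxy
  rw [hcard, Nat.dvd_prime hpp] at h1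
  rcases h1 with r | r
  · exact hx (orderOf_eq_one_iff.1 r)
  · exact h (r ▸ dvd_rfl)

/-- Characters of the same degree agree at the elements of order prime to 77. -/
theorem Data.same_of_deg {g : G} (h7 : ¬ 7 ∣ orderOf g) (h11 : ¬ 11 ∣ orderOf g)
    {χ χ' : IrrCharacter G} (h : deg χ = deg χ') : (χ : G → ℂ) g = (χ' : G → ℂ) g := by
  classical
  have hd := D.deg_mem hGN χ
  by_cases hm : degMult (deg χ) = 1
  · exact congrArg (fun ψ : IrrCharacter G => (ψ : G → ℂ) g)
      (Finset.card_le_one.1 ((D.card_deg hGN hd).le.trans hm.le) χ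
        (Finset.mem_filter.2 ⟨Finset.mem_univ _, rfl⟩) χ'
        (Finset.mem_filter.2 ⟨Finset.mem_univ _, h.symm⟩))
  · have hcase : deg χ = 45 ∨ deg χ = 280 := by
      revert hd hm; generalize deg χ = d; intro hd
      fin_cases hd <;> simp [degMult]
    rcases hcase with h0 | h0
    · obtain ⟨r, -, -, hr⟩ := D.B₇.alike_of_unique D.perm₇ (d := 45) (by rw [D.items₇' hGN]; decide +kernel)
      have key : ∀ ψ : IrrCharacter G, deg ψ = 45 → (ψ : G → ℂ) g = (r : G → ℂ) g := fun ψ hψ =>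
        (hr ψ (mem_chars_of_not_dvd D.B₇ (D.K₇ hGN) (ne_one_of_deg_ne ψ (by omega)) (by omega)) hψ).2 g h7
      rw [key χ h0, key χ' (h ▸ h0)]
    · obtain ⟨r, -, -, hr⟩ := D.B₁₁.alike_of_unique D.perm₁₁ (d := 280)
        (by rw [D.items₁₁]; decide +kernel)
      have key : ∀ ψ : IrrCharacter G, deg ψ = 280 → (ψ : G → ℂ) g = (r : G → ℂ) g := fun ψ hψ =>
        (hr ψ (mem_chars_of_not_dvd D.B₁₁ (K_bot hGN D.L₁₁) (ne_one_of_deg_ne ψ (by omega)) (by omega))
          hψ).2 g h11
      rw [key χ h0, key χ' (h ▸ h0)]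

/-- Such elements are conjugate to their inverses. -/
theorem Data.isConj_inv {g : G} (h7 : ¬ 7 ∣ orderOf g) (h11 : ¬ 11 ∣ orderOf g) : IsConj g g⁻¹ := by
  refine isConj_of_irr_eq fun χ => ?_
  let ψ : IrrCharacter G := ⟨fun g => conj ((χ : G → ℂ) g), isIrr_conj χ.2⟩
  have hdeg : deg ψ = deg χ := by
    have h : ((deg ψ : ℕ) : ℂ) = (deg χ : ℂ) := by
      rw [← apply_one, ← apply_one]
      show conj ((χ : G → ℂ) 1) = _
      rw [apply_one, map_natCast]
    exact_mod_cast h
  rw [character_inv (isCharacter_of_isIrr χ.2)]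
  exact (D.same_of_deg hGN h7 h11 hdeg).symm

/-- The centraliser of an element of order 3 has order `9·2^k`. -/
theorem Data.card_Cg_three_mem {x : G} (hx : orderOf x = 3) :
    (Nat.card (Cg x) : ℤ) ∈ ([9, 18, 36, 72, 144, 288, 576, 1152] : List ℤ) := by
  classical
  haveI := Fact.mk Nat.prime_three
  have hx1 : x ≠ 1 := fun e => by rw [e, orderOf_one] at hx; omega
  obtain ⟨P, hP⟩ := MElevenUnique.exists_sylow_of_orderOf hx
  have hP9 : Nat.card (P : Subgroup G) = 9 := by
    rw [Sylow.card_eq_multiplicity, hGN, show 443520 = 3 ^ 2 * 49280 by norm_num,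
      Nat.factorization_mul (by norm_num) (by norm_num), Finsupp.add_apply,
      Nat.Prime.factorization_pow Nat.prime_three, Finsupp.single_eq_same,
      Nat.factorization_eq_zero_of_not_dvd (by norm_num : ¬ 3 ∣ 49280)]
    norm_num
  have hcomm := IsPGroup.isMulCommutative_of_card_eq_prime_sq (p := 3) (G := (P : Subgroup G))
    (by rw [hP9]; norm_num)
  have hle : (P : Subgroup G) ≤ Cg x := fun w hw =>
    mem_Cg.2 (congrArg Subtype.val (hcomm.is_comm.comm (⟨w, hw⟩ : (P : Subgroup G)) ⟨x, hP⟩))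
  have h9 := Subgroup.card_dvd_of_le hle
  rw [hP9] at h9
  have hne : ∀ p, p = 5 ∨ p = 7 ∨ p = 11 → ¬ p ∣ Nat.card (Cg x) := fun p hp =>
    D.not_dvd_Cg hGN hx1 hp (by rw [hx]; rcases hp with rfl | rfl | rfl <;> norm_num)
  have hd : Nat.card (Cg x) ∣ 1152 := by
    have h0 := card_dvd_GN hGN (Cg x)
    rw [show 443520 = 1152 * 385 by norm_num] at h0
    refine Nat.Coprime.dvd_of_dvd_mul_right ?_ h0
    rw [show 385 = 5 * (7 * 11) by norm_num]
    refine Nat.Coprime.mul_right ?_ (Nat.Coprime.mul_right ?_ ?_) <;>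
      exact ((Nat.Prime.coprime_iff_not_dvd (by norm_num)).2 (hne _ (by simp))).symm
  have key : ∀ c ∈ Nat.divisors 1152, 9 ∣ c →
      (c : ℤ) ∈ ([9, 18, 36, 72, 144, 288, 576, 1152] : List ℤ) := by decide +kernel
  exact key _ (Nat.mem_divisors.2 ⟨hd, by norm_num⟩) h9

/-- **The column at an element of order 3.** -/
theorem Data.three_values {x : G} (hx : orderOf x = 3) :
    ∃ s : ℤ, ((Nat.card (Cg x) = 9 ∧ s = 0) ∨ (Nat.card (Cg x) = 36 ∧ (s = 1 ∨ s = -1))) ∧
      ∀ χ : IrrCharacter G, (χ : G → ℂ) x = (threeCol s (deg χ) : ℂ) := by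
  classical
  have hG := not_comm hGN
  have h7 : ¬ 7 ∣ orderOf x := by rw [hx]; norm_num
  have h11 : ¬ 11 ∣ orderOf x := by rw [hx]; norm_num
  have h5 : ¬ 5 ∣ orderOf x := by rw [hx]; norm_num
  have hx1 : x ≠ 1 := fun e => by rw [e, orderOf_one] at hx; omega
  have hx3 : x * x * x = 1 := by
    have := pow_orderOf_eq_one x
    rwa [hx, pow_succ, pow_two] at this
  have hex := fun χ : IrrCharacter G => SylowThreeNine.exists_value hx3 hx1 (D.isConj_inv hGN h7 h11) χ
    (apply_one χ)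
  have hv : ∀ χ : IrrCharacter G, (χ : G → ℂ) x = val χ x ∧ (3 : ℤ) ∣ (deg χ : ℤ) - val χ x := by
    intro χ
    obtain ⟨a, ha, h3⟩ := hex χ
    rw [val_of_eq ha]
    exact ⟨ha, h3⟩
  have hsame : ∀ χ χ' : IrrCharacter G, deg χ = deg χ' → val χ x = val χ' x := fun χ χ' h =>
    val_of_eq ((D.same_of_deg hGN h7 h11 h).trans (hv χ').1)
  have hexd : ∀ d, d ∈ degSet → ∃ χ : IrrCharacter G, deg χ = d := fun d hd => by
    have h := D.card_deg hGN hd
    obtain ⟨χ, hχ⟩ := Finset.card_pos.1 (h.symm ▸ (show 0 < degMult d by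
      revert hd; intro hd; fin_cases hd <;> decide) : 0 < _)
    exact ⟨χ, (Finset.mem_filter.1 hχ).2⟩
  set f : ℕ → ℤ := fun d => if h : ∃ χ : IrrCharacter G, deg χ = d then val h.choose x else 0
  have hf : ∀ χ : IrrCharacter G, val χ x = f (deg χ) := fun χ => by
    have h : ∃ χ' : IrrCharacter G, deg χ' = deg χ := ⟨χ, rfl⟩
    simp only [f, dif_pos h]
    exact hsame _ _ h.choose_spec.symm
  set C := Nat.card (Cg x) with hC
  -- congruences and divisibility
  have hmod : ∀ d ∈ degSet, (3 : ℤ) ∣ (d : ℤ) - f d := fun d hd => by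
    obtain ⟨χ, rfl⟩ := hexd d hd; rw [← hf]; exact (hv χ).2
  have hidx : ∀ d ∈ degSet, 9 ∣ d → (9 : ℤ) ∣ f d := fun d hd h9 => by
    obtain ⟨χ, rfl⟩ := hexd d hd
    rw [← hf]
    obtain ⟨k, ρ, hρ, hχ⟩ := χ.2
    haveI := hρ
    have hint := isIntegral_index_mul_char_div ρ x
    have hdim : (Module.finrank ℂ (Fin k → ℂ) : ℂ) = (deg χ : ℂ) := by
      rw [← apply_one, ← hχ, Representation.char_one]
    rw [hχ, (hv χ).1, hdim] at hint
    have habs : IsIntegral ℤ
        (((((Subgroup.centralizer ({x} : Set G)).index * (val χ x).natAbs : ℕ)) : ℂ) / (deg χ : ℂ)) := by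
      rcases Int.natAbs_eq (val χ x) with h | h <;> rw [h] at hint <;>
        simp only [Int.cast_natCast, Int.cast_neg, Nat.cast_mul] at hint ⊢
      · exact hint
      · rw [mul_neg, neg_div] at hint
        simpa using hint.neg
    have hdvd := dvd_of_isIntegral_div (Blocks.charDegree_ne_zero χ) habs
    have h3 : ¬ 3 ∣ (Cg x).index := by
      intro h3
      have hC9 : 9 ∣ C := by
        have := D.card_Cg_three_mem hGN hx
        simp only [List.mem_cons, List.not_mem_nil, or_false] at this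
        omega
      have := Nat.mul_dvd_mul h3 hC9
      rw [hC, (Cg x).index_mul_card, hGN] at this
      norm_num at this
    have h := (Nat.Coprime.pow_left 2 ((Nat.Prime.coprime_iff_not_dvd Nat.prime_three).2 h3)).dvd_of_dvd_mul_left
      (h9.trans hdvd)
    rw [← Int.natAbs_dvd_natAbs]
    exact h
  -- linear relations
  have h1 : f 1 = 1 := by
    rw [← deg_one D.B₁₁, ← hf]; exact val_one hGN D.B₁₁ x
  have hrel : ∀ {p : ℕ} [Fact p.Prime] {L : Local p G} (B : Block L) {l : List (IrrCharacter G)},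
      ¬ p ∣ orderOf x → l.Perm B.reps →
      1 + ((l.map B.item).map fun it => it.1 * f it.2.2).sum = 0 := by
    intro p _ L B l hp hl
    have h := B.relation x hp
    rw [← (hl.map _).sum_eq] at h
    apply Int.cast_injective (α := ℂ)
    push_cast
    rw [List.map_map, List.map_map, ← h]
    congr 2
    exact List.map_congr_left fun r _ => by simp [Block.item, (hv r).1, hf]
  have e11 := hrel D.B₁₁ h11 D.perm₁₁
  have e7 := hrel D.B₇ h7 D.perm₇
  have e5 := hrel D.B₅ h5 D.perm₅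
  rw [D.items₁₁] at e11
  rw [D.items₇' hGN] at e7
  rw [D.items₅' hGN] at e5
  have horth : ∀ (F : ℕ → ℤ) (g : G), ¬ IsConj g x →
      (∀ χ : IrrCharacter G, (χ : G → ℂ) g = (F (deg χ) : ℂ)) →
      ∑ d ∈ degSet, degMult d • (F d * f d) = 0 := by
    intro F g hne hF
    have h := sum_irr_mul_conj_of_not_isConj hne
    simp only [hF, fun χ => (hv χ).1, hf, map_intCast] at h
    rw [← D.sum_deg hGN (fun d => F d * f d)]
    exact_mod_cast h
  have ed := horth (fun d => (d : ℤ)) 1 (fun h => hx1 (isConj_one_right.1 h))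
    (fun χ => by rw [apply_one, Int.cast_natCast])
  obtain ⟨t, ht, -⟩ := exists_central_involution hGN
  have ez := horth tv t (fun h => by
      obtain ⟨c, hc⟩ := isConj_iff.1 h
      rw [← hc, show c * t * c⁻¹ = MulAut.conj c t from rfl, MulEquiv.orderOf_eq, ht] at hx
      omega)
    (fun χ => by rw [← D.val_eq hGN ht]; exact (val_spec hG χ ht).1)
  have en : ∑ d ∈ degSet, degMult d • (f d * f d) = (C : ℤ) := by
    rw [← D.sum_deg hGN (fun d => f d * f d), hC]
    exact SylowThreeNine.sum_value_sq (a := fun χ : IrrCharacter G => f (deg χ))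
      (fun χ => by rw [(hv χ).1, hf]) rfl
  simp only [theT, theA, theB, lits11, List.getD_cons_succ, List.getD_cons_zero, List.map_cons,
    List.map_nil, List.sum_cons, List.sum_nil] at e11 e7 e5
  simp only [degSet, degMult, tv, Finset.sum_insert, Finset.mem_insert, Finset.mem_singleton,
    Nat.reduceEqDiff, or_self, not_false_eq_true, Finset.sum_singleton, nsmul_eq_mul] at ed ez en
  push_cast at ed ez en
  rw [h1] at ed ez en
  obtain ⟨s, hs, hfs⟩ := three_solve (f := f) (C := (C : ℤ)) h1 (hmod 21 (by decide)) (hmod 280 (by decide))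
    (hidx 45 (by decide) (by norm_num)) (hidx 99 (by decide) (by norm_num)) e11 e7 e5
    (by linear_combination ed) (by linear_combination ez) (by linear_combination en) (D.card_Cg_three_mem hGN hx)
  refine ⟨s, by omega, fun χ => ?_⟩
  rw [(hv χ).1, hf, Int.cast_inj]
  exact hfs _ (D.deg_mem hGN χ)

/-- **Uniqueness of the class.** -/
theorem Data.card_Cg_three {x t : G} (hx : orderOf x = 3) (ht : orderOf t = 2) (hxt : Commute x t) :
    ∀ y : G, orderOf y = 3 → IsConj x y ∧ Nat.card (Cg y) = 36 := by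
  classical
  have h2 : 2 ∣ Nat.card (Cg x) := ht ▸ Subgroup.orderOf_dvd_natCard _ (mem_Cg.2 hxt.eq.symm)
  obtain ⟨s, hs, hsv⟩ := D.three_values hGN hx
  have hs36 : Nat.card (Cg x) = 36 ∧ (s = 1 ∨ s = -1) := by
    rcases hs with ⟨h, -⟩ | h
    · omega
    · exact h
  intro y hy
  suffices hc : IsConj x y from ⟨hc, (MElevenUnique.card_Cg_of_isConj hc).trans hs36.1⟩
  obtain ⟨s', hs', hsv'⟩ := D.three_values hGN hy
  by_contra hne
  have h := sum_irr_mul_conj_of_not_isConj hne
  simp only [hsv, hsv', map_intCast] at h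
  have h' : ∑ χ : IrrCharacter G, threeCol s (deg χ) * threeCol s' (deg χ) = 0 := by exact_mod_cast h
  rw [D.sum_deg hGN (fun d => threeCol s d * threeCol s' d)] at h'
  simp only [degSet, degMult, threeCol, Finset.sum_insert, Finset.mem_insert, Finset.mem_singleton,
    Nat.reduceEqDiff, or_self, not_false_eq_true, Finset.sum_singleton, nsmul_eq_mul] at h'
  push_cast at h'
  rcases hs36.2 with r | r <;> rcases hs' with ⟨-, r'⟩ | ⟨-, r' | r'⟩ <;>
    · rw [r, r'] at h'
      norm_num at h'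

end CfsgLib.MTwentyTwoUnique
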