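import Cfsg.Agent.MTwentyTwoUnique.Lines

/-!
The data with `A`, and properties of the case `W = R`: `A` is not central in `R`, and the elements of `R`
commuting with an element of `A` outside the four-group lie in `A`, unless `R` is abelian.
-/

set_option autoImplicit false
set_option linter.style.haveILetI false
set_option linter.unusedSectionVars false

open scoped Pointwise

namespace CfsgLib.MTwentyTwoUnique

open Cfsg CfsgLib.DefectOne CfsgLib.BrauerOrderP CfsgLib.Characters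
open CfsgLib.MElevenUnique (Cg Ng mem_Cg)

universe u

variable {G : Type u} [Group G]

/-- The frame with `R` and `A`. -/
structure Quad (G : Type u) [Group G] extends Core G where
  A : Subgroup G
  E_le_A : toCore.toFrame.E ≤ A
  A_le_W : A ≤ toCore.W
  card_A : Nat.card A = 16
  sq_A : ∀ a ∈ A, a * a = 1
  comm_A : ∀ a ∈ A, ∀ b ∈ A, Commute a b
  y_A : ∀ a ∈ A, y * a * y⁻¹ ∈ A
  Ct_A : ∀ c : G, Commute c t → ∀ a ∈ A, c * a * c⁻¹ ∈ A
  central_A : ∀ a ∈ A, ∀ w ∈ toCore.W, toCore.Sim (a * w) (w * a)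

namespace Quad

variable (Q : Quad G)

theorem A_le_R : Q.A ≤ Q.R := Q.A_le_W.trans Q.toCore.W_le_R

theorem x_A {a : G} (ha : a ∈ Q.A) : Q.x * a * Q.x⁻¹ ∈ Q.A := Q.Ct_A _ Q.cxt a ha

/-- The commutator of an element of `W` with an element of `A`. -/
def br (r v : G) : G := r * v * r⁻¹ * v⁻¹

theorem br_mem {r v : G} (hr : r ∈ Q.toCore.W) (hv : v ∈ Q.A) : br r v ∈ Q.toCore.toFrame.E := by
  have h : (v * r)⁻¹ * (r * v) ∈ Q.toCore.toFrame.E := Q.central_A v hv r hr
  have hc := Q.toCore.comm_E_of_mem_W (mul_mem (Q.A_le_W hv) hr) h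
  have e : br r v = v * r * ((v * r)⁻¹ * (r * v)) * (v * r)⁻¹ := by simp only [br]; group
  rw [e, hc.eq, mul_inv_cancel_right]
  exact h

theorem br_eq_one {r v : G} : br r v = 1 ↔ Commute r v := by
  rw [br, mul_inv_eq_one, mul_inv_eq_iff_eq_mul]
  exact Iff.rfl

theorem br_mul_left {r r' v : G} (hr : r ∈ Q.toCore.W) (hr' : r' ∈ Q.toCore.W) (hv : v ∈ Q.A) :
    br (r * r') v = br r' v * br r v := by
  have h := Q.toCore.comm_E_of_mem_W hr (Q.br_mem hr' hv)
  have e : br (r * r') v = r * br r' v * (v * r⁻¹ * v⁻¹) := by simp only [br]; group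
  rw [e, h.eq, mul_assoc]
  simp only [br]; group

theorem br_mul_right {r v v' : G} (hr : r ∈ Q.toCore.W) (hv : v ∈ Q.A) (hv' : v' ∈ Q.A) :
    br r (v * v') = br r v * br r v' := by
  have h := Q.toCore.comm_E_of_mem_W (Q.A_le_W hv) (Q.br_mem hr hv')
  calc br r (v * v') = r * v * r⁻¹ * (br r v') * v⁻¹ := by simp only [br]; group
    _ = r * v * r⁻¹ * (v⁻¹ * br r v') := by rw [mul_assoc, ← h.inv_left.eq]
    _ = _ := by simp only [br]; group

variable [Fintype G]

/-- `A` is generated by the four-group, any element outside and its conjugate. -/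
theorem exists_gen {a v : G} (ha : a ∈ Q.A) (haE : a ∉ Q.toCore.toFrame.E) (hv : v ∈ Q.A) :
    ∃ e ∈ Q.toCore.toFrame.E,
      v = e ∨ v = a * e ∨ v = Q.x * a * Q.x⁻¹ * e ∨ v = a * (Q.x * a * Q.x⁻¹) * e := by
  classical
  set b := Q.x * a * Q.x⁻¹ with hb
  let T : Subgroup G :=
    { carrier := {g | g ∈ Q.A ∧ ∃ e ∈ Q.toCore.toFrame.E, g = e ∨ g = a * e ∨ g = b * e ∨ g = a * b * e}
      one_mem' := ⟨one_mem _, 1, one_mem _, Or.inl rfl⟩
      mul_mem' := by
        rintro p q ⟨hp, e, he, hp'⟩ ⟨hq, f, hf, hq'⟩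
        refine ⟨mul_mem hp hq, e * f, mul_mem he hf, ?_⟩
        have hbA : b ∈ Q.A := Q.x_A ha
        have c1 : Commute e a := Q.comm_A _ (Q.E_le_A he) _ ha
        have c2 : Commute e b := Q.comm_A _ (Q.E_le_A he) _ hbA
        have caa := Q.sq_A a ha
        have cbb := Q.sq_A b hbA
        have cab : Commute a b := Q.comm_A a ha b hbA
        have r1 : ∀ z, e * (a * z) = a * (e * z) := fun z => by rw [← mul_assoc, c1.eq, mul_assoc]
        have r2 : ∀ z, e * (b * z) = b * (e * z) := fun z => by rw [← mul_assoc, c2.eq, mul_assoc]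
        have r3 : ∀ z, a * (a * z) = z := fun z => by rw [← mul_assoc, caa, one_mul]
        have r4 : ∀ z, b * (b * z) = z := fun z => by rw [← mul_assoc, cbb, one_mul]
        have r5 : ∀ z, b * (a * z) = a * (b * z) := fun z => by rw [← mul_assoc, ← cab.eq, mul_assoc]
        rcases hp' with rfl | rfl | rfl | rfl <;> rcases hq' with rfl | rfl | rfl | rfl <;>
          simp only [mul_assoc, r1, r2, r3, r4, r5, true_or, or_true]
      inv_mem' := by
        rintro p ⟨hp, h⟩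
        rw [inv_eq_of_mul_eq_one_right (Q.sq_A p hp)]
        exact ⟨hp, h⟩ }
  have hTA : T ≤ Q.A := fun g hg => hg.1
  have hET : Q.toCore.toFrame.E ≤ T := fun e he => ⟨Q.E_le_A he, e, he, Or.inl rfl⟩
  have haT : a ∈ T := ⟨ha, 1, one_mem _, Or.inr (Or.inl (mul_one a).symm)⟩
  have hxT : ∀ g ∈ T, Q.x * g * Q.x⁻¹ ∈ T := by
    rintro g ⟨hg, e, he, hg'⟩
    have hce : Q.x * e * Q.x⁻¹ = e := conj_eq_iff_commute.2 (Q.toCore.toFrame.x_comm_E he)
    have hbT : b ∈ T := ⟨Q.x_A ha, 1, one_mem _, Or.inr (Or.inr (Or.inl (mul_one b).symm))⟩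
    have hxb : Q.x * b * Q.x⁻¹ ∈ T := by
      refine ⟨Q.x_A (Q.x_A ha), ?_⟩
      set c := Q.x * b * Q.x⁻¹ with hc
      have habA : a * b ∈ Q.A := mul_mem ha (Q.x_A ha)
      have hcA : c ∈ Q.A := Q.x_A (Q.x_A ha)
      have hxc : Q.x * c * Q.x⁻¹ = a := by
        rw [hc, hb, show Q.x * (Q.x * (Q.x * a * Q.x⁻¹) * Q.x⁻¹) * Q.x⁻¹ = Q.x ^ 3 * a * (Q.x ^ 3)⁻¹ by
          simp only [pow_succ, pow_zero, one_mul, mul_inv_rev, mul_assoc], Q.toCore.toFrame.x_cubed, one_mul,
          inv_one, mul_one]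
      have hw : a * b * c ∈ Q.toCore.toFrame.E := by
        refine Q.toCore.mem_E_of_fix (Q.A_le_R (mul_mem habA hcA)) ?_
        rw [show Q.x * (a * b * c) * Q.x⁻¹ = Q.x * a * Q.x⁻¹ * (Q.x * b * Q.x⁻¹) * (Q.x * c * Q.x⁻¹) by group,
          hxc, ← hb, ← hc, (Q.comm_A (b * c) (mul_mem (Q.x_A ha) hcA) a ha).eq, ← mul_assoc a b c, inv_mul_cancel]
        exact one_mem _
      refine ⟨_, hw, Or.inr (Or.inr (Or.inr ?_))⟩
      rw [← mul_assoc, Q.sq_A _ habA, one_mul]
    rcases hg' with rfl | rfl | rfl | rfl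
    · rw [hce]; exact hET he
    all_goals first
      | (rw [show Q.x * (a * e) * Q.x⁻¹ = b * (Q.x * e * Q.x⁻¹) by rw [hb]; group, hce]
         exact mul_mem hbT (hET he))
      | (rw [show Q.x * (b * e) * Q.x⁻¹ = Q.x * b * Q.x⁻¹ * (Q.x * e * Q.x⁻¹) by group, hce]
         exact mul_mem hxb (hET he))
      | (rw [show Q.x * (a * b * e) * Q.x⁻¹ =
           Q.x * a * Q.x⁻¹ * (Q.x * b * Q.x⁻¹) * (Q.x * e * Q.x⁻¹) by group, hce]
         exact mul_mem (mul_mem hbT hxb) (hET he))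
  have hT : T = Q.A := by
    refine Subgroup.eq_of_le_of_card_ge hTA ?_
    rw [Q.card_A]
    rcases Q.toCore.card_of_invariant hET (hTA.trans Q.A_le_R) hxT with h | h | h
    · exact absurd ((Subgroup.eq_of_le_of_card_ge hET (by rw [h, Q.toCore.toFrame.card_E])).ge haT) haE
    · omega
    · omega
  exact (hT.ge hv).2

variable [IsSimpleGroup G] [Fact (Nat.Prime 11)] [Fact (Nat.Prime 7)] [Fact (Nat.Prime 5)]
  (hGN : Nat.card G = 443520) (D : Data G)
include hGN D

omit Q in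
theorem exists_quad : Nonempty (Quad G) := by
  obtain ⟨C⟩ := Core.exists_core hGN D
  obtain ⟨A, h1, h2, h3, h4, h5, h6, h7, h8⟩ := C.exists_A hGN D
  exact ⟨⟨C, A, h1, h2, h3, h4, h5, h6, h7, h8⟩⟩

/-- If some element of `R` outside `A` commutes with an element of `A` outside the four-group, `A` is
central in `R`. -/
theorem central_of_commute (hW : Q.toCore.W = Q.R) {a w : G} (ha : a ∈ Q.A)
    (haE : a ∉ Q.toCore.toFrame.E) (hw : w ∈ Q.R) (hwA : w ∉ Q.A) (h : Commute w a) :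
    ∀ r ∈ Q.R, ∀ v ∈ Q.A, Commute r v := by
  classical
  have hRW : ∀ {r}, r ∈ Q.R → r ∈ Q.toCore.W := fun hr => hW.ge hr
  set b := Q.x * a * Q.x⁻¹ with hb
  have hbA : b ∈ Q.A := Q.x_A ha
  set α := br w b with hα
  have hαE : α ∈ Q.toCore.toFrame.E := Q.br_mem (hRW hw) hbA
  let P : Subgroup G :=
    { carrier := {z | z = 1 ∨ z = α}
      one_mem' := Or.inl rfl
      mul_mem' := by
        rintro p q (rfl | rfl) (rfl | rfl) <;> simp [Q.toCore.toFrame.sq_mem_E hαE]
      inv_mem' := by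
        rintro p (rfl | rfl)
        · exact Or.inl inv_one
        · exact Or.inr (inv_eq_of_mul_eq_one_right (Q.toCore.toFrame.sq_mem_E hαE)) }
  have hbre : ∀ {r e : G}, r ∈ Q.R → e ∈ Q.toCore.toFrame.E → br r e = 1 := fun hr he =>
    br_eq_one.2 (Q.toCore.comm_E_of_mem_W (hRW hr) he)
  let T : Subgroup G :=
    { carrier := {r | r ∈ Q.R ∧ ∀ v ∈ Q.A, br r v ∈ P}
      one_mem' := ⟨one_mem _, fun v _ => Or.inl (br_eq_one.2 (Commute.one_left v))⟩
      mul_mem' := by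
        rintro p q ⟨hp, hp'⟩ ⟨hq, hq'⟩
        exact ⟨mul_mem hp hq, fun v hv => by
          rw [Q.br_mul_left (hRW hp) (hRW hq) hv]; exact mul_mem (hq' v hv) (hp' v hv)⟩
      inv_mem' := by
        rintro p ⟨hp, hp'⟩
        refine ⟨inv_mem hp, fun v hv => ?_⟩
        have h1 := Q.br_mul_left (hRW (inv_mem hp)) (hRW hp) hv
        rw [inv_mul_cancel, br_eq_one.2 (Commute.one_left v)] at h1
        rw [eq_inv_of_mul_eq_one_right h1.symm]
        exact inv_mem (hp' v hv) }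
  have hwT : w ∈ T := by
    refine ⟨hw, fun v hv => ?_⟩
    have h1 : br w a = 1 := br_eq_one.2 h
    obtain ⟨e, he, hv'⟩ := Q.exists_gen ha haE hv
    have heA := Q.E_le_A he
    rcases hv' with rfl | rfl | rfl | rfl
    · exact Or.inl (hbre hw he)
    · rw [Q.br_mul_right (hRW hw) ha heA, h1, hbre hw he, one_mul]; exact one_mem _
    · rw [← hb, Q.br_mul_right (hRW hw) hbA heA, hbre hw he, mul_one]; exact Or.inr rfl
    · rw [← hb, Q.br_mul_right (hRW hw) (mul_mem ha hbA) heA, Q.br_mul_right (hRW hw) ha hbA, h1,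
        hbre hw he, one_mul, mul_one]
      exact Or.inr rfl
  have hAT : Q.A ≤ T := fun v hv =>
    ⟨Q.A_le_R hv, fun v' hv' => Or.inl (br_eq_one.2 (Q.comm_A v hv v' hv'))⟩
  have hxT : ∀ r ∈ T, Q.x * r * Q.x⁻¹ ∈ T := by
    rintro r ⟨hr, hr'⟩
    refine ⟨Q.toCore.x_conj_R hr, fun v hv => ?_⟩
    obtain ⟨v', hv'⟩ := Finite.surjective_of_injective
      (f := fun z : Q.A => (⟨Q.x * z * Q.x⁻¹, Q.x_A z.2⟩ : Q.A))
      (fun z z' e => Subtype.ext (conj_injective Q.x (congrArg Subtype.val e))) ⟨v, hv⟩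
    have hv'' : Q.x * (v' : G) * Q.x⁻¹ = v := congrArg Subtype.val hv'
    rw [show br (Q.x * r * Q.x⁻¹) v = Q.x * br r v' * Q.x⁻¹ by rw [← hv'']; simp only [br]; group,
      conj_eq_iff_commute.2 (Q.toCore.toFrame.x_comm_E (Q.br_mem (hRW hr) v'.2))]
    exact hr' v' v'.2
  have hTR : T ≤ Q.R := fun r hr => hr.1
  have hT : T = Q.R := by
    refine Subgroup.eq_of_le_of_card_ge hTR ?_
    rw [Q.card_R]
    rcases Q.toCore.card_of_invariant (Q.E_le_A.trans hAT) hTR hxT with h | h | h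
    · have := Subgroup.card_le_of_le hAT
      rw [h, Q.card_A] at this; omega
    · exact absurd ((Subgroup.eq_of_le_of_card_ge hAT (by rw [h, Q.card_A])).ge hwT) hwA
    · omega
  have hα1 : α = 1 := by
    have hyR : Q.y * w * Q.y⁻¹ ∈ Q.R := hW.le (Q.toCore.y_conj_W hGN D (hRW hw))
    have h2 := (hT.ge hyR).2 (Q.y * b * Q.y⁻¹) (Q.y_A b hbA)
    rw [show br (Q.y * w * Q.y⁻¹) (Q.y * b * Q.y⁻¹) = Q.y * α * Q.y⁻¹ by rw [hα]; simp only [br]; group]
      at h2
    rcases h2 with h2 | h2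
    · exact conj_eq_one_iff.1 h2
    · exact Q.toCore.toFrame.eq_one_of_y_fix hαE h2
  intro r hr v hv
  refine br_eq_one.1 ?_
  rcases (hT.ge hr).2 v hv with h2 | h2
  · exact h2
  · rw [h2, hα1]

/-- Then `R` is abelian. -/
theorem abelian_of_central (hW : Q.toCore.W = Q.R) (hc : ∀ r ∈ Q.R, ∀ v ∈ Q.A, Commute r v) :
    ∀ r ∈ Q.R, ∀ r' ∈ Q.R, Commute r r' := by
  classical
  haveI := Fact.mk Nat.prime_two
  set AR : Subgroup Q.R := Q.A.subgroupOf Q.R with hAR
  haveI : AR.Normal := ⟨fun v hv r => by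
    show (r : G) * (v : G) * (r : G)⁻¹ ∈ Q.A
    have hv' : (v : G) ∈ Q.A := hv
    rw [conj_eq_iff_commute.2 (hc r r.2 v hv')]
    exact hv'⟩
  have hcardA : Nat.card AR = 16 := by
    rw [Nat.card_congr (Subgroup.subgroupOfEquivOfLe Q.A_le_R).toEquiv, Q.card_A]
  have hV : Nat.card (Q.R ⧸ AR) = 4 := by
    have := Subgroup.card_eq_card_quotient_mul_card_subgroup AR
    rw [hcardA, Q.card_R] at this
    omega
  haveI hVc : IsMulCommutative (Q.R ⧸ AR) :=
    IsPGroup.isMulCommutative_of_card_eq_prime_sq (p := 2) (by rw [hV]; norm_num)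
  set π := QuotientGroup.mk' AR with hπ
  have hmem : ∀ {r q : Q.R}, π r = π q → ∃ a ∈ Q.A, (r : G) = q * a := fun {r q} h =>
    ⟨_, (QuotientGroup.eq.1 h.symm : q⁻¹ * r ∈ AR), (mul_inv_cancel_left _ _).symm⟩
  have hπA : ∀ {r : Q.R}, π r = 1 ↔ (r : G) ∈ Q.A := fun {r} => QuotientGroup.eq_one_iff r
  obtain ⟨w, hw, hwA⟩ := SetLike.exists_of_lt (lt_of_le_of_ne Q.A_le_R fun e => by
    have := congrArg (fun K : Subgroup G => Nat.card K) e
    simp only [Q.card_A, Q.card_R] at this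
    omega)
  set W₀ : Q.R := ⟨w, hw⟩
  -- one generator
  by_cases hone : ∀ q : Q.R ⧸ AR, q ∈ Subgroup.zpowers (π W₀)
  · intro r hr r' hr'
    obtain ⟨i, hi⟩ := hone (π ⟨r, hr⟩)
    obtain ⟨j, hj⟩ := hone (π ⟨r', hr'⟩)
    obtain ⟨a, ha, ea⟩ := hmem (r := (⟨r, hr⟩ : Q.R)) (q := W₀ ^ i) (by rw [map_zpow]; exact hi.symm)
    obtain ⟨b, hb, eb⟩ := hmem (r := (⟨r', hr'⟩ : Q.R)) (q := W₀ ^ j) (by rw [map_zpow]; exact hj.symm)
    rw [SubgroupClass.coe_zpow] at ea eb
    have ea' : r = w ^ i * a := ea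
    have eb' : r' = w ^ j * b := eb
    rw [ea', eb']
    exact (((Commute.refl w).zpow_zpow i j).mul_right (hc _ (Q.R.zpow_mem hw i) b hb)).mul_left
      ((hc _ (Q.R.zpow_mem hw j) a ha).symm.mul_right (Q.comm_A a ha b hb))
  push Not at hone
  obtain ⟨q₀, hq₀⟩ := hone
  have hw1 : π W₀ ≠ 1 := fun h => hwA (hπA.1 h)
  have ho : orderOf (π W₀) = 2 := by
    have hd : orderOf (π W₀) ∣ 4 := hV ▸ orderOf_dvd_natCard _
    have h4 : orderOf (π W₀) ≠ 4 := fun h => hq₀ <| by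
      rw [Subgroup.eq_top_of_card_eq (Subgroup.zpowers (π W₀)) (by rw [Nat.card_zpowers, h, hV])]
      trivial
    have h1 : orderOf (π W₀) ≠ 1 := fun h => hw1 (orderOf_eq_one_iff.1 h)
    have := Nat.le_of_dvd (by norm_num) hd
    interval_cases h : orderOf (π W₀) <;> omega
  have hww : π W₀ * π W₀ = 1 := by
    have := pow_orderOf_eq_one (π W₀)
    rwa [ho, pow_two] at this
  have hw2 : w * w ∈ Q.A := (@hπA (W₀ * W₀)).1 (by rw [map_mul]; exact hww)
  set w' := Q.x * w * Q.x⁻¹ with hw'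
  have hw'R : w' ∈ Q.R := Q.toCore.x_conj_R hw
  set W₁ : Q.R := ⟨w', hw'R⟩
  let K : Subgroup G :=
    { carrier := {g | g ∈ Q.A ∨ w⁻¹ * g ∈ Q.A}
      one_mem' := Or.inl (one_mem _)
      mul_mem' := by
        rintro p q hp hq
        have hwi : ∀ v ∈ Q.A, v * w = w * v := fun v hv => (hc w hw v hv).eq.symm
        rcases hp with hp | hp <;> rcases hq with hq | hq
        · exact Or.inl (mul_mem hp hq)
        · refine Or.inr ?_
          rw [← mul_assoc, (hc w hw p hp).inv_left.eq, mul_assoc]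
          exact mul_mem hp hq
        · exact Or.inr (by rw [← mul_assoc]; exact mul_mem hp hq)
        · refine Or.inl ?_
          rw [show p * q = w * ((w⁻¹ * p) * w) * (w⁻¹ * q) by group, hwi _ hp, ← mul_assoc w w]
          exact mul_mem (mul_mem hw2 hp) hq
      inv_mem' := by
        rintro p (hp | hp)
        · exact Or.inl (inv_mem hp)
        · refine Or.inr ?_
          rw [show w⁻¹ * p⁻¹ = (w * w)⁻¹ * (w * (w⁻¹ * p)⁻¹ * w⁻¹) by group,
            conj_eq_iff_commute.2 (hc w hw _ (inv_mem hp))]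
          exact mul_mem (inv_mem hw2) (inv_mem hp) }
  have hwK : w ∈ K := Or.inr (by rw [inv_mul_cancel]; exact one_mem _)
  have hAK : Q.A ≤ K := fun a ha => Or.inl ha
  have hKR : K ≤ Q.R := by
    rintro g (hg | hg)
    · exact Q.A_le_R hg
    · have := mul_mem hw (Q.A_le_R hg)
      rwa [mul_inv_cancel_left] at this
  have hKne : K ≠ Q.R := fun e => hq₀ <| by
    obtain ⟨r, rfl⟩ := QuotientGroup.mk'_surjective AR q₀
    rcases e.ge r.2 with h | h
    · rw [hπA.2 h]; exact one_mem _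
    · have : π W₀ = π r := (QuotientGroup.eq (s := AR)).2 h
      exact this ▸ Subgroup.mem_zpowers _
  have hw'K : w' ∉ K := by
    intro hK
    have hxK : ∀ g ∈ K, Q.x * g * Q.x⁻¹ ∈ K := by
      rintro g (hg | hg)
      · exact hAK (Q.x_A hg)
      · rw [show Q.x * g * Q.x⁻¹ = w' * (Q.x * (w⁻¹ * g) * Q.x⁻¹) by rw [hw']; group]
        exact mul_mem hK (hAK (Q.x_A hg))
    rcases Q.toCore.card_of_invariant (Q.E_le_A.trans hAK) hKR hxK with h | h | h
    · have := Subgroup.card_le_of_le hAK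
      rw [h, Q.card_A] at this; omega
    · exact hwA ((Subgroup.eq_of_le_of_card_ge hAK (by rw [h, Q.card_A])).ge hwK)
    · exact hKne (Subgroup.eq_of_le_of_card_ge hKR (by rw [h, Q.card_R]))
  have h11 : π W₁ ≠ 1 := fun h => hw'K (Or.inl (hπA.1 h))
  have h01 : π W₀ ≠ π W₁ := fun h => hw'K (Or.inr ((QuotientGroup.eq (s := AR) (a := W₀) (b := W₁)).1 h))
  have hall : ∀ q : Q.R ⧸ AR, q = 1 ∨ q = π W₀ ∨ q = π W₁ ∨ q = π W₀ * π W₁ := by
    intro q
    by_contra hne
    push Not at hne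
    obtain ⟨n1, n2, n3, n4⟩ := hne
    haveI := Fintype.ofFinite (Q.R ⧸ AR)
    have hle := Finset.card_le_univ ({1, π W₀, π W₁, π W₀ * π W₁, q} : Finset (Q.R ⧸ AR))
    rw [Finset.card_insert_of_notMem, Finset.card_insert_of_notMem, Finset.card_insert_of_notMem,
      Finset.card_insert_of_notMem, Finset.card_singleton, ← Nat.card_eq_fintype_card, hV] at hle
    · omega
    · simp only [Finset.mem_singleton]; exact Ne.symm n4
    · simp only [Finset.mem_insert, Finset.mem_singleton]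
      push Not
      exact ⟨fun e => hw1 (right_eq_mul.1 e), Ne.symm n3⟩
    · simp only [Finset.mem_insert, Finset.mem_singleton]
      push Not
      exact ⟨h01, fun e => h11 (left_eq_mul.1 e), Ne.symm n2⟩
    · simp only [Finset.mem_insert, Finset.mem_singleton]
      push Not
      refine ⟨Ne.symm hw1, Ne.symm h11, fun e => h01 ?_, Ne.symm n1⟩
      exact mul_left_cancel (a := π W₀) (hww.trans e)
  set c := br w w' with hcdef
  have hcA : c ∈ Q.A := by
    have h : π (W₀ * W₁ * W₀⁻¹ * W₁⁻¹) = 1 := by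
      simp only [map_mul, map_inv]
      rw [hVc.is_comm.comm (π W₀) (π W₁), mul_inv_cancel_right, mul_inv_cancel]
    exact hπA.1 h
  have hw'2 : w' * w' ∈ Q.A := by
    rw [hw', show Q.x * w * Q.x⁻¹ * (Q.x * w * Q.x⁻¹) = Q.x * (w * w) * Q.x⁻¹ by group]
    exact Q.x_A hw2
  have hcc : c * c = 1 := Q.sq_A c hcA
  let P : Subgroup G :=
    { carrier := {z | z = 1 ∨ z = c}
      one_mem' := Or.inl rfl
      mul_mem' := by
        rintro p q (rfl | rfl) (rfl | rfl) <;> simp [hcc]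
      inv_mem' := by
        rintro p (rfl | rfl)
        · exact Or.inl inv_one
        · exact Or.inr (inv_eq_of_mul_eq_one_right hcc) }
  have hPA : ∀ z ∈ P, z ∈ Q.A := by
    rintro z (rfl | rfl)
    · exact one_mem _
    · exact hcA
  have hswap : ∀ r v : G, br v r = (br r v)⁻¹ := fun r v => by simp only [br]; group
  -- commutators with `v` lie in `P` once those of the generators do
  have span : ∀ v ∈ Q.R, br w v ∈ P → br w' v ∈ P → ∀ r ∈ Q.R, br r v ∈ P := by
    intro v hv h0 h1 r hr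
    have hmul : ∀ p q : G, p ∈ Q.R → br p v ∈ P → br q v ∈ P → br (p * q) v ∈ P := by
      intro p q hp hp' hq'
      rw [show br (p * q) v = p * br q v * p⁻¹ * br p v by simp only [br]; group,
        conj_eq_iff_commute.2 (hc p hp _ (hPA _ hq'))]
      exact mul_mem hq' hp'
    have hA' : ∀ a ∈ Q.A, br a v ∈ P := fun a ha => Or.inl (br_eq_one.2 (hc v hv a ha).symm)
    rcases hall (π ⟨r, hr⟩) with h | h | h | h
    · exact hA' r (hπA.1 h)
    · obtain ⟨a, ha, ea⟩ := hmem h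
      rw [show r = w * a from ea]
      exact hmul w a hw h0 (hA' a ha)
    · obtain ⟨a, ha, ea⟩ := hmem h
      rw [show r = w' * a from ea]
      exact hmul w' a hw'R h1 (hA' a ha)
    · obtain ⟨a, ha, ea⟩ := hmem (r := (⟨r, hr⟩ : Q.R)) (q := W₀ * W₁) (by rw [map_mul]; exact h)
      rw [show r = w * w' * a from ea]
      exact hmul _ a (Q.R.mul_mem hw hw'R) (hmul w w' hw h0 h1) (hA' a ha)
  have hall' : ∀ r ∈ Q.R, ∀ v ∈ Q.R, br r v ∈ P := by
    have hone' : ∀ z, br z z ∈ P := fun z => Or.inl (br_eq_one.2 (Commute.refl z))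
    have hw'w : br w' w ∈ P := by rw [hswap]; exact inv_mem (Or.inr rfl)
    intro r hr v hv
    refine span v hv ?_ ?_ r hr <;> rw [hswap] <;> refine inv_mem ?_
    · exact span w hw (hone' w) hw'w v hv
    · exact span w' hw'R (Or.inr rfl) (hone' w') v hv
  have hfix : ∀ z : G, (∀ r ∈ Q.R, z * r * z⁻¹ ∈ Q.R) → z * c * z⁻¹ = c := by
    intro z hz
    have h := hall' _ (hz w hw) _ (hz w' hw'R)
    rw [show br (z * w * z⁻¹) (z * w' * z⁻¹) = z * c * z⁻¹ by rw [hcdef]; simp only [br]; group] at h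
    rcases h with h | h
    · rw [conj_eq_one_iff.1 h, mul_one, mul_inv_cancel]
    · exact h
  have hcE : c ∈ Q.toCore.toFrame.E := Q.fix_R c (Q.A_le_R hcA)
    (conj_eq_iff_commute.1 (hfix Q.x fun r hr => Q.toCore.x_conj_R hr))
  have hc1 : c = 1 := Q.toCore.toFrame.eq_one_of_y_fix hcE
    (hfix Q.y fun r hr => hW.le (Q.toCore.y_conj_W hGN D (hW.ge hr)))
  intro r hr r' hr'
  refine br_eq_one.1 ?_
  rcases hall' r hr r' hr' with h | h
  · exact h
  · rw [h, hc1]

end Quad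

end CfsgLib.MTwentyTwoUnique
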