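import Cfsg.Agent.Homog.Srg
import Cfsg.Agent.Mathieu.GraphSeventySeven

/-!
Parameters of strongly regular graphs on 77 vertices of valency 4, 12, 16 or 36, and groups of
automorphisms of the graph with parameters (77, 16, 0, 4) as automorphism groups of S(3,6,22).
-/

set_option autoImplicit false
set_option linter.unusedSectionVars false

namespace CfsgLib.MTwentyTwoUnique

open Cfsg Finset Mathieu Mathieu.GraphUnique Mathieu.GraphSeventySeven

/-- The integrality condition for the eigenvalue multiplicities. -/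
theorem srg77_trace {V : Type*} [Fintype V] [DecidableEq V] (hV : Fintype.card V = 77)
    (adj : V → V → Prop) [DecidableRel adj] (hsymm : ∀ x y, adj x y → adj y x)
    (hirr : ∀ x, ¬ adj x x) {k l m : ℕ} (hdeg : ∀ x, (univ.filter fun y => adj x y).card = k)
    (hl : ∀ x y, adj x y → (univ.filter fun z => adj x z ∧ adj z y).card = l)
    (hm : ∀ x y, x ≠ y → ¬ adj x y → (univ.filter fun z => adj x z ∧ adj z y).card = m) :
    ((k : ℤ) * k = k + k * l + (76 - k) * m) ∧
      (0 < ((l : ℤ) - m) ^ 2 + 4 * ((k : ℤ) - m) →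
        ∃ w : ℤ, w * (((l : ℤ) - m) ^ 2 + 4 * ((k : ℤ) - m)) = (38 * ((l : ℤ) - m) + k) ^ 2) := by
  classical
  let A : Matrix V V ℝ := Matrix.of fun i j => if adj i j then 1 else 0
  let J : Matrix V V ℝ := Matrix.of fun _ _ => 1
  have hAA : A * A = ((k : ℝ) - m) • (1 : Matrix V V ℝ) + ((l : ℝ) - m) • A + (m : ℝ) • J := by
    ext i j
    have hsum : (A * A) i j = ((univ.filter fun z => adj i z ∧ adj z j).card : ℝ) := by
      simp only [Matrix.mul_apply, A, Matrix.of_apply]
      rw [card_filter]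
      push_cast
      refine sum_congr rfl fun z _ => ?_
      by_cases h1 : adj i z <;> by_cases h2 : adj z j <;> simp [h1, h2]
    rw [hsum]
    rcases eq_or_ne i j with rfl | hij
    · have : (univ.filter fun z => adj i z ∧ adj z i) = univ.filter fun z => adj i z := by
        ext z
        simpa using hsymm i z
      rw [this, hdeg]
      simp [A, J, hirr]
    · by_cases h : adj i j
      · rw [hl i j h]; simp [A, J, h, hij]
      · rw [hm i j hij h]; simp [A, J, h, hij]
  have hAJ : A * J = (k : ℝ) • J := by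
    ext i j
    simp [Matrix.mul_apply, A, J, hdeg]
  have hJA : J * A = (k : ℝ) • J := by
    ext i j
    have : (univ.filter fun x => adj x j) = univ.filter fun x => adj j x := by
      ext x
      simp only [mem_filter, mem_univ, true_and]
      exact ⟨hsymm x j, hsymm j x⟩
    simp [Matrix.mul_apply, A, J, this, hdeg]
  have hJJ : J * J = (77 : ℝ) • J := by
    ext i j
    simp [Matrix.mul_apply, J, hV]
  have hlm : (k : ℤ) * k = k + k * l + (76 - k) * m := by
    obtain ⟨i⟩ : Nonempty V := Fintype.card_pos_iff.1 (by omega)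
    have h := congrArg (fun M : Matrix V V ℝ => (M * J) i i) hAA
    simp only [Matrix.add_mul, Matrix.smul_mul, Matrix.mul_assoc, hAJ, hJJ, Matrix.one_mul,
      Matrix.mul_smul, Matrix.add_apply, Matrix.smul_apply, smul_eq_mul] at h
    simp only [J, Matrix.of_apply] at h
    have h' : ((k : ℝ) * k) = k + k * l + (76 - k) * m := by linarith
    exact_mod_cast h'
  refine ⟨hlm, fun hpos => ?_⟩
  set e : ℝ := (l : ℝ) - m with he
  have hpos' : (0 : ℝ) < e ^ 2 + 4 * ((k : ℝ) - m) := by rw [he]; exact_mod_cast hpos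
  set d : ℝ := Real.sqrt (e ^ 2 + 4 * ((k : ℝ) - m)) with hd
  have hd2 : d * d = e ^ 2 + 4 * ((k : ℝ) - m) := Real.mul_self_sqrt hpos'.le
  have hd0 : d ≠ 0 := (Real.sqrt_pos.2 hpos').ne'
  set s : ℝ := (e - d) / 2 with hs
  set c : ℝ := ((k : ℝ) - s) / 77 with hc
  set M : Matrix V V ℝ := A - s • (1 : Matrix V V ℝ) - c • J with hM
  have hlm' : (k : ℝ) * k = k + k * l + (76 - k) * m := by exact_mod_cast hlm
  have k0 : e - 2 * s = d := by rw [hs]; ring
  have k1 : (k : ℝ) - m + s ^ 2 = -(d * s) := by rw [hs]; linear_combination (-1 / 4 : ℝ) * hd2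
  have k2 : (m : ℝ) - 2 * k * c + 2 * s * c + 77 * c ^ 2 = -(d * c) := by
    rw [hc, hs, he]; linear_combination (1 / 308 : ℝ) * hd2 + (-1 / 77 : ℝ) * hlm'
  have hMM : M * M = d • M := by
    rw [hM]
    simp only [Matrix.sub_mul, Matrix.mul_sub, Matrix.smul_mul, Matrix.mul_smul, Matrix.one_mul,
      Matrix.mul_one, hAA, hAJ, hJA, hJJ]
    ext i j
    simp only [Matrix.sub_apply, Matrix.add_apply, Matrix.smul_apply, smul_eq_mul]
    linear_combination (1 : Matrix V V ℝ) i j * k1 + A i j * k0 + J i j * k2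
  obtain ⟨f, hf⟩ := Homog.trace_idempotent_natCast (E := d⁻¹ • M) (by
    rw [Matrix.smul_mul, Matrix.mul_smul, hMM, smul_smul, smul_smul]
    congr 1
    field_simp)
  have htA : A.trace = 0 := by simp [Matrix.trace, A, hirr]
  have htJ : J.trace = 77 := by simp [Matrix.trace, J, hV]
  rw [Matrix.trace_smul, hM, Matrix.trace_sub, Matrix.trace_sub, Matrix.trace_smul,
    Matrix.trace_smul, Matrix.trace_one, htA, htJ, hV, smul_eq_mul, smul_eq_mul, smul_eq_mul] at hf
  have h1 : ((f : ℝ) - 38) * d = -(38 * e + k) := by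
    rw [← hf, hc, hs]
    field_simp
    push_cast
    ring
  refine ⟨((f : ℤ) - 38) ^ 2, ?_⟩
  have h2 : ((f : ℝ) - 38) ^ 2 * (e ^ 2 + 4 * ((k : ℝ) - m)) = (38 * e + k) ^ 2 := by
    rw [← hd2]
    linear_combination (((f : ℝ) - 38) * d - (38 * e + k)) * h1
  rw [he] at h2
  exact_mod_cast h2

/-- Only the parameters (16, 0, 4) are possible. -/
theorem srg77_param {V : Type*} [Fintype V] [DecidableEq V] (hV : Fintype.card V = 77)
    (adj : V → V → Prop) [DecidableRel adj] (hsymm : ∀ x y, adj x y → adj y x)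
    (hirr : ∀ x, ¬ adj x x) {k l m : ℕ} (hdeg : ∀ x, (univ.filter fun y => adj x y).card = k)
    (hl : ∀ x y, adj x y → (univ.filter fun z => adj x z ∧ adj z y).card = l)
    (hm : ∀ x y, x ≠ y → ¬ adj x y → (univ.filter fun z => adj x z ∧ adj z y).card = m)
    (hk : k ∈ ({4, 12, 16, 36} : Finset ℕ)) : k = 16 ∧ l = 0 ∧ m = 4 := by
  obtain ⟨heq, hw⟩ := srg77_trace hV adj hsymm hirr hdeg hl hm
  simp only [mem_insert, mem_singleton] at hk
  rcases hk with rfl | rfl | rfl | rfl
  · obtain ⟨rfl, rfl⟩ : l = 3 ∧ m = 0 := by omega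
    obtain ⟨w, hw⟩ := hw (by norm_num)
    norm_num at hw
    omega
  · obtain ⟨rfl, rfl⟩ : l = 11 ∧ m = 0 := by omega
    obtain ⟨w, hw⟩ := hw (by norm_num)
    norm_num at hw
    omega
  · obtain ⟨rfl, rfl⟩ | ⟨rfl, rfl⟩ : (l = 15 ∧ m = 0) ∨ (l = 0 ∧ m = 4) := by omega
    · obtain ⟨w, hw⟩ := hw (by norm_num)
      norm_num at hw
      omega
    · exact ⟨rfl, rfl, rfl⟩
  · obtain ⟨rfl, rfl⟩ | ⟨rfl, rfl⟩ | ⟨rfl, rfl⟩ | ⟨rfl, rfl⟩ :
        (l = 35 ∧ m = 0) ∨ (l = 25 ∧ m = 9) ∨ (l = 15 ∧ m = 18) ∨ (l = 5 ∧ m = 27) := by omega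
    all_goals
      obtain ⟨w, hw⟩ := hw (by norm_num)
      norm_num at hw
      omega

/-- A transitive simple group of automorphisms of the graph acts faithfully on a system S(3,6,22). -/
theorem exists_steiner_embedding {V : Type*} [Fintype V] [DecidableEq V] {Γ : SimpleGraph V}
    [DecidableRel Γ.Adj] (h : Γ.IsSRGWith 77 16 0 4) {G : Type*} [Group G] [IsSimpleGroup G]
    [MulAction G V] [MulAction.IsPretransitive G V]
    (hadj : ∀ (g : G) x y, Γ.Adj (g • x) (g • y) ↔ Γ.Adj x y) :
    ∃ B : Set (Finset {I // I ∈ coc h}), Fintype.card {I // I ∈ coc h} = 22 ∧ IsSteinerSystem 3 6 B ∧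
      ∃ f : G →* setSystemAut B, Function.Injective f := by
  classical
  obtain ⟨-, hα, -, -⟩ := exists_block h
  have hcase : ∀ x y : V, x = y ∨ Γ.Adj x y ∨ y ∈ far Γ x := fun x y => by
    rw [mem_far]; tauto
  set α := {I // I ∈ coc h}
  let bl : V → Finset α := fun x => univ.filter fun I => x ∈ I.1
  have hcnt : ∀ (P : Finset V → Prop) [DecidablePred P],
      (univ.filter fun I : α => P I.1).card = ((coc h).filter P).card := by
    intro P _
    rw [← card_map (Function.Embedding.subtype _)]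
    congr 1
    ext I
    simp [α, and_comm]
  have h6 : ∀ x, (bl x).card = 6 := fun x => (hcnt fun I => x ∈ I).trans (coc_counts h x).1
  have hle : ∀ x y, x ≠ y → (bl x ∩ bl y).card < 3 := fun x y hne => by
    rcases hcase x y with e | e | e
    · exact absurd e hne
    · have : Disjoint (bl x) (bl y) := disjoint_left.2 fun I hx hy => by
        simp only [bl, mem_filter, mem_univ, true_and] at hx hy
        exact ((mem_coc h).1 I.2).2 x hx y hy e
      rw [disjoint_iff_inter_eq_empty.1 this, card_empty]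
      norm_num
    · have : (bl x ∩ bl y).card = 2 := by
        rw [← (coc_counts h x).2 y e, ← hcnt fun I => x ∈ I ∧ y ∈ I]
        congr 1; ext I; simp [bl]
      omega
  have hinj : Function.Injective bl := fun x y e => by
    by_contra hne
    have := hle x y hne
    rw [e, inter_self, h6] at this
    omega
  refine ⟨((univ.image bl : Finset (Finset α)) : Set (Finset α)), hα, ?_, ?_⟩
  · refine isSteinerSystem_of_count _ (fun b hb => ?_) (fun b hb c hc hne => ?_) ?_
    · obtain ⟨x, -, rfl⟩ := mem_image.1 hb; exact h6 x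
    · obtain ⟨x, -, rfl⟩ := mem_image.1 hb
      obtain ⟨y, -, rfl⟩ := mem_image.1 hc
      exact hle x y fun e => hne (e ▸ rfl)
    · rw [card_image_of_injective _ hinj, card_univ, h.card, hα]; decide
  have hmem : ∀ (g : G) (I : α), I.1.image (g • ·) ∈ coc h := by
    intro g I
    obtain ⟨h1, h2⟩ := (mem_coc h).1 I.2
    refine (mem_coc h).2 ⟨by rw [card_image_of_injective _ (MulAction.injective g), h1], ?_⟩
    intro u hu v hv
    obtain ⟨u', hu', rfl⟩ := mem_image.1 hu
    obtain ⟨v', hv', rfl⟩ := mem_image.1 hv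
    rw [hadj]
    exact h2 u' hu' v' hv'
  let φ : G → Equiv.Perm α := fun g =>
    { toFun := fun I => ⟨I.1.image (g • ·), hmem g I⟩
      invFun := fun I => ⟨I.1.image (g⁻¹ • ·), hmem g⁻¹ I⟩
      left_inv := fun I => Subtype.ext (by simp [image_image, Function.comp_def])
      right_inv := fun I => Subtype.ext (by simp [image_image, Function.comp_def]) }
  have hbl : ∀ g x, (bl x).image (φ g) = bl (g • x) := by
    intro g x
    ext J
    obtain ⟨I, rfl⟩ := (φ g).surjective J
    rw [(φ g).injective.mem_finset_image]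
    simp only [bl, mem_filter, mem_univ, true_and]
    exact ((MulAction.injective g).mem_finset_image).symm
  let f₀ : G →* Equiv.Perm α := MonoidHom.mk' φ fun g g' => Equiv.ext fun I => Subtype.ext (by
    show I.1.image ((g * g') • ·) = (I.1.image (g' • ·)).image (g • ·)
    rw [image_image]; congr 1; funext x; exact mul_smul g g' x)
  let f : G →* setSystemAut ((univ.image bl : Finset (Finset α)) : Set (Finset α)) :=
    f₀.codRestrict _ fun g => mem_setSystemAut_of_image fun b hb => by
      obtain ⟨x, -, rfl⟩ := mem_image.1 (mem_coe.1 hb)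
      exact mem_coe.2 ((hbl g x).symm ▸ mem_image_of_mem bl (mem_univ (g • x)))
  refine ⟨f, ?_⟩
  rw [← MonoidHom.ker_eq_bot_iff]
  refine (Subgroup.Normal.eq_bot_or_eq_top (MonoidHom.normal_ker f)).resolve_right fun htop => ?_
  obtain ⟨I⟩ : Nonempty α := Fintype.card_pos_iff.1 (hα.symm ▸ (by norm_num))
  obtain ⟨h21, -⟩ := (mem_coc h).1 I.2
  obtain ⟨x, hx⟩ := card_pos.1 (h21.symm ▸ (by norm_num) : 0 < I.1.card)
  have huniv : I.1 = univ := eq_univ_of_forall fun y => by
    obtain ⟨g, rfl⟩ := MulAction.exists_smul_eq G x y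
    have hg : f g = 1 := MonoidHom.mem_ker.1 (htop ▸ Subgroup.mem_top g)
    have : φ g I = I := congrArg (fun p : setSystemAut _ => (p : Equiv.Perm α) I) hg
    have h2 : I.1.image (g • ·) = I.1 := congrArg Subtype.val this
    exact h2 ▸ mem_image_of_mem _ hx
  rw [huniv, card_univ, h.card] at h21
  omega

end CfsgLib.MTwentyTwoUnique
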