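import Cfsg.Agent.MTwentyTwoUnique.Fusion
import Cfsg.Agent.Perm.PermChar
import Cfsg.Agent.S0669
import Cfsg.Agent.MTwentyTwoUnique.Srg

/-!
The action on the 77 cosets of the normaliser of `A`: rank three, and an orbital graph with parameters
(77, 16, 0, 4).
-/

set_option autoImplicit false
set_option linter.style.haveILetI false
set_option linter.unusedSectionVars false

namespace CfsgLib.MTwentyTwoUnique

open Cfsg CfsgLib.Characters CfsgLib.DefectOne CfsgLib.BrauerOrderP
open CfsgLib.MElevenUnique (Ng)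

universe u

variable {G : Type u} [Group G] [Fintype G] [IsSimpleGroup G] [Fact (Nat.Prime 11)] [Fact (Nat.Prime 7)]
  [Fact (Nat.Prime 5)] (hGN : Nat.card G = 443520) (D : Data G)
include hGN D

/-- A transitive action on 77 points has rank three. -/
theorem Data.rank_three {Ω : Type u} [Fintype Ω] [MulAction G Ω] [MulAction.IsPretransitive G Ω]
    (h77 : Nat.card Ω = 77) (a : Ω) :
    Nat.card (MulAction.orbitRel.Quotient (MulAction.stabilizer G a) Ω) = 3 := by
  classical
  haveI : Nonempty Ω := ⟨a⟩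
  rw [← Cfsg.Agent.S0669.result a]
  obtain ⟨m, hm, hdim, hrank⟩ := Perm.PermChar.exists_mult (G := G) (Ω := Ω)
  rw [hrank]
  let one : IrrCharacter G := ⟨_, CfsgLib.Characters.isIrr_one⟩
  have hm1 : m one = 1 := by
    have h := hm one
    rw [Perm.PermChar.inner_one_of_transitive] at h
    exact_mod_cast h.symm
  have hd : deg one = 1 := by
    have h := apply_one one
    rw [show (one : G → ℂ) 1 = 1 from rfl] at h
    exact_mod_cast h.symm
  let M : ℕ → ℕ := fun d => ∑ χ ∈ Finset.univ.filter (fun χ : IrrCharacter G => deg χ = d), m χ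
  have hone : Finset.univ.filter (fun χ : IrrCharacter G => deg χ = 1) = {one} := by
    obtain ⟨ψ, hψ⟩ := Finset.card_eq_one.1 (D.card_deg hGN (d := 1) (by decide) : _ = 1)
    have : one ∈ ({ψ} : Finset (IrrCharacter G)) := hψ ▸ Finset.mem_filter.2 ⟨Finset.mem_univ _, hd⟩
    rw [hψ, Finset.mem_singleton.1 this]
  have hM1 : M 1 = 1 := by simp only [M, hone, Finset.sum_singleton, hm1]
  have hsum : ∑ d ∈ degSet, d * M d = 77 := by
    have h1 : ((77 : ℕ) : ℂ) = ((∑ χ, m χ * deg χ : ℕ) : ℂ) := by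
      rw [← h77, hdim, Nat.cast_sum]
      exact Finset.sum_congr rfl fun χ _ => by rw [apply_one, Nat.cast_mul]
    have h2 : (∑ χ, m χ * deg χ : ℕ) = 77 := by exact_mod_cast h1.symm
    rw [← h2, ← Finset.sum_fiberwise_of_maps_to (t := degSet) (g := deg) (fun χ _ => D.deg_mem hGN χ)]
    refine Finset.sum_congr rfl fun d _ => ?_
    rw [Finset.mul_sum]
    exact Finset.sum_congr rfl fun χ hχ => by rw [(Finset.mem_filter.1 hχ).2, mul_comm]
  simp only [degSet, Finset.sum_insert, Finset.mem_insert, Finset.mem_singleton, OfNat.ofNat_eq_ofNat,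
    Nat.reduceEqDiff, or_self, not_false_iff, Finset.sum_singleton] at hsum
  rw [← Finset.sum_fiberwise_of_maps_to (t := degSet) (g := deg) (fun χ _ => D.deg_mem hGN χ)]
  have h0 : M 99 = 0 ∧ M 154 = 0 ∧ M 210 = 0 ∧ M 231 = 0 ∧ M 280 = 0 ∧ M 385 = 0 := by
    refine ⟨?_, ?_, ?_, ?_, ?_, ?_⟩ <;> by_contra h <;> linarith [Nat.one_le_iff_ne_zero.2 h]
  obtain ⟨h99, h154, h210, h231, h280, h385⟩ := h0
  rw [hM1, h99, h154, h210, h231, h280, h385] at hsum
  simp only [mul_zero, add_zero, mul_one] at hsum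
  have h55 : M 55 ≤ 1 := by omega
  obtain ⟨h21, h45, h55⟩ : M 21 = 1 ∧ M 45 = 0 ∧ M 55 = 1 := by
    have : M 45 ≤ 1 := by omega
    interval_cases hh : M 55 <;> interval_cases hh' : M 45 <;> omega
  have hle : ∀ d ∈ degSet, M d ≤ 1 := by
    intro d hd
    fin_cases hd <;> omega
  rw [Finset.sum_congr rfl (g := M) fun d hd => Finset.sum_congr rfl fun χ hχ => by
    have h1 : m χ ≤ 1 := (Finset.single_le_sum (fun _ _ => Nat.zero_le _) hχ).trans (hle d hd)
    interval_cases m χ <;> rfl]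
  simp only [degSet, Finset.sum_insert, Finset.mem_insert, Finset.mem_singleton, OfNat.ofNat_eq_ofNat,
    Nat.reduceEqDiff, or_self, not_false_iff, Finset.sum_singleton]
  omega

omit hGN D in
/-- The orbital of a pair. -/
def Orbital {Ω : Type u} [MulAction G Ω] (a b : Ω) (x y : Ω) : Prop := ∃ g : G, g • a = x ∧ g • b = y

/-- An invariant graph with parameters (77, 16, 0, 4). -/
theorem Data.exists_graph {Ω : Type u} [Fintype Ω] [MulAction G Ω] [MulAction.IsPretransitive G Ω]
    (h77 : Nat.card Ω = 77) (a : Ω) :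
    ∃ (Γ : SimpleGraph Ω) (_ : DecidableRel Γ.Adj), Γ.IsSRGWith 77 16 0 4 ∧
      ∀ (g : G) x y, Γ.Adj (g • x) (g • y) ↔ Γ.Adj x y := by
  classical
  have hS : Nat.card (MulAction.stabilizer G a) = 5760 := by
    have h := Subgroup.index_mul_card (MulAction.stabilizer G a)
    rw [MulAction.index_stabilizer_of_transitive, h77, hGN] at h
    omega
  set S := MulAction.stabilizer G a
  letI := Fintype.ofFinite (MulAction.orbitRel.Quotient S Ω)
  have hq : (Finset.univ.erase (Quotient.mk _ a : MulAction.orbitRel.Quotient S Ω)).card = 2 := by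
    rw [Finset.card_erase_of_mem (Finset.mem_univ _), Finset.card_univ, ← Nat.card_eq_fintype_card,
      D.rank_three hGN h77 a]
  obtain ⟨q₁, q₂, hne, hq12⟩ := Finset.card_eq_two.1 hq
  have hor : ∀ z : Ω, ∀ w : Ω, (Quotient.mk _ z : MulAction.orbitRel.Quotient S Ω) = Quotient.mk _ w →
      z ∈ MulAction.orbit S w := fun z w h => Quotient.exact h
  have hqa : ∀ z : Ω, (Quotient.mk _ z : MulAction.orbitRel.Quotient S Ω) = Quotient.mk _ a ↔ z = a := by
    refine fun z => ⟨fun h => ?_, fun h => by rw [h]⟩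
    obtain ⟨⟨g, hg⟩, e⟩ := hor z a h
    exact e.symm.trans hg
  have hcov : ∀ z : Ω, z ≠ a → (Quotient.mk _ z : MulAction.orbitRel.Quotient S Ω) = q₁ ∨
      (Quotient.mk _ z : MulAction.orbitRel.Quotient S Ω) = q₂ := by
    intro z hz
    have h : (Quotient.mk _ z : MulAction.orbitRel.Quotient S Ω) ∈ ({q₁, q₂} : Finset _) :=
      hq12 ▸ Finset.mem_erase.2 ⟨fun h => hz ((hqa z).1 h), Finset.mem_univ _⟩
    simpa using h
  have hmem : ∀ q ∈ ({q₁, q₂} : Finset _), q ≠ (Quotient.mk _ a : MulAction.orbitRel.Quotient S Ω) :=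
    fun q hq' => Finset.ne_of_mem_erase (hq12.symm ▸ hq')
  -- the two nontrivial suborbits
  obtain ⟨b₁, rfl⟩ := Quotient.exists_rep q₁
  obtain ⟨b₂, rfl⟩ := Quotient.exists_rep q₂
  have hb₁ : b₁ ≠ a := fun h => hmem _ (by simp) ((hqa b₁).2 h)
  have hb₂ : b₂ ≠ a := fun h => hmem _ (by simp) ((hqa b₂).2 h)
  have hcov' : ∀ z : Ω, z ≠ a → z ∈ MulAction.orbit S b₁ ∨ z ∈ MulAction.orbit S b₂ := fun z hz =>
    (hcov z hz).imp (hor z b₁) (hor z b₂)
  have hdis : ∀ z, z ∈ MulAction.orbit S b₁ → z ∉ MulAction.orbit S b₂ := fun z h1 h2 =>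
    hne ((Quotient.sound h1).symm.trans (Quotient.sound h2))
  have hnota : ∀ b, b ≠ a → a ∉ MulAction.orbit S b := fun b hb h => by
    obtain ⟨⟨g, hg⟩, e⟩ := h
    exact hb (MulAction.injective g ((show g • b = a from e).trans (show g • a = a from hg).symm))
  set o : Ω → ℕ := fun b => (MulAction.orbit S b).toFinset.card with ho
  have ho' : o b₁ + o b₂ = 76 := by
    have e : (MulAction.orbit S b₁).toFinset ∪ (MulAction.orbit S b₂).toFinset = Finset.univ.erase a := by
      ext z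
      simp only [Finset.mem_union, Set.mem_toFinset, Finset.mem_erase, Finset.mem_univ, and_true]
      exact ⟨fun h hz => h.elim (hz ▸ hnota b₁ hb₁) (hz ▸ hnota b₂ hb₂), hcov' z⟩
    have h := congrArg Finset.card e
    rw [Finset.card_union_of_disjoint (Finset.disjoint_left.2 fun z h1 h2 =>
        hdis z (Set.mem_toFinset.1 h1) (Set.mem_toFinset.1 h2)),
      Finset.card_erase_of_mem (Finset.mem_univ _), Finset.card_univ, ← Nat.card_eq_fintype_card, h77] at h
    exact h
  have hosc : ∀ b : Ω, o b * Nat.card (MulAction.stabilizer S b) = 5760 := fun b => by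
    rw [← hS, ← (MulAction.stabilizer S b).index_mul_card, MulAction.index_stabilizer,
      Set.ncard_eq_toFinset_card']
  obtain ⟨b, c, hb, hc, hcov, hdis, hk, hkc⟩ : ∃ b c : Ω, b ≠ a ∧ c ≠ a ∧
      (∀ z, z ≠ a → z ∈ MulAction.orbit S b ∨ z ∈ MulAction.orbit S c) ∧
      (∀ z, z ∈ MulAction.orbit S b → z ∉ MulAction.orbit S c) ∧
      o b ∈ ({4, 12, 16, 36} : Finset ℕ) ∧ o c = 76 - o b := by
    have key : ∀ k ∈ Nat.divisors 5760, k ≤ 76 → 76 - k ∈ Nat.divisors 5760 → k ≤ 38 →
        k ∈ ({4, 12, 16, 36} : Finset ℕ) := by decide +kernel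
    have hd : ∀ b, o b ∈ Nat.divisors 5760 := fun b =>
      Nat.mem_divisors.2 ⟨⟨_, (hosc b).symm⟩, by norm_num⟩
    rcases le_total (o b₁) 38 with h | h
    · exact ⟨b₁, b₂, hb₁, hb₂, hcov', hdis,
        key _ (hd _) (by omega) (by rw [show 76 - o b₁ = o b₂ by omega]; exact hd _) h, by omega⟩
    · exact ⟨b₂, b₁, hb₂, hb₁, fun z hz => (hcov' z hz).symm, fun z h2 h1 => hdis z h1 h2,
        key _ (hd _) (by omega) (by rw [show 76 - o b₂ = o b₁ by omega]; exact hd _) (by omega), by omega⟩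
  -- the orbital of the smaller suborbit
  set adj : Ω → Ω → Prop := Orbital (G := G) a b with hadjdef
  have hinv : ∀ (g : G) (d : Ω) x y, Orbital (G := G) a d (g • x) (g • y) ↔ Orbital (G := G) a d x y := by
    intro g d x y
    constructor
    · rintro ⟨h, h1, h2⟩
      exact ⟨g⁻¹ * h, by rw [mul_smul, h1, inv_smul_smul], by rw [mul_smul, h2, inv_smul_smul]⟩
    · rintro ⟨h, h1, h2⟩
      exact ⟨g * h, by rw [mul_smul, h1], by rw [mul_smul, h2]⟩
  have horb : ∀ d z, Orbital (G := G) a d a z ↔ z ∈ MulAction.orbit S d := fun d z =>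
    ⟨fun ⟨g, hg, e⟩ => ⟨⟨g, hg⟩, e⟩, fun ⟨⟨g, hg⟩, e⟩ => ⟨g, hg, e⟩⟩
  obtain ⟨σ, hσa, hσb⟩ : ∃ σ : G, σ • a = b ∧ σ • b = a := by
    obtain ⟨h₀, hh₀⟩ := MulAction.exists_smul_eq G a b
    set b' := h₀⁻¹ • a with hb'
    have hb'a : b' ≠ a := fun h =>
      hb (hh₀.symm.trans ((congrArg (h₀ • ·) h).symm.trans (smul_inv_smul h₀ a)))
    rcases hcov b' hb'a with hm | hm
    · obtain ⟨⟨s, hs⟩, e⟩ := hm
      refine ⟨h₀ * s, by rw [mul_smul, show s • a = a from hs, hh₀], ?_⟩
      rw [mul_smul, show s • b = b' from e, hb', smul_inv_smul]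
    exfalso
    have hstab : Nat.card (MulAction.stabilizer S b) = Nat.card (MulAction.stabilizer S b') := by
      have e : ∀ d : Ω, MulAction.stabilizer S d ≃ {g : G // g • a = a ∧ g • d = d} := fun d =>
        { toFun := fun z => ⟨(z.1 : G), z.1.2, z.2⟩
          invFun := fun z => ⟨⟨z.1, z.2.1⟩, z.2.2⟩
          left_inv := fun _ => rfl
          right_inv := fun _ => rfl }
      rw [Nat.card_congr (e b), Nat.card_congr (e b')]
      refine Nat.card_congr ((MulAut.conj h₀⁻¹).toEquiv.subtypeEquiv fun g => ?_)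
      show _ ↔ (h₀⁻¹ * g * h₀⁻¹⁻¹) • a = a ∧ (h₀⁻¹ * g * h₀⁻¹⁻¹) • b' = b'
      rw [inv_inv, mul_smul, mul_smul, hh₀, inv_smul_eq_iff, hh₀, mul_smul, mul_smul, hb', smul_inv_smul,
        smul_left_cancel_iff, and_comm]
    have hoc : o b' = o c := by
      simp only [ho]
      rw [show MulAction.orbit S b' = MulAction.orbit S c from MulAction.orbit_eq_iff.2 hm]
    have h1 := hosc b
    rw [hstab, ← hosc b'] at h1
    have := Nat.eq_of_mul_eq_mul_right Nat.card_pos h1
    simp only [Finset.mem_insert, Finset.mem_singleton] at hk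
    omega
  have hsymm : ∀ x y, adj x y → adj y x := by
    rintro x y ⟨g, rfl, rfl⟩
    exact ⟨g * σ, by rw [mul_smul, hσa], by rw [mul_smul, hσb]⟩
  have hirr : ∀ x, ¬ adj x x := fun x ⟨g, h1, h2⟩ => hb (MulAction.injective g (h2.trans h1.symm))
  have hcount : ∀ (g : G) (P : Ω → Prop) [DecidablePred P],
      (Finset.univ.filter fun z => P (g⁻¹ • z)).card = (Finset.univ.filter P).card := by
    intro g P _
    refine Finset.card_bij' (fun z _ => g⁻¹ • z) (fun z _ => g • z) ?_ ?_ ?_ ?_ <;> simp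
  have hdeg : ∀ x, (Finset.univ.filter fun y => adj x y).card = o b := by
    intro x
    obtain ⟨g, rfl⟩ := MulAction.exists_smul_eq G a x
    show _ = (MulAction.orbit S b).toFinset.card
    rw [show (MulAction.orbit S b).toFinset = Finset.univ.filter fun y => adj a y by
      ext z; simp [adj, horb], ← hcount g (adj a)]
    congr 1
    ext z
    rw [Finset.mem_filter, Finset.mem_filter, hadjdef, ← hinv g b a (g⁻¹ • z), smul_inv_smul]
  have htwo : ∀ (d x y : Ω), Orbital (G := G) a d x y →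
      (Finset.univ.filter fun z => adj x z ∧ adj z y).card =
        (Finset.univ.filter fun z => adj a z ∧ adj z d).card := by
    rintro d x y ⟨g, rfl, rfl⟩
    rw [← hcount g (fun z => adj a z ∧ adj z d)]
    congr 1
    ext z
    rw [Finset.mem_filter, Finset.mem_filter, hadjdef, ← hinv g b a (g⁻¹ • z), ← hinv g b (g⁻¹ • z) d,
      smul_inv_smul]
  have hother : ∀ x y, x ≠ y → ¬ adj x y → Orbital (G := G) a c x y := by
    intro x y hxy hn
    obtain ⟨g, rfl⟩ := MulAction.exists_smul_eq G a x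
    have hz : g⁻¹ • y ≠ a := fun h => hxy (by rw [← h, smul_inv_smul])
    rcases hcov _ hz with h | h
    · refine absurd ?_ hn
      rw [show y = g • (g⁻¹ • y) by rw [smul_inv_smul]]
      exact (hinv g b a _).2 ((horb b _).2 h)
    · rw [show y = g • (g⁻¹ • y) by rw [smul_inv_smul]]
      exact (hinv g c a _).2 ((horb c _).2 h)
  have hV : Fintype.card Ω = 77 := by rw [← Nat.card_eq_fintype_card, h77]
  obtain ⟨hk16, hl0, hm4⟩ := srg77_param hV adj hsymm hirr hdeg
    (fun x y h => htwo b x y h) (fun x y hne hn => htwo c x y (hother x y hne hn)) hk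
  let Γ : SimpleGraph Ω := ⟨adj, ⟨hsymm⟩, ⟨hirr⟩⟩
  refine ⟨Γ, inferInstance, ⟨hV, fun x => ?_, fun x y h => ?_, fun x y hne h => ?_⟩, fun g x y => hinv g b x y⟩
  · rw [← hk16, ← hdeg x]
    show (Γ.neighborFinset x).card = _
    congr 1
    ext z
    simp [Γ]
  · rw [← hl0, ← htwo b x y h, ← Set.toFinset_card]
    congr 1
    ext z
    simp [Γ, SimpleGraph.mem_commonNeighbors, adj]
    exact fun _ => ⟨hsymm _ _, hsymm _ _⟩
  · rw [← hm4, ← htwo c x y (hother x y hne h), ← Set.toFinset_card]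
    congr 1
    ext z
    simp [Γ, SimpleGraph.mem_commonNeighbors, adj]
    exact fun _ => ⟨hsymm _ _, hsymm _ _⟩

/-- The group is a group of automorphisms of some S(3,6,22). -/
theorem Data.exists_embedding : ∃ (α : Type u) (_ : Fintype α) (_ : DecidableEq α) (B : Set (Finset α)),
    Fintype.card α = 22 ∧ IsSteinerSystem 3 6 B ∧ ∃ f : G →* setSystemAut B, Function.Injective f := by
  classical
  obtain ⟨Q⟩ := Quad.exists_quad hGN D
  set H := Ng Q.A
  haveI : Fintype (G ⧸ H) := Fintype.ofFinite _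
  have h77 : Nat.card (G ⧸ H) = 77 := by
    have h := H.index_mul_card
    rw [Q.card_NA hGN D, hGN] at h
    rw [← Subgroup.index_eq_card]
    omega
  obtain ⟨Γ, hdec, hΓ, hinv⟩ := D.exists_graph hGN h77 ((1 : G) : G ⧸ H)
  obtain ⟨B, hα, hB, f, hf⟩ := exists_steiner_embedding hΓ hinv
  exact ⟨_, _, inferInstance, B, hα, hB, f, hf⟩

end CfsgLib.MTwentyTwoUnique
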