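import Cfsg.Agent.MTwentyTwoUnique.Four

/-!
The normal subgroup `R` of order 64 of the centraliser of `t` and the 2-part `W` of the centraliser of the
four-group: `W` has order 16 or 64 and is the normaliser of the four-group in `R`.
-/

set_option autoImplicit false
set_option linter.style.haveILetI false
set_option linter.unusedSectionVars false

open scoped Pointwise
open MulAction

namespace CfsgLib.MTwentyTwoUnique

open Cfsg CfsgLib.DefectOne CfsgLib.BrauerOrderP
open CfsgLib.MElevenUnique (Cg Ng mem_Cg)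

universe u

variable {G : Type u} [Group G]

set_option synthInstance.maxSize 2000 in
theorem perm_three_commute : ∀ a b : Equiv.Perm (Fin 3), a ^ 3 = 1 → a ≠ 1 → b ^ 2 = 1 →
    a * b = b * a → b = 1 := by decide

/-- In the symmetric group on three points an involution does not centralise a three-cycle. -/
theorem perm_eq_one_of_commute {α : Type*} (hα : Nat.card α = 3) (a b : Equiv.Perm α) (ha : a ^ 3 = 1)
    (ha1 : a ≠ 1) (hb : b ^ 2 = 1) (h : a * b = b * a) : b = 1 := by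
  haveI := Nat.finite_of_card_ne_zero (hα.trans_ne (by norm_num))
  let e : Equiv.Perm α ≃* Equiv.Perm (Fin 3) := ((Finite.equivFin α).trans (finCongr hα)).permCongrHom
  refine e.injective ?_
  rw [map_one]
  exact perm_three_commute (e a) (e b) (by rw [← map_pow, ha, map_one])
    (fun h1 => ha1 (e.injective (h1.trans (map_one e).symm))) (by rw [← map_pow, hb, map_one])
    (by rw [← map_mul, h, map_mul])

/-- Counting the elements of a subgroup normalised by an element of order 3. -/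
theorem card_mod_three [Finite G] {x : G} (hx : x ^ 3 = 1) (K : Subgroup G)
    (hK : ∀ g ∈ K, x * g * x⁻¹ ∈ K) : Nat.card K % 3 = Nat.card ↥(K ⊓ Cg x) % 3 := by
  classical
  haveI := Fact.mk Nat.prime_three
  haveI := Fintype.ofFinite K
  let f : Function.End K := fun g => ⟨x * g * x⁻¹, hK g g.2⟩
  have hf : f ^ 3 ^ 1 = 1 := by
    funext g
    refine Subtype.ext ?_
    show x * (x * (x * (g : G) * x⁻¹) * x⁻¹) * x⁻¹ = g
    calc x * (x * (x * (g : G) * x⁻¹) * x⁻¹) * x⁻¹ = x ^ 3 * g * (x ^ 3)⁻¹ := by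
          simp only [pow_succ, pow_zero, one_mul, mul_inv_rev, mul_assoc]
      _ = g := by rw [hx, one_mul, inv_one, mul_one]
  have h := Equiv.Perm.card_fixedPoints_modEq hf
  rw [← Nat.card_eq_fintype_card, ← Nat.card_eq_fintype_card] at h
  refine h.trans (congrArg (· % 3) (Nat.card_congr ?_))
  exact
    { toFun := fun g => ⟨g.1.1, g.1.2, mem_Cg.2 (mul_inv_eq_iff_eq_mul.1 (congrArg Subtype.val g.2)).symm⟩
      invFun := fun g => ⟨⟨g.1, g.2.1⟩, Subtype.ext (mul_inv_eq_iff_eq_mul.2 (mem_Cg.1 g.2.2).symm)⟩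
      left_inv := fun _ => rfl
      right_inv := fun _ => rfl }

namespace Frame

variable (F : Frame G)

/-- The four-group. -/
def E : Subgroup G := fourGroup F.ht F.hs F.cts

theorem mem_E {g : G} : g ∈ F.E ↔ g = 1 ∨ g = F.t ∨ g = F.s ∨ g = F.t * F.s := Iff.rfl

theorem card_E : Nat.card F.E = 4 := card_fourGroup F.ht F.hs F.cts (Ne.symm F.hst)

theorem t_mem_E : F.t ∈ F.E := Or.inr (Or.inl rfl)

theorem s_mem_E : F.s ∈ F.E := Or.inr (Or.inr (Or.inl rfl))

theorem orderOf_ts : orderOf (F.t * F.s) = 2 := orderOf_mul_two F.ht F.hs F.cts (Ne.symm F.hst)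

theorem orderOf_mem_E {g : G} (hg : g ∈ F.E) (h1 : g ≠ 1) : orderOf g = 2 := by
  rcases F.mem_E.1 hg with rfl | rfl | rfl | rfl
  · exact absurd rfl h1
  · exact F.ht
  · exact F.hs
  · exact F.orderOf_ts

theorem sq_mem_E {g : G} (hg : g ∈ F.E) : g * g = 1 := by
  by_cases h : g = 1
  · rw [h, one_mul]
  · exact mul_self_of_orderOf_two (F.orderOf_mem_E hg h)

theorem x_comm_E {g : G} (hg : g ∈ F.E) : Commute F.x g := by
  rcases F.mem_E.1 hg with rfl | rfl | rfl | rfl
  · exact Commute.one_right _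
  · exact F.cxt
  · exact F.cxs
  · exact F.cxt.mul_right F.cxs

theorem E_comm {g h : G} (hg : g ∈ F.E) (hh : h ∈ F.E) : Commute g h := by
  have key : ∀ a ∈ F.E, Commute F.t a ∧ Commute F.s a := fun a ha => by
    rcases F.mem_E.1 ha with rfl | rfl | rfl | rfl
    · exact ⟨Commute.one_right _, Commute.one_right _⟩
    · exact ⟨Commute.refl _, F.cts.symm⟩
    · exact ⟨F.cts, Commute.refl _⟩
    · exact ⟨(Commute.refl _).mul_right F.cts, F.cts.symm.mul_right (Commute.refl _)⟩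
  rcases F.mem_E.1 hg with rfl | rfl | rfl | rfl
  · exact Commute.one_left _
  · exact (key h hh).1
  · exact (key h hh).2
  · exact (key h hh).1.mul_left (key h hh).2

theorem mem_E_of_inv {g : G} (h2 : g * g = 1) (hx : Commute F.x g) : g ∈ F.E := by
  by_cases h : g = 1
  · rw [h]; exact one_mem _
  · exact Or.inr (F.inv_cases g (orderOf_eq_prime (by rw [pow_two]; exact h2) h) hx)

theorem x_cubed : F.x ^ 3 = 1 := by rw [← F.hx, pow_orderOf_eq_one]

theorem x_ne_one : F.x ≠ 1 := fun e => by have := F.hx; rw [e, orderOf_one] at this; omega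

theorem y_ts : F.y * (F.t * F.s) * F.y⁻¹ = F.t := by
  rw [show F.y * (F.t * F.s) * F.y⁻¹ = F.y * F.t * F.y⁻¹ * (F.y * F.s * F.y⁻¹) by group, F.y_t, F.y_s,
    ← mul_assoc, ← F.cts.eq, mul_assoc, mul_self_of_orderOf_two F.hs, mul_one]

theorem y_conj_E {g : G} (hg : g ∈ F.E) : F.y * g * F.y⁻¹ ∈ F.E := by
  rcases F.mem_E.1 hg with rfl | rfl | rfl | rfl
  · simp
  · rw [F.y_t]; exact F.s_mem_E
  · rw [F.y_s]; exact mul_mem F.t_mem_E F.s_mem_E
  · rw [F.y_ts]; exact F.t_mem_E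

theorem eq_one_of_y_fix {g : G} (hg : g ∈ F.E) (h : F.y * g * F.y⁻¹ = g) : g = 1 := by
  rcases F.mem_E.1 hg with rfl | rfl | rfl | rfl
  · rfl
  · rw [F.y_t] at h; exact absurd h F.hst
  · rw [F.y_s] at h
    exact absurd (mul_eq_right.1 h) (ne_one_of_orderOf_two F.ht)
  · rw [F.y_ts] at h
    exact absurd (left_eq_mul.1 h) (ne_one_of_orderOf_two F.hs)

theorem u_t : F.u * F.t * F.u⁻¹ = F.t := conj_eq_iff_commute.2 F.cut

theorem u_conj_E {g : G} (hg : g ∈ F.E) : F.u * g * F.u⁻¹ ∈ F.E := by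
  rcases F.mem_E.1 hg with rfl | rfl | rfl | rfl
  · simp
  · rw [F.u_t]; exact F.t_mem_E
  · rw [F.u_s]; exact mul_mem F.t_mem_E F.s_mem_E
  · rw [show F.u * (F.t * F.s) * F.u⁻¹ = F.u * F.t * F.u⁻¹ * (F.u * F.s * F.u⁻¹) by group, F.u_t, F.u_s,
      ← mul_assoc, mul_self_of_orderOf_two F.ht, one_mul]
    exact F.s_mem_E

/-- The centraliser of the four-group. -/
def CE : Subgroup G := Cg F.t ⊓ Cg F.s

theorem mem_CE {g : G} : g ∈ F.CE ↔ Commute g F.t ∧ Commute g F.s :=
  ⟨fun h => ⟨mem_Cg.1 h.1, mem_Cg.1 h.2⟩, fun h => ⟨mem_Cg.2 h.1.eq, mem_Cg.2 h.2.eq⟩⟩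

theorem comm_E_of_mem_CE {g e : G} (hg : g ∈ F.CE) (he : e ∈ F.E) : Commute g e := by
  obtain ⟨h1, h2⟩ := F.mem_CE.1 hg
  rcases F.mem_E.1 he with rfl | rfl | rfl | rfl
  · exact Commute.one_right _
  · exact h1
  · exact h2
  · exact h1.mul_right h2

theorem conj_mem_CE {c g : G} (hc : ∀ e ∈ F.E, c⁻¹ * e * c ∈ F.E) (hg : g ∈ F.CE) :
    c * g * c⁻¹ ∈ F.CE := by
  have key : ∀ e ∈ F.E, Commute (c * g * c⁻¹) e := fun e he => by
    have h := commute_conj c (F.comm_E_of_mem_CE hg (hc e he))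
    rwa [show c * (c⁻¹ * e * c) * c⁻¹ = e by group] at h
  exact F.mem_CE.2 ⟨key _ F.t_mem_E, key _ F.s_mem_E⟩

variable [Fintype G]

theorem conj_inv_E {c : G} (h : ∀ e ∈ F.E, c * e * c⁻¹ ∈ F.E) {e : G} (he : e ∈ F.E) :
    c⁻¹ * e * c ∈ F.E := by
  classical
  have hsur : Function.Surjective (fun e : F.E => (⟨c * e * c⁻¹, h e e.2⟩ : F.E)) :=
    Finite.surjective_of_injective fun a b hab => Subtype.ext (conj_injective c (congrArg Subtype.val hab))
  obtain ⟨e', he'⟩ := hsur ⟨e, he⟩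
  have : (e' : G) = c⁻¹ * e * c := by
    have h' : c * (e' : G) * c⁻¹ = e := congrArg Subtype.val he'
    rw [← h']; group
  exact this ▸ e'.2

variable [IsSimpleGroup G] [Fact (Nat.Prime 11)] [Fact (Nat.Prime 7)] [Fact (Nat.Prime 5)]
  (hGN : Nat.card G = 443520) (D : Data G)
include hGN D

/-- The largest normal 2-subgroup of the centraliser of `t`. -/
theorem exists_R : ∃ R : Subgroup G, R ≤ Cg F.t ∧ Nat.card R = 64 ∧
    (∀ c : G, Commute c F.t → ∀ r ∈ R, c * r * c⁻¹ ∈ R) ∧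
    F.E ≤ R ∧ (∀ r ∈ R, Commute F.x r → r ∈ F.E) ∧
    (∀ K : Subgroup G, R ≤ K → K ≤ Cg F.t → F.x ∈ K → ∀ g ∈ K, g ∉ R → g ^ 2 = 1 → K = Cg F.t) := by
  classical
  haveI := Fact.mk Nat.prime_two
  haveI := Fact.mk Nat.prime_three
  set H := Cg F.t with hH
  have hC : Nat.card H = 384 := D.card_Cg hGN F.ht
  set xH : H := ⟨F.x, mem_Cg.2 F.cxt.eq⟩
  set uH : H := ⟨F.u, mem_Cg.2 F.cut.eq⟩
  obtain ⟨S⟩ : Nonempty (Sylow 2 H) := inferInstance
  have hS : Nat.card (S : Subgroup H) = 128 := by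
    rw [Sylow.card_eq_multiplicity, hC, show 384 = 2 ^ 7 * 3 by norm_num,
      Nat.factorization_mul (by norm_num) (by norm_num), Finsupp.add_apply,
      Nat.Prime.factorization_pow Nat.prime_two, Finsupp.single_eq_same,
      Nat.factorization_eq_zero_of_not_dvd (by norm_num : ¬ 2 ∣ 3)]
    norm_num
  have hx3 : xH ^ 3 = 1 := Subtype.ext F.x_cubed
  have hu2 : uH ^ 2 = 1 := Subtype.ext (by
    show F.u ^ 2 = 1; rw [← F.hu, pow_orderOf_eq_one])
  have hn : Nat.card (Sylow 2 H) = 3 := by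
    have hmul := Small.card_sylow_mul_card_normalizer S
    have hdvd : 128 ∣ Nat.card (Subgroup.normalizer ((S : Subgroup H) : Set H)) :=
      hS ▸ Subgroup.card_dvd_of_le Subgroup.le_normalizer
    rw [hC] at hmul
    obtain ⟨j, hj⟩ := hdvd
    rw [hj] at hmul
    have h3 : Nat.card (Sylow 2 H) * j = 3 := by linarith
    rcases (Nat.dvd_prime Nat.prime_three).1 (Dvd.intro _ h3) with h | h
    · exfalso
      haveI : Subsingleton (Sylow 2 H) := (Nat.card_eq_one_iff_unique.1 h).1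
      have hp : IsPGroup 2 (Subgroup.zpowers uH) := IsPGroup.of_card (n := 1) (by
        rw [Nat.card_zpowers, ← Subgroup.orderOf_coe]; exact F.hu)
      obtain ⟨S', hS'⟩ := hp.exists_le_sylow
      have huS : uH ∈ (S : Subgroup H) := Subsingleton.elim S' S ▸ hS' (Subgroup.mem_zpowers uH)
      haveI : (S : Subgroup H).Normal := Sylow.normal_of_subsingleton S
      have hmem : xH * uH * xH⁻¹ * uH⁻¹ ∈ (S : Subgroup H) :=
        mul_mem (Subgroup.Normal.conj_mem inferInstance _ huS _) (inv_mem huS)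
      have he : xH * uH * xH⁻¹ * uH⁻¹ = xH ^ 2 := Subtype.ext (by
        show F.x * F.u * F.x⁻¹ * F.u⁻¹ = F.x ^ 2
        rw [show F.x * F.u * F.x⁻¹ * F.u⁻¹ = F.x * (F.u * F.x * F.u⁻¹)⁻¹ by group, F.u_x, inv_inv, pow_two])
      rw [he] at hmem
      have h1 := Subgroup.orderOf_dvd_natCard _ hmem
      rw [hS, orderOf_pow' _ (by norm_num), ← Subgroup.orderOf_coe, show ((xH : H) : G) = F.x from rfl,
        F.hx] at h1
      norm_num at h1
    · exact h
  set φ := MulAction.toPermHom H (Sylow 2 H) with hφ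
  set K := φ.ker with hK
  have hcard : Nat.card K = 64 := by
    have h1 := K.index_mul_card
    rw [hC] at h1
    have h2 : K.index ∣ 6 := by
      rw [hK, Subgroup.index_ker]
      have := Subgroup.card_subgroup_dvd_card φ.range
      rwa [Nat.card_perm, hn] at this
    have h3 : K.index % 3 = 0 := by
      have hle : K ≤ Subgroup.normalizer ((S : Subgroup H) : Set H) := fun k hk =>
        Sylow.smul_eq_iff_mem_normalizer.1 (by
          have := DFunLike.congr_fun (MonoidHom.mem_ker.1 hk) S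
          exact this)
      have h4 := Subgroup.index_dvd_of_le hle
      rw [show (Subgroup.normalizer ((S : Subgroup H) : Set H)).index = 3 from S.card_eq_index_normalizer.symm.trans hn] at h4
      exact Nat.mod_eq_zero_of_dvd h4
    have : K.index = 3 ∨ K.index = 6 := by
      have := Nat.le_of_dvd (by norm_num) h2
      interval_cases K.index <;> omega
    rcases this with h | h
    · exfalso
      rw [h] at h1
      have hK128 : Nat.card K = 128 := by omega
      obtain ⟨S', hS'⟩ := (IsPGroup.of_card (n := 7) (by rw [hK128]; norm_num) : IsPGroup 2 K).exists_le_sylow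
      have hcS' : Nat.card (S' : Subgroup H) = 128 := by
        rw [Sylow.card_eq_multiplicity, ← Sylow.card_eq_multiplicity S, hS]
      have he : K = (S' : Subgroup H) := Subgroup.eq_of_le_of_card_ge hS' (by rw [hK128, hcS'])
      haveI : (S' : Subgroup H).Normal := he ▸ MonoidHom.normal_ker φ
      letI := Sylow.unique_of_normal S' inferInstance
      rw [Nat.card_unique] at hn
      omega
    · rw [h] at h1; omega
  have hxK : xH ∉ K := fun h => by
    have := Subgroup.orderOf_dvd_natCard _ h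
    rw [hcard, ← Subgroup.orderOf_coe, show ((xH : H) : G) = F.x from rfl, F.hx] at this
    norm_num at this
  have hmemR : ∀ {g : G}, g ∈ K.map H.subtype ↔ ∃ h : g ∈ H, (⟨g, h⟩ : H) ∈ K := by
    intro g
    constructor
    · rintro ⟨k, hk, rfl⟩; exact ⟨k.2, hk⟩
    · exact fun ⟨h, hk⟩ => ⟨⟨g, h⟩, hk, rfl⟩
  have hcR : Nat.card (K.map H.subtype) = 64 := by
    rw [Subgroup.card_map_of_injective H.subtype_injective, hcard]
  have hER : F.E ≤ K.map H.subtype := by
    intro e he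
    have hecomm : Commute e F.t := F.E_comm he F.t_mem_E
    refine hmemR.2 ⟨mem_Cg.2 hecomm.eq, MonoidHom.mem_ker.2 ?_⟩
    set eH : H := ⟨e, mem_Cg.2 hecomm.eq⟩
    refine perm_eq_one_of_commute hn (φ xH) (φ eH) (by rw [← map_pow, hx3, map_one])
      (fun h => hxK (MonoidHom.mem_ker.2 h)) ?_ ?_
    · rw [← map_pow, show eH ^ 2 = 1 from Subtype.ext (by
        show e ^ 2 = 1; rw [pow_two]; exact F.sq_mem_E he), map_one]
    · rw [← map_mul, ← map_mul]
      exact congrArg φ (Subtype.ext (F.x_comm_E he).eq)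
  refine ⟨K.map H.subtype, Subgroup.map_subtype_le K, hcR, ?_, hER, ?_, ?_⟩
  · intro c hc r hr
    obtain ⟨h, hk⟩ := hmemR.1 hr
    exact hmemR.2 ⟨mul_mem (mul_mem (mem_Cg.2 hc.eq) h) (inv_mem (mem_Cg.2 hc.eq)),
      (MonoidHom.normal_ker φ).conj_mem _ hk (⟨c, mem_Cg.2 hc.eq⟩ : H)⟩
  · intro r hr hxr
    have hle : F.E ≤ K.map H.subtype ⊓ (Cg F.x ⊓ Cg F.t) := le_inf hER fun e he =>
      ⟨mem_Cg.2 (F.x_comm_E he).eq.symm, mem_Cg.2 (F.E_comm he F.t_mem_E).eq⟩
    have h12 := (D.common_centraliser hGN F.hx F.ht F.cxt).1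
    have heq : F.E = K.map H.subtype ⊓ (Cg F.x ⊓ Cg F.t) := by
      refine Subgroup.eq_of_le_of_card_ge hle ?_
      rw [F.card_E]
      refine Nat.le_of_dvd (by norm_num) ?_
      have h1 := Subgroup.card_dvd_of_le (inf_le_left : K.map H.subtype ⊓ (Cg F.x ⊓ Cg F.t) ≤ _)
      have h2 := Subgroup.card_dvd_of_le (inf_le_right : K.map H.subtype ⊓ (Cg F.x ⊓ Cg F.t) ≤ _)
      rw [hcR] at h1
      rw [h12] at h2
      have h3 := Nat.dvd_gcd h1 h2
      rw [show Nat.gcd 64 12 = 4 by decide] at h3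
      exact h3
    exact heq.ge ⟨hr, mem_Cg.2 hxr.eq.symm, (Subgroup.map_subtype_le K) hr⟩
  · intro M hRM hMH hxM g hgM hgR hg2
    refine le_antisymm hMH ?_
    set M' := M.subgroupOf H
    have hKM : K ≤ M' := fun k hk => hRM (hmemR.2 ⟨k.2, hk⟩)
    set T := M'.map φ
    have hker : φ.ker ≤ M' := hKM
    have hT2 : 2 ∣ Nat.card T := by
      have hgH : (⟨g, hMH hgM⟩ : H) ∈ M' := hgM
      have h2 : (φ ⟨g, hMH hgM⟩) ^ 2 = 1 := by
        rw [← map_pow, show (⟨g, hMH hgM⟩ : H) ^ 2 = 1 from Subtype.ext hg2, map_one]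
      have hne : φ ⟨g, hMH hgM⟩ ≠ 1 := fun h => hgR (hmemR.2 ⟨hMH hgM, MonoidHom.mem_ker.2 h⟩)
      have := Subgroup.orderOf_dvd_natCard T (Subgroup.mem_map_of_mem φ hgH)
      rwa [orderOf_eq_prime h2 hne] at this
    have hT3 : 3 ∣ Nat.card T := by
      have h2 : (φ xH) ^ 3 = 1 := by rw [← map_pow, hx3, map_one]
      have := Subgroup.orderOf_dvd_natCard T (Subgroup.mem_map_of_mem φ (show xH ∈ M' from hxM))
      rwa [orderOf_eq_prime h2 (fun h => hxK (MonoidHom.mem_ker.2 h))] at this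
    have hT : T = ⊤ := by
      refine Subgroup.eq_top_of_le_card T ?_
      rw [Nat.card_perm, hn]
      have h6 : 2 * 3 ∣ Nat.card T :=
        (by norm_num : Nat.Coprime 2 3).mul_dvd_of_dvd_of_dvd hT2 hT3
      exact Nat.le_of_dvd Nat.card_pos h6
    intro c hc
    have : φ ⟨c, hc⟩ ∈ T := hT ▸ Subgroup.mem_top _
    obtain ⟨m, hm, hme⟩ := this
    have hk : m⁻¹ * ⟨c, hc⟩ ∈ K := MonoidHom.mem_ker.2 (by rw [map_mul, map_inv, hme, inv_mul_cancel])
    have := mul_mem hm (hKM hk)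
    rwa [mul_inv_cancel_left] at this

end Frame

end CfsgLib.MTwentyTwoUnique
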