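import Cfsg.Agent.Small.ClassCheckSearch

/-!
A finite search for the degrees in the principal blocks for 5, 7 and 11 and for their values at an
involution, for the group order 443520.
-/

set_option autoImplicit false

namespace CfsgLib.MTwentyTwoUnique

open CfsgLib.Small.Check (Item)

/-- A bound for a value at an element with centraliser order `C`. -/
def bnd (C : ℕ) : ℕ :=
  if C ≤ 400 then 20 else if C ≤ 2500 then 50 else if C ≤ 10000 then 100 else 201

/-- The values allowed for a degree. -/
def cvals (md d idx C : ℕ) : List ℤ :=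
  ((List.range (2 * (min (d - 1) (bnd C) / (d / Nat.gcd d idx)) + 1)).map fun j : ℕ =>
      ((d / Nat.gcd d idx : ℕ) : ℤ) * ((j : ℤ) - ((min (d - 1) (bnd C) / (d / Nat.gcd d idx) : ℕ) : ℤ))).filter
    fun v => decide (((d : ℤ) - v) % (md : ℤ) = 0)

/-- The largest absolute value of a list. -/
def maxAbs (l : List ℤ) : ℕ := l.foldr (fun v m => max v.natAbs m) 0

/-- An item, its values, and what it and the later items can contribute at most. -/
abbrev Cell := Item × List ℤ × ℕ

/-- The cells of a list of items. -/
def cells (f : Item → List ℤ) : List Item → List Cell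
  | [] => []
  | x :: l => (x, f x, x.1.natAbs * maxAbs (f x) + (match cells f l with | [] => 0 | c :: _ => c.2.2))
      :: cells f l

/-- All value lists satisfying the column relation and the class equation, with what is left of the
norm. -/
def valsRec (GN : ℕ) : List Cell → ℤ → ℤ → ℤ → List (List ℤ × ℤ)
  | [], A, R, q => if decide (A = 0) && decide (R = 0) then [([], q)] else []
  | ((co, m, d), cs, r) :: l, A, R, q =>
    if Nat.ble A.natAbs r then
      cs.flatMap fun v =>
        if decide ((m : ℤ) * (v * v) ≤ q) then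
          (valsRec GN l (A + co * v) (R + co * (v * v) * ((GN / d : ℕ) : ℤ))
            (q - (m : ℤ) * (v * v))).map fun x => (v :: x.1, x.2)
        else []
    else []

/-- The possible values at an involution with centraliser order `C`. -/
def vals (GN C : ℕ) (t : List Item) : List (List ℤ × ℤ) :=
  valsRec GN (cells (fun x => cvals 4 x.2.2 (GN / C) C) t) 1 (GN : ℤ) ((C : ℤ) - 1)

/-- Choose a multiset of candidate constant rows. -/
def choose (leaf : ℤ → ℕ → List Item → Bool) :
    List (ℤ × ℕ) → ℕ → ℤ → ℕ → List Item → Bool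
  | [], c, T, q, acc => decide (c = 0) && leaf T q acc
  | (a, d) :: cs, c, T, q, acc =>
    if decide (c = 0) then leaf T q acc
    else (List.range (c + 1)).any fun j : ℕ => decide (j * (d * d) ≤ q) &&
      choose leaf cs (c - j) (T + (j : ℤ) * (a * (d : ℤ))) (q - j * (d * d))
        (List.replicate j (a, 1, d) ++ acc)

end CfsgLib.MTwentyTwoUnique

namespace CfsgLib.MTwentyTwoUnique

open CfsgLib.Small.Check (Item)

/-- The number of Sylow subgroups, the inertial index, the order of the complement, and the items. -/
abbrev Opt := ℕ × ℕ × ℕ × List Item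

/-- The divisors of 443520, in increasing order. -/
def dvds : List ℕ :=
  [1, 2, 3, 4, 5, 6, 7, 8, 9, 10, 11, 12, 14, 15, 16, 18, 20, 21, 22, 24, 28, 30, 32, 33, 35, 36,
    40, 42, 44, 45, 48, 55, 56, 60, 63, 64, 66, 70, 72, 77, 80, 84, 88, 90, 96, 99, 105, 110, 112,
    120, 126, 128, 132, 140, 144, 154, 160, 165, 168, 176, 180, 192, 198, 210, 220, 224, 231, 240,
    252, 264, 280, 288, 308, 315, 320, 330, 336, 352, 360, 384, 385, 396, 420, 440, 448, 462, 480,
    495, 504, 528, 560, 576, 616, 630, 640, 660, 672, 693, 704, 720, 770, 792, 840, 880, 896, 924,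
    960, 990, 1008, 1056, 1120, 1152, 1155, 1232, 1260, 1320, 1344, 1386, 1408, 1440, 1540, 1584,
    1680, 1760, 1848, 1920, 1980, 2016, 2112, 2240, 2310, 2464, 2520, 2640, 2688, 2772, 2880, 3080,
    3168, 3360, 3465, 3520, 3696, 3960, 4032, 4224, 4480, 4620, 4928, 5040, 5280, 5544, 5760, 6160,
    6336, 6720, 6930, 7040, 7392, 7920, 8064, 9240, 9856, 10080, 10560, 11088, 12320, 12672, 13440,
    13860, 14784, 15840, 18480, 20160, 21120, 22176, 24640, 27720, 29568, 31680, 36960, 40320,
    44352, 49280, 55440, 63360, 73920, 88704, 110880, 147840, 221760, 443520]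

/-- The centraliser orders to consider for an involution. -/
def invOrders : List ℕ :=
  dvds.filter fun C => decide (C % 2 = 0) && decide (C % 11 ≠ 0) && decide (11 * C ≤ 443520)

/-- Insert the exceptional item among the others by its degree. -/
def insUnit (u : Item) (acc : List Item) : List Item :=
  acc.filter (fun x => decide (u.2.2 < x.2.2)) ++ u :: acc.filter fun x => !decide (u.2.2 < x.2.2)

/-- The degree conditions on the exceptional item. -/
def finish (p n e k : ℕ) (pred : List Item → Bool) (T : ℤ) (q : ℕ) (acc : List Item) : Bool :=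
  if decide (k = 1) then decide (T = 0) && pred acc
  else decide (1 < T.natAbs) && decide ((e * n) % T.natAbs = 0) && decide (443520 % T.natAbs = 0) &&
    decide (((T.natAbs : ℤ) + (e : ℤ) * (if 0 < T then -1 else 1)) % (p : ℤ) = 0) &&
    decide (k * (T.natAbs * T.natAbs) ≤ q) &&
    pred (insUnit ((if 0 < T then -1 else 1), k, T.natAbs) acc)

/-- The candidate constant rows. -/
def rowCands (p n e K : ℕ) : List (ℤ × ℕ) :=
  (dvds.filter fun d => decide (d < 666) && decide (1 < d) && decide ((e * n) % d = 0) &&
      decide (K % 2 = 1 ∨ 2 * p ≤ d) &&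
      (decide (d % p = 1) || decide (d % p = p - 1))).map
    fun d => ((if d % p = 1 then 1 else -1), d)

/-- All possible principal blocks with the given local data, fed to `pred`. -/
def blocks (p n e K : ℕ) (pred : List Item → Bool) : Bool :=
  choose (finish p n e ((p - 1) / e) pred) (rowCands p n e K)
    (if (p - 1) / e = 1 then e else e - 1) 1 443519 []

/-- The multiplicity of a degree. -/
def cntD (l : List Item) (d : ℕ) : ℕ :=
  ((l.filter fun x => decide (x.2.2 = d)).map fun x => x.2.1).sum

/-- The sum of the squared degrees. -/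
def sqSum (l : List Item) : ℕ := (l.map fun x => x.2.1 * (x.2.2 * x.2.2)).sum

/-- Compatibility of a block with the block for 11. -/
def contain (p : ℕ) (t : List Item) (o : Opt) : Bool :=
  (o.2.2.2.all fun x => decide (x.2.2 % 11 = 0) || decide (cntD o.2.2.2 x.2.2 ≤ cntD t x.2.2)) &&
    decide (1 + sqSum t + sqSum (o.2.2.2.filter fun x => decide (x.2.2 % 11 = 0)) ≤ 443520) &&
    (decide (o.2.2.1 ≠ 1) ||
      t.all fun x => decide (x.2.2 % p = 0) || decide (cntD t x.2.2 = cntD o.2.2.2 x.2.2))

/-- The centraliser of an involution of a block with a multiple of `p`. -/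
def okC (p : ℕ) (o : Opt) (C : ℕ) : Bool :=
  decide (C % p ≠ 0) || (decide (o.2.2.1 % 2 = 0) && dvds.any fun M =>
    decide (M % ((if o.2.2.1 = 4 then 4 else 2) * p) = 0) && decide ((443520 / o.1) % M = 0) &&
      decide (C % M = 0) && decide ((C / M) % p = 1))

/-- The condition on the pairs of conjugates with product in a coset of the complement. -/
def sqOK (p : ℕ) (o : Opt) (C : ℕ) (R : ℤ) : Bool :=
  if decide (o.2.1 % 2 = 1) then decide (R = 0)
  else decide (0 ≤ R) && decide ((R.natAbs * o.2.2.1) % (p * (C * C)) = 0) &&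
    decide (Nat.sqrt (R.natAbs * o.2.2.1 / (p * (C * C))) *
      Nat.sqrt (R.natAbs * o.2.2.1 / (p * (C * C))) = R.natAbs * o.2.2.1 / (p * (C * C))) &&
    (decide (1 < o.2.2.1) || decide (Nat.sqrt (R.natAbs * o.2.2.1 / (p * (C * C))) ≤ 1))

/-- Values for the characters of one block. -/
def feasRec (ok : ℤ → Bool) : List (Item × List ℤ) → ℤ → ℤ → ℤ → Bool
  | [], A, R, _ => decide (A = 0) && ok R
  | ((co, m, d), cs) :: l, A, R, q => cs.any fun v =>
    if decide (d % 11 = 0) then decide ((m : ℤ) * (v * v) ≤ q) &&
      feasRec ok l (A + co * v) (R + co * (v * v) * ((443520 / d : ℕ) : ℤ)) (q - (m : ℤ) * (v * v))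
    else feasRec ok l (A + co * v) (R + co * (v * v) * ((443520 / d : ℕ) : ℤ)) q

/-- The modulus of the congruence between a value and a degree. -/
def modFor (p C m : ℕ) : ℕ := if decide (C % p = 0) && decide (m = 1) then 4 * p else 4

/-- The candidates for one item of a block. -/
def itemVals (p C : ℕ) (t : List Item) (w : List ℤ) (fix : Option (ℕ × ℤ)) (x : Item) : List ℤ :=
  if decide (x.2.2 % 11 = 0) then
    (cvals (modFor p C x.2.1) x.2.2 (443520 / C) C).filter fun v =>
      match fix with
      | none => true
      | some f => decide (x.2.2 ≠ f.1) || decide (v = f.2)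
  else ((t.zip w).filter fun y => decide (y.1.2.2 = x.2.2) &&
    decide (((x.2.2 : ℤ) - y.2) % (modFor p C x.2.1 : ℤ) = 0)).map fun y => y.2

/-- A block agrees with given values of the block for 11. -/
def feas (p : ℕ) (o : Opt) (C : ℕ) (t : List Item) (w : List ℤ × ℤ) (fix : Option (ℕ × ℤ)) : Bool :=
  feasRec (sqOK p o C) (o.2.2.2.map fun x => (x, itemVals p C t w.1 fix x)) 1 443520 w.2

/-- A table of values with the search as fallback. -/
def look (t : List Item) : List (ℕ × List (List ℤ × ℤ)) → ℕ → List (List ℤ × ℤ)
  | [], C => vals 443520 C t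
  | c :: W, C => if decide (c.1 = C) then c.2 else look t W C

/-- The blocks admit values at an involution with centraliser order `C`. -/
def joint (t : List Item) (W : List (ℕ × List (List ℤ × ℤ))) (os : List (ℕ × Opt))
    (fix : Option (ℕ × ℤ)) (C : ℕ) : Bool :=
  os.all (fun o => okC o.1 o.2 C) &&
    (look t W C).any fun w => os.all fun o => feas o.1 o.2 C t w fix

/-- A degree all characters of which take the same value at an involution. -/
def shareD (a b : Opt) : Option ℕ :=
  if decide (a.2.2.1 = 1) then
    ((a.2.2.2.map fun x => x.2.2).find? fun d => decide (d % 11 = 0) && decide (d % 7 ≠ 0) &&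
      decide ((a.2.2.2.filter fun x => decide (x.2.2 = d)).length = 1) &&
      b.2.2.2.any fun x => decide (x.2.2 = d))
  else none

/-- Both blocks admit values, with the same value at a shared degree. -/
def shared (t : List Item) (W : List (ℕ × List (List ℤ × ℤ))) (a b : Opt) (C : ℕ) : Bool :=
  match shareD a b with
  | none => joint t W [(7, a), (5, b)] none C
  | some d => (cvals 4 d (443520 / C) C).any fun v =>
      decide (v * v < (C : ℤ)) && joint t W [(7, a), (5, b)] (some (d, v)) C

/-- Counting rules for the two blocks together. -/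
def crossOK (t : List Item) (a b : Opt) : Bool :=
  (decide (b.2.2.1 ≠ 1) || a.2.2.2.all fun x =>
      decide (x.2.2 % 5 = 0) || decide (cntD a.2.2.2 x.2.2 ≤ cntD b.2.2.2 x.2.2)) &&
    (decide (a.2.2.1 ≠ 1) || b.2.2.2.all fun x =>
      decide (x.2.2 % 7 = 0) || decide (cntD b.2.2.2 x.2.2 ≤ cntD a.2.2.2 x.2.2)) &&
    decide (1 + sqSum t + (((a.2.2.2 ++ b.2.2.2).map fun x => x.2.2).dedup.map fun d =>
      if d % 11 = 0 then d * d * max (cntD a.2.2.2 d) (cntD b.2.2.2 d) else 0).sum ≤ 443520)

/-- A block survives alone. -/
def alone (p : ℕ) (t : List Item) (W : List (ℕ × List (List ℤ × ℤ))) (o : Opt) : Bool :=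
  contain p t o && (decide (o.2.2.1 % 2 = 1) ||
    invOrders.any fun C => decide (C % p = 0) && joint t W [(p, o)] none C)

/-- A pair of blocks survives. -/
def pairOK (t : List Item) (W : List (ℕ × List (List ℤ × ℤ))) (a b : Opt) : Bool :=
  crossOK t a b && (invOrders.any fun C => decide (C % 128 = 0) && shared t W a b C) &&
    (decide (a.2.2.1 % 2 = 1) || invOrders.any fun C => decide (C % 7 = 0) && shared t W a b C) &&
    (decide (b.2.2.1 % 2 = 1) || invOrders.any fun C => decide (C % 5 = 0) && shared t W a b C)

/-- The surviving pairs of blocks. -/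
def survivors (L7 L5 : List Opt) (t : List Item) (W : List (ℕ × List (List ℤ × ℤ))) :
    List (Opt × Opt) :=
  (L7.filter (alone 7 t W)).flatMap fun a =>
    ((L5.filter (alone 5 t W)).filter (pairOK t W a)).map fun b => (a, b)

end CfsgLib.MTwentyTwoUnique
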