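import Cfsg.Agent.MTwentyTwoUnique.CheckFinal
import Cfsg.Agent.MTwentyTwoUnique.CheckTables
import Cfsg.Agent.MTwentyTwoUnique.CheckSurvivors

/-!
The result of the search, collected over the possible blocks for 11.
-/

set_option autoImplicit false
set_option maxRecDepth 100000

namespace CfsgLib.MTwentyTwoUnique

open CfsgLib.Small.Check (Item)

/-- The surviving pairs for each block for 11. -/
theorem exists_table : ∀ i, i < 39 → ∃ W : List (ℕ × List (List ℤ × ℤ)),
    (W.all fun c => vals 443520 c.1 (lits11.getD i []) == c.2) = true ∧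
      ∀ a b : Opt, (a, b) ∈ survivors lits7 lits5 (lits11.getD i []) W → i = 11 ∧ a = theA ∧ b = theB
  | 0, _ => ⟨table0, table0_ok, fun a b h => by rw [surv0_eq] at h; simp at h⟩
  | 1, _ => ⟨table1, table1_ok, fun a b h => by rw [surv1_eq] at h; simp at h⟩
  | 2, _ => ⟨table2, table2_ok, fun a b h => by rw [surv2_eq] at h; simp at h⟩
  | 3, _ => ⟨table3, table3_ok, fun a b h => by rw [surv3_eq] at h; simp at h⟩
  | 4, _ => ⟨table4, table4_ok, fun a b h => by rw [surv4_eq] at h; simp at h⟩
  | 5, _ => ⟨table5, table5_ok, fun a b h => by rw [surv5_eq] at h; simp at h⟩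
  | 6, _ => ⟨table6, table6_ok, fun a b h => by rw [surv6_eq] at h; simp at h⟩
  | 7, _ => ⟨table7, table7_ok, fun a b h => by rw [surv7_eq] at h; simp at h⟩
  | 8, _ => ⟨table8, table8_ok, fun a b h => by rw [surv8_eq] at h; simp at h⟩
  | 9, _ => ⟨table9, table9_ok, fun a b h => by rw [surv9_eq] at h; simp at h⟩
  | 10, _ => ⟨table10, table10_ok, fun a b h => by rw [surv10_eq] at h; simp at h⟩
  | 11, _ => ⟨table11, table11_ok, fun a b h => by rw [surv11_eq, List.mem_singleton] at h; exact ⟨rfl, Prod.ext_iff.1 h⟩⟩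
  | 12, _ => ⟨table12, table12_ok, fun a b h => by rw [surv12_eq] at h; simp at h⟩
  | 13, _ => ⟨table13, table13_ok, fun a b h => by rw [surv13_eq] at h; simp at h⟩
  | 14, _ => ⟨table14, table14_ok, fun a b h => by rw [surv14_eq] at h; simp at h⟩
  | 15, _ => ⟨table15, table15_ok, fun a b h => by rw [surv15_eq] at h; simp at h⟩
  | 16, _ => ⟨table16, table16_ok, fun a b h => by rw [surv16_eq] at h; simp at h⟩
  | 17, _ => ⟨table17, table17_ok, fun a b h => by rw [surv17_eq] at h; simp at h⟩
  | 18, _ => ⟨table18, table18_ok, fun a b h => by rw [surv18_eq] at h; simp at h⟩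
  | 19, _ => ⟨table19, table19_ok, fun a b h => by rw [surv19_eq] at h; simp at h⟩
  | 20, _ => ⟨table20, table20_ok, fun a b h => by rw [surv20_eq] at h; simp at h⟩
  | 21, _ => ⟨table21, table21_ok, fun a b h => by rw [surv21_eq] at h; simp at h⟩
  | 22, _ => ⟨table22, table22_ok, fun a b h => by rw [surv22_eq] at h; simp at h⟩
  | 23, _ => ⟨table23, table23_ok, fun a b h => by rw [surv23_eq] at h; simp at h⟩
  | 24, _ => ⟨table24, table24_ok, fun a b h => by rw [surv24_eq] at h; simp at h⟩
  | 25, _ => ⟨table25, table25_ok, fun a b h => by rw [surv25_eq] at h; simp at h⟩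
  | 26, _ => ⟨table26, table26_ok, fun a b h => by rw [surv26_eq] at h; simp at h⟩
  | 27, _ => ⟨table27, table27_ok, fun a b h => by rw [surv27_eq] at h; simp at h⟩
  | 28, _ => ⟨table28, table28_ok, fun a b h => by rw [surv28_eq] at h; simp at h⟩
  | 29, _ => ⟨table29, table29_ok, fun a b h => by rw [surv29_eq] at h; simp at h⟩
  | 30, _ => ⟨table30, table30_ok, fun a b h => by rw [surv30_eq] at h; simp at h⟩
  | 31, _ => ⟨table31, table31_ok, fun a b h => by rw [surv31_eq] at h; simp at h⟩
  | 32, _ => ⟨table32, table32_ok, fun a b h => by rw [surv32_eq] at h; simp at h⟩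
  | 33, _ => ⟨table33, table33_ok, fun a b h => by rw [surv33_eq] at h; simp at h⟩
  | 34, _ => ⟨table34, table34_ok, fun a b h => by rw [surv34_eq] at h; simp at h⟩
  | 35, _ => ⟨table35, table35_ok, fun a b h => by rw [surv35_eq] at h; simp at h⟩
  | 36, _ => ⟨table36, table36_ok, fun a b h => by rw [surv36_eq] at h; simp at h⟩
  | 37, _ => ⟨table37, table37_ok, fun a b h => by rw [surv37_eq] at h; simp at h⟩
  | 38, _ => ⟨table38, table38_ok, fun a b h => by rw [surv38_eq] at h; simp at h⟩
  | n + 39, h => absurd h (by omega)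

theorem lits11_length : lits11.length = 39 := by decide +kernel

end CfsgLib.MTwentyTwoUnique
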