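import Cfsg.Agent.MTwentyTwoUnique.Facts
import Cfsg.Agent.MTwentyTwoUnique.Search

/-!
Soundness of the enumeration of the possible principal blocks for the group order 443520.
-/

set_option autoImplicit false
set_option linter.style.haveILetI false
set_option linter.unusedSectionVars false

namespace CfsgLib.MTwentyTwoUnique

open Cfsg CfsgLib.Characters CfsgLib.DefectOne CfsgLib.BrauerOrderP
open CfsgLib.Small.Check (Item)
open CfsgLib.MElevenUnique (Cg Ng Cs)
open scoped Pointwise

theorem mem_dvds {d : ℕ} (h : d ∣ 443520) : d ∈ dvds := by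
  have key : (Nat.divisors 128 * (Nat.divisors 9 * (Nat.divisors 5 * (Nat.divisors 7 * Nat.divisors 11))))
      ⊆ dvds.toFinset := by decide +kernel
  refine List.mem_toFinset.1 (key ?_)
  rw [← Nat.divisors_mul, ← Nat.divisors_mul, ← Nat.divisors_mul, ← Nat.divisors_mul]
  exact Nat.mem_divisors.2 ⟨by simpa using h, by norm_num⟩

theorem choose_sound {α : Type*} (leaf : ℤ → ℕ → List Item → Bool) (g : α → ℤ × ℕ) :
    ∀ (cs : List (ℤ × ℕ)) (l : List α) (c : ℕ) (T : ℤ) (q : ℕ) (acc : List Item),
      (∀ a ∈ l, g a ∈ cs) → l.length = c → (l.map fun a => (g a).2 * (g a).2).sum ≤ q →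
      (∀ l' : List α, l'.Perm l →
        leaf (T + (l.map fun a => (g a).1 * ((g a).2 : ℤ)).sum)
          (q - (l.map fun a => (g a).2 * (g a).2).sum)
          ((l'.map fun a => (((g a).1, 1, (g a).2) : Item)) ++ acc) = true) →
      choose leaf cs c T q acc = true
  | [], l, c, T, q, acc, hmem, hc, _, h => by
    obtain rfl : l = [] := List.eq_nil_iff_forall_not_mem.2 fun a ha => by simpa using hmem a ha
    have := h [] (List.Perm.refl _)
    simp only [List.map_nil, List.sum_nil, add_zero, Nat.sub_zero, List.nil_append] at this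
    simp [choose, ← hc, this]
  | (b, d) :: cs, l, c, T, q, acc, hmem, hc, hq, h => by
    classical
    by_cases hc0 : c = 0
    · subst hc0
      obtain rfl : l = [] := List.length_eq_zero_iff.1 hc
      have := h [] (List.Perm.refl _)
      simp only [List.map_nil, List.sum_nil, add_zero, Nat.sub_zero, List.nil_append] at this
      simp [choose, this]
    set l₁ := l.filter fun a => decide (g a = (b, d))
    set l₂ := l.filter fun a => !decide (g a = (b, d))
    have hperm : (l₁ ++ l₂).Perm l := List.filter_append_perm _ l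
    have h₁ : ∀ a ∈ l₁, g a = (b, d) := fun a ha => by simpa [l₁] using (List.mem_filter.1 ha).2
    have h₂ : ∀ a ∈ l₂, a ∈ l ∧ g a ≠ (b, d) := fun a ha =>
      ⟨(List.mem_filter.1 ha).1, by simpa [l₂] using (List.mem_filter.1 ha).2⟩
    have elen : l₁.length + l₂.length = c := by rw [← List.length_append, hperm.length_eq, hc]
    have eq' := (hperm.map fun a => (g a).2 * (g a).2).sum_eq
    have eT := (hperm.map fun a => (g a).1 * ((g a).2 : ℤ)).sum_eq
    rw [List.map_append, List.sum_append] at eq' eT
    rw [List.map_congr_left (g := fun _ => d * d) fun a ha => by rw [h₁ a ha],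
      List.map_const', List.sum_replicate, smul_eq_mul] at eq'
    rw [List.map_congr_left (g := fun _ => b * (d : ℤ)) fun a ha => by rw [h₁ a ha],
      List.map_const', List.sum_replicate, nsmul_eq_mul] at eT
    rw [choose, if_neg (by simpa using hc0), List.any_eq_true]
    refine ⟨l₁.length, List.mem_range.2 (by omega), ?_⟩
    simp only [Bool.and_eq_true, decide_eq_true_eq]
    refine ⟨by omega, ?_⟩
    refine choose_sound leaf g cs l₂ _ _ _ _
      (fun a ha => (List.mem_cons.1 (hmem a (h₂ a ha).1)).resolve_left (h₂ a ha).2)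
      (by omega) (by omega) fun l' hl' => ?_
    have hmap : List.replicate l₁.length ((b, 1, d) : Item)
        = l₁.map fun a => (((g a).1, 1, (g a).2) : Item) := by
      rw [List.map_congr_left (g := fun _ => ((b, 1, d) : Item)) fun a ha => by rw [h₁ a ha],
        List.map_const']
    rw [hmap, ← List.append_assoc, ← List.map_append, add_assoc, eT, Nat.sub_sub, eq']
    exact h _ (((List.perm_append_comm).trans ((List.Perm.refl l₁).append hl')).trans hperm)

universe u

variable {G : Type u} [Group G] [Fintype G] {p : ℕ} [Fact p.Prime] {L : Local p G}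

/-- The item of a character of the block. -/
noncomputable def Block.item (B : Block L) (r : IrrCharacter G) : Item := (B.co r, B.mult r, deg r)

variable (hGN : Nat.card G = 443520)
include hGN

theorem Block.sum_sq_le (B : Block L) :
    1 + (B.reps.map fun r => B.mult r * (deg r * deg r)).sum ≤ 443520 := by
  classical
  have h := sum_degree_sq (G := G)
  simp only [apply_one, hGN] at h
  have h1 : ∑ χ : IrrCharacter G, deg χ * deg χ = 443520 := by
    have e : ((∑ χ : IrrCharacter G, deg χ * deg χ : ℕ) : ℂ) = ((443520 : ℕ) : ℂ) := by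
      push_cast at h ⊢
      rw [← h]
      exact Finset.sum_congr rfl fun χ _ => (sq _).symm
    exact_mod_cast e
  have h2 := B.sum_int (fun χ => (deg χ : ℤ) * deg χ) fun χ χ' hh => by simp only [hh.1]
  have h3 : (∑ χ ∈ B.chars, (deg χ * deg χ) : ℕ) = (B.reps.map fun r => B.mult r * (deg r * deg r)).sum := by
    apply Int.natCast_inj.1
    push_cast
    rw [h2, List.map_map]
    congr 1
  rw [← h3, ← h1]
  have hone : B.one ∉ B.chars := fun h => ((B.mem_chars _).1 h).2 rfl
  have h4 : deg B.one * deg B.one = 1 := by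
    have : ((deg B.one : ℕ) : ℂ) = 1 := by rw [← apply_one, B.one_eq]
    rw [Nat.cast_eq_one.1 this]
  calc 1 + ∑ χ ∈ B.chars, deg χ * deg χ = ∑ χ ∈ insert B.one B.chars, deg χ * deg χ := by
        rw [Finset.sum_insert hone, h4]
    _ ≤ _ := Finset.sum_le_sum_of_subset (Finset.subset_univ _)

theorem deg_lt (χ : IrrCharacter G) : deg χ < 666 := by
  have h := sum_degree_sq (G := G)
  simp only [apply_one, hGN] at h
  have h1 : ∑ χ : IrrCharacter G, deg χ * deg χ = 443520 := by
    have e : ((∑ χ : IrrCharacter G, deg χ * deg χ : ℕ) : ℂ) = ((443520 : ℕ) : ℂ) := by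
      push_cast at h ⊢
      rw [← h]
      exact Finset.sum_congr rfl fun χ _ => (sq _).symm
    exact_mod_cast e
  have h2 : deg χ * deg χ ≤ 443520 := h1 ▸
    Finset.single_le_sum (f := fun χ : IrrCharacter G => deg χ * deg χ) (fun _ _ => Nat.zero_le _)
      (Finset.mem_univ χ)
  by_contra hle
  have := Nat.mul_le_mul (Nat.le_of_not_lt hle) (Nat.le_of_not_lt hle)
  omega

variable [IsSimpleGroup G] (hG : ¬ IsMulCommutative G)
include hG

/-- With an even complement a constant row has degree at least `2 p`. -/
theorem two_mul_le_deg (hp : p ≠ 2) {χ : IrrCharacter G} {a : ℤ} (h : IsConst L χ a)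
    (h1 : (χ : G → ℂ) ≠ fun _ => 1) (hK : Nat.card L.K % 2 = 0) : 2 * p ≤ deg χ := by
  haveI := Fact.mk Nat.prime_two
  obtain ⟨k, hk⟩ := exists_prime_orderOf_dvd_card' (G := L.K) 2 (Nat.dvd_of_mod_eq_zero hK)
  have hk2 : orderOf (k : G) = 2 := by rw [Subgroup.orderOf_coe]; exact hk
  obtain ⟨hv, hv'⟩ := val_spec hG χ hk2
  obtain ⟨h4, -, hlo, hhi⟩ := hv' h1
  have hd := const_dvd_sub_val h k.2 hk2 hv
  have hodd : IsCoprime (4 : ℤ) (p : ℤ) := by
    rw [Int.isCoprime_iff_gcd_eq_one]
    have h2 : Nat.Coprime (2 ^ 2) p := Nat.Coprime.pow_left 2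
      ((Nat.coprime_primes Nat.prime_two Fact.out).2 (Ne.symm hp))
    rw [Int.gcd, Int.natAbs_natCast]
    exact h2
  have h4p : (4 : ℤ) * p ∣ (deg χ : ℤ) - val χ (k : G) :=
    hodd.mul_dvd ⟨((deg χ : ℤ) - val χ (k : G)) / 4, by omega⟩ hd
  obtain ⟨c, hc⟩ := h4p
  have hc1 : 1 ≤ c := by
    by_contra hh
    have : (4 : ℤ) * p * c ≤ 0 := mul_nonpos_of_nonneg_of_nonpos (by positivity) (by omega)
    omega
  have : (4 : ℤ) * p ≤ 4 * p * c := le_mul_of_one_le_right (by positivity) hc1
  omega

/-- **Soundness of the enumeration.** -/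
theorem Block.exists_reorder (B : Block L) (hp : p ≠ 2) {n e' K : ℕ}
    (hn : Nat.card (Sylow p G) = n) (he : e L = e') (hK : Nat.card L.K = K) {pred : List Item → Bool}
    (h : blocks p n e' K pred = false) :
    ∃ l : List (IrrCharacter G), l.Perm B.reps ∧ pred (l.map B.item) = false := by
  classical
  by_contra hcon
  push Not at hcon
  simp only [ne_eq, Bool.not_eq_false] at hcon
  obtain ⟨cs, hcs, hshape⟩ := B.shape
  have hp0 : p.Prime := Fact.out
  have hmem : ∀ r ∈ cs, r ∈ B.reps → ((B.co r, deg r) : ℤ × ℕ) ∈ rowCands p n e' K := by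
    intro r hr hrB
    have h1 := B.ne_one (B.rep_mem r hrB)
    simp only [rowCands, List.mem_map, List.mem_filter, Bool.and_eq_true, decide_eq_true_eq,
      Bool.or_eq_true]
    obtain ⟨hc, -⟩ := hcs r hr
    obtain ⟨c, hc'⟩ := const_congr hc
    have hp3 : 3 ≤ p := by have := hp0.two_le; omega
    have hmod : (B.co r = 1 ∧ deg r % p = 1) ∨ (B.co r = -1 ∧ deg r % p = p - 1) := by
      rcases hc.1 with r1 | r1 <;> rw [r1] at hc'
      · refine Or.inl ⟨r1, ?_⟩
        have e : (deg r : ℤ) % p = 1 := by
          rw [show (deg r : ℤ) = 1 + (p : ℤ) * c by omega, Int.add_mul_emod_self_left]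
          exact Int.emod_eq_of_lt (by norm_num) (by omega)
        omega
      · refine Or.inr ⟨r1, ?_⟩
        have e : (deg r : ℤ) % p = (p : ℤ) - 1 := by
          rw [show (deg r : ℤ) = ((p : ℤ) - 1) + (p : ℤ) * (c - 1) by linear_combination hc',
            Int.add_mul_emod_self_left]
          exact Int.emod_eq_of_lt (by omega) (by omega)
        omega
    refine ⟨deg r, ⟨mem_dvds (hGN ▸ deg_dvd r), ⟨⟨⟨⟨deg_lt hGN r, one_lt_deg hG h1⟩, ?_⟩, ?_⟩, ?_⟩⟩, ?_⟩
    · exact Nat.mod_eq_zero_of_dvd (he ▸ hn ▸ hc.dvd)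
    · by_cases hK2 : K % 2 = 0
      · exact Or.inr (two_mul_le_deg hGN hG hp hc h1 (hK ▸ hK2))
      · exact Or.inl (by omega)
    · rcases hmod with ⟨-, h2⟩ | ⟨-, h2⟩
      · exact Or.inl h2
      · exact Or.inr h2
    · rcases hmod with ⟨h1', h2⟩ | ⟨h1', h2⟩ <;> rw [h1', h2]
      · simp
      · rw [if_neg (by omega)]
  have hone : ∀ r ∈ cs, B.mult r = 1 := fun r hr => (hcs r hr).2
  have hitem : ∀ r ∈ cs, (((B.co r, deg r) : ℤ × ℕ).1, 1, ((B.co r, deg r) : ℤ × ℕ).2) = B.item r :=
    fun r hr => by simp [Block.item, hone r hr]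
  have hrel := B.relation_deg
  have hsq := B.sum_sq_le hGN
  have key : blocks p n e' K pred = true := by
    unfold blocks
    rcases hshape with ⟨hk, hperm, hlen⟩ | ⟨hk, y, hperm, hlen, hy, hmy, hdy, hydvd⟩
    · rw [he] at hk hlen
      rw [if_pos hk]
      rw [(hperm.map _).sum_eq] at hrel hsq
      rw [List.map_congr_left (g := fun r => deg r * deg r) fun r hr => by rw [hone r hr, one_mul]] at hsq
      refine choose_sound _ (fun r => (B.co r, deg r)) _ cs _ _ _ _
        (fun r hr => hmem r hr (hperm.symm.subset hr)) hlen (by dsimp only; omega) fun l' hl' => ?_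
      simp only [finish, List.append_nil, decide_eq_true_eq]
      rw [if_pos hk]
      simp only [Bool.and_eq_true, decide_eq_true_eq]
      refine ⟨hrel, ?_⟩
      rw [List.map_congr_left fun r hr => hitem r (hl'.subset hr)]
      exact hcon l' (hl'.trans hperm.symm)
    · rw [he] at hk hlen hmy hdy hydvd
      rw [hn] at hydvd
      rw [if_neg hk]
      have hy1 := one_lt_deg hG (B.ne_one (B.rep_mem y (hperm.symm.subset (by simp))))
      rw [(hperm.map _).sum_eq, List.map_append, List.sum_append, List.map_singleton,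
        List.sum_singleton] at hrel hsq
      rw [List.map_congr_left (g := fun r => deg r * deg r) fun r hr => by rw [hone r hr, one_mul],
        hmy] at hsq
      refine choose_sound _ (fun r => (B.co r, deg r)) _ cs _ _ _ _
        (fun r hr => hmem r hr (hperm.symm.subset (List.mem_append_left _ hr))) hlen
        (by dsimp only; omega) fun l' hl' => ?_
      set T := 1 + (cs.map fun r => B.co r * (deg r : ℤ)).sum with hTdef
      have hT : T = -(B.co y * (deg y : ℤ)) := by linarith
      have hTabs : T.natAbs = deg y := by rcases hy with r | r <;> rw [r] at hT <;> omega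
      have hsign : (if 0 < T then (-1 : ℤ) else 1) = B.co y := by
        rcases hy with r | r <;> rw [r] at hT ⊢
        · rw [if_neg (by omega)]
        · rw [if_pos (by omega)]
      simp only [finish, List.append_nil]
      rw [if_neg (by simpa using hk)]
      simp only [Bool.and_eq_true, decide_eq_true_eq]
      rw [hTabs, hsign]
      refine ⟨⟨⟨⟨⟨hy1, Nat.mod_eq_zero_of_dvd hydvd⟩, ?_⟩, Int.emod_eq_zero_of_dvd hdy⟩, by omega⟩, ?_⟩
      · exact Nat.mod_eq_zero_of_dvd (hGN ▸ deg_dvd y)
      · rw [List.map_congr_left fun r hr => hitem r (hl'.subset hr),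
          show ((B.co y, (p - 1) / e', deg y) : Item) = B.item y by simp [Block.item, hmy]]
        have hins : insUnit (B.item y) (l'.map B.item) =
            ((l'.filter fun r => decide ((B.item y).2.2 < (B.item r).2.2)) ++ y ::
              l'.filter fun r => !decide ((B.item y).2.2 < (B.item r).2.2)).map B.item := by
          simp only [insUnit, List.map_append, List.map_cons, List.filter_map, Function.comp_def]
        rw [hins]
        refine hcon _ ((List.perm_middle.trans ((List.filter_append_perm _ l').cons y)).trans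
          (((List.Perm.cons y hl').trans (List.perm_append_singleton y cs).symm).trans hperm.symm))
  rw [key] at h
  exact Bool.false_ne_true h.symm

end CfsgLib.MTwentyTwoUnique
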