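import Cfsg.Agent.MTwentyTwoUnique.Cross
import Cfsg.Agent.MTwentyTwoUnique.CheckBlocks
import Cfsg.Agent.MTwentyTwoUnique.SearchResult

/-!
The principal blocks for 11, 7 and 5 of a simple group of order 443520.
-/

set_option autoImplicit false
set_option linter.style.haveILetI false
set_option linter.unusedSectionVars false

namespace CfsgLib.MTwentyTwoUnique

open Cfsg CfsgLib.Characters CfsgLib.DefectOne CfsgLib.BrauerOrderP
open CfsgLib.Small.Check (Item)
open CfsgLib.MElevenUnique (Cg mem_Cg)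

universe u

variable {G : Type u} [Group G] [Fintype G] [IsSimpleGroup G] (hGN : Nat.card G = 443520)
include hGN

/-- An involution in the centre of a Sylow 2-subgroup. -/
theorem exists_central_involution : ∃ t : G, orderOf t = 2 ∧ Nat.card (Cg t) % 128 = 0 := by
  classical
  haveI := Fact.mk Nat.prime_two
  obtain ⟨S⟩ : Nonempty (Sylow 2 G) := inferInstance
  have hS : Nat.card (S : Subgroup G) = 128 := by
    rw [Sylow.card_eq_multiplicity, hGN,
      show 443520 = 2 ^ 7 * 3465 by norm_num,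
      Nat.factorization_mul (by norm_num) (by norm_num), Finsupp.add_apply,
      Nat.Prime.factorization_pow Nat.prime_two, Finsupp.single_eq_same,
      Nat.factorization_eq_zero_of_not_dvd (by norm_num : ¬ 2 ∣ 3465)]
    norm_num
  haveI : Nontrivial (S : Subgroup G) := Finite.one_lt_card_iff_nontrivial.1 (by rw [hS]; norm_num)
  haveI := (IsPGroup.of_card (n := 7) (by rw [hS]; norm_num) :
    IsPGroup 2 (S : Subgroup G)).center_nontrivial
  obtain ⟨k, hk0, hk⟩ := (IsPGroup.of_card (n := 7) (by rw [hS]; norm_num) :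
    IsPGroup 2 (S : Subgroup G)).to_subgroup (Subgroup.center (S : Subgroup G)) |>.nontrivial_iff_card.1
      inferInstance
  obtain ⟨z, hz⟩ := exists_prime_orderOf_dvd_card' (G := Subgroup.center (S : Subgroup G)) 2
    (by rw [hk]; exact dvd_pow_self 2 (by omega))
  refine ⟨((z : (S : Subgroup G)) : G), by rw [Subgroup.orderOf_coe, Subgroup.orderOf_coe]; exact hz, ?_⟩
  refine Nat.mod_eq_zero_of_dvd (hS ▸ Subgroup.card_dvd_of_le (fun w hw => mem_Cg.2 ?_))
  exact congrArg Subtype.val (Subgroup.mem_center_iff.1 z.2 ⟨w, hw⟩)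

/-- The block for 11 is listed. -/
theorem exists_eleven [Fact (Nat.Prime 11)] {L : Local 11 G} (B : Block L) :
    ∃ l : List (IrrCharacter G), l.Perm B.reps ∧ l.map B.item ∈ lits11 := by
  have hG := not_comm hGN
  obtain ⟨hn, he, hK⟩ := eleven_local hGN L
  obtain ⟨l, hl, hbad⟩ := B.exists_reorder hGN hG (by norm_num) hn he hK blocks_eleven_ok
  refine ⟨l, hl, ?_⟩
  obtain ⟨t, ht, ht128⟩ := exists_central_involution hGN
  simp only [bad11, Bool.and_eq_false_imp, Bool.not_eq_true', decide_eq_false_iff_not] at hbad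
  by_contra hnot
  have h2 := List.any_eq_false.1 (hbad hnot) _ (Cg_mem_invOrders hGN ht)
  simp only [Bool.and_eq_true, decide_eq_true_eq, not_and, Bool.not_eq_true', ht128] at h2
  have := vals_mem hGN B ht hl
  rw [show vals 443520 (Nat.card (Cg t)) (l.map B.item) = [] by simpa using h2] at this
  exact List.not_mem_nil this

/-- The blocks for 5 and 7 are listed. -/
theorem exists_small [Fact (Nat.Prime 11)] {L₁₁ : Local 11 G} (B₁₁ : Block L₁₁) {l₁₁ : List (IrrCharacter G)}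
    (h₁₁ : l₁₁.Perm B₁₁.reps) (hl₁₁ : l₁₁.map B₁₁.item ∈ lits11) {p : ℕ} [Fact p.Prime]
    (hp : p = 5 ∨ p = 7) {lits : List Opt} {L : Local p G} (B : Block L)
    (h : ((sylowCands p).all fun n => (Nat.divisors (p - 1)).toList.all fun e =>
      decide ((443520 / n / p) % e ≠ 0) ||
        !blocks p n e (443520 / n / p / e) (badSmall p lits n e (443520 / n / p / e))) = true) :
    ∃ l : List (IrrCharacter G), l.Perm B.reps ∧
      (Nat.card (Sylow p G), e L, Nat.card L.K, l.map B.item) ∈ lits := by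
  classical
  have hG := not_comm hGN
  have hp2 : p ≠ 2 := by omega
  have hpp : p.Prime := Fact.out
  set n := Nat.card (Sylow p G) with hn
  have hmul : n * Nat.card L.N = 443520 := hGN ▸ Small.card_sylow_mul_card_normalizer L.P
  have hN := card_N L
  have hn0 : 0 < n := Nat.card_pos
  have hN' : 443520 / n = Nat.card L.N := Nat.div_eq_of_eq_mul_left hn0 (by rw [← hmul, mul_comm])
  have hpG : p ∣ Nat.card G := by
    rw [hGN]; rcases hp with rfl | rfl <;> norm_num
  have hcand : n ∈ sylowCands p := by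
    simp only [sylowCands, List.mem_filter, Bool.and_eq_true, decide_eq_true_eq, hN']
    refine ⟨mem_dvds ⟨_, hmul.symm⟩, ⟨⟨Small.card_sylow_mod p, Small.card_sylow_ne_one hG hpG⟩, ?_⟩, ?_⟩
    · exact Nat.mod_eq_zero_of_dvd ⟨e L * Nat.card L.K, by rw [← hN]; ring⟩
    · exact fun h => not_eleven_dvd_N hGN hp L (Nat.dvd_of_mod_eq_zero h)
  have hdiv : 443520 / n / p = e L * Nat.card L.K := by
    rw [hN', ← hN, show e L * (p * Nat.card L.K) = p * (e L * Nat.card L.K) by ring,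
      Nat.mul_div_cancel_left _ hpp.pos]
  have hcase := List.all_eq_true.1 (List.all_eq_true.1 h n hcand) (e L)
    (Finset.mem_toList.2 (Nat.mem_divisors.2 ⟨e_dvd L, by omega⟩))
  rw [hdiv, Nat.mul_div_cancel_left _ (e_pos L)] at hcase
  simp only [Nat.mul_mod_right, ne_eq, not_true_eq_false, decide_false, Bool.false_or,
    Bool.not_eq_true'] at hcase
  obtain ⟨l, hl, hbad⟩ := B.exists_reorder hGN hG hp2 hn.symm rfl rfl hcase
  refine ⟨l, hl, ?_⟩
  simp only [badSmall, Bool.and_eq_false_imp, Bool.not_eq_true', decide_eq_false_iff_not] at hbad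
  by_contra hnot
  exact List.any_eq_false.1 (hbad hnot) _ hl₁₁
    (contain_true hGN B₁₁ B (n := n) (e' := e L) rfl h₁₁ hl)

/-- The three blocks and their local data. -/
structure Data [Fact (Nat.Prime 11)] [Fact (Nat.Prime 7)] [Fact (Nat.Prime 5)] (G : Type u) [Group G]
    [Fintype G] where
  L₁₁ : Local 11 G
  B₁₁ : Block L₁₁
  l₁₁ : List (IrrCharacter G)
  perm₁₁ : l₁₁.Perm B₁₁.reps
  items₁₁ : l₁₁.map B₁₁.item = theT
  L₇ : Local 7 G
  B₇ : Block L₇
  l₇ : List (IrrCharacter G)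
  perm₇ : l₇.Perm B₇.reps
  items₇ : (Nat.card (Sylow 7 G), e L₇, Nat.card L₇.K, l₇.map B₇.item) = theA
  L₅ : Local 5 G
  B₅ : Block L₅
  l₅ : List (IrrCharacter G)
  perm₅ : l₅.Perm B₅.reps
  items₅ : (Nat.card (Sylow 5 G), e L₅, Nat.card L₅.K, l₅.map B₅.item) = theB

/-- **The blocks are forced.** -/
theorem exists_data [Fact (Nat.Prime 11)] [Fact (Nat.Prime 7)] [Fact (Nat.Prime 5)] :
    Nonempty (Data G) := by
  classical
  obtain ⟨L₁₁, -⟩ := exists_local (p := 11) (G := G) (hGN ▸ (by norm_num)) (hGN ▸ (by norm_num)) default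
  obtain ⟨L₇, -⟩ := exists_local (p := 7) (G := G) (hGN ▸ (by norm_num)) (hGN ▸ (by norm_num)) default
  obtain ⟨L₅, -⟩ := exists_local (p := 5) (G := G) (hGN ▸ (by norm_num)) (hGN ▸ (by norm_num)) default
  obtain ⟨B₁₁⟩ := exists_block L₁₁ (by norm_num)
  obtain ⟨B₇⟩ := exists_block L₇ (by norm_num)
  obtain ⟨B₅⟩ := exists_block L₅ (by norm_num)
  obtain ⟨l₁₁, h₁₁, hl₁₁⟩ := exists_eleven hGN B₁₁
  obtain ⟨l₇, h₇, hl₇⟩ := exists_small hGN B₁₁ h₁₁ hl₁₁ (Or.inr rfl) (lits := lits7) B₇ (by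
    simp only [Finset.mem_toList, List.all_eq_true] at *
    intro n hn e he
    refine List.all_eq_true.1 (List.all_eq_true.1 blocks_seven_ok n hn) e ?_
    revert he; revert e; decide)
  obtain ⟨l₅, h₅, hl₅⟩ := exists_small hGN B₁₁ h₁₁ hl₁₁ (Or.inl rfl) (lits := lits5) B₅ (by
    simp only [Finset.mem_toList, List.all_eq_true] at *
    intro n hn e he
    refine List.all_eq_true.1 (List.all_eq_true.1 blocks_five_ok n hn) e ?_
    revert he; revert e; decide)
  obtain ⟨i, hi, hit⟩ := List.mem_iff_getElem.1 hl₁₁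
  have hgetD : lits11.getD i [] = l₁₁.map B₁₁.item := by
    rw [List.getD_eq_getElem _ _ hi]; exact hit
  obtain ⟨W, hW, hsurv⟩ := exists_table i (lits11_length ▸ hi)
  rw [hgetD] at hW hsurv
  have hmem : (((Nat.card (Sylow 7 G), e L₇, Nat.card L₇.K, l₇.map B₇.item),
      (Nat.card (Sylow 5 G), e L₅, Nat.card L₅.K, l₅.map B₅.item)) : Opt × Opt) ∈
      survivors lits7 lits5 (l₁₁.map B₁₁.item) W := by
    simp only [survivors, List.mem_flatMap, List.mem_map, List.mem_filter]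
    refine ⟨_, ⟨hl₇, alone_true hGN B₁₁ B₇ (by norm_num) rfl rfl rfl h₁₁ h₇ hW⟩, _,
      ⟨⟨hl₅, alone_true hGN B₁₁ B₅ (by norm_num) rfl rfl rfl h₁₁ h₅ hW⟩, ?_⟩, rfl⟩
    simp only [pairOK, Bool.and_eq_true, Bool.or_eq_true, decide_eq_true_eq, List.any_eq_true]
    refine ⟨⟨⟨crossOK_true hGN B₁₁ B₇ B₅ rfl rfl h₁₁ h₇ h₅, ?_⟩, ?_⟩, ?_⟩
    · obtain ⟨t, ht, h128⟩ := exists_central_involution hGN
      exact ⟨_, Cg_mem_invOrders hGN ht, h128,
        shared_true hGN B₁₁ B₇ B₅ rfl rfl rfl rfl rfl rfl h₁₁ h₇ h₅ hW ht⟩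
    · rcases Nat.mod_two_eq_zero_or_one (Nat.card L₇.K) with h | h
      · obtain ⟨z, hz, hd⟩ := exists_involution_dvd L₇ h
        exact Or.inr ⟨_, Cg_mem_invOrders hGN hz, Nat.mod_eq_zero_of_dvd hd,
          shared_true hGN B₁₁ B₇ B₅ rfl rfl rfl rfl rfl rfl h₁₁ h₇ h₅ hW hz⟩
      · exact Or.inl h
    · rcases Nat.mod_two_eq_zero_or_one (Nat.card L₅.K) with h | h
      · obtain ⟨z, hz, hd⟩ := exists_involution_dvd L₅ h
        exact Or.inr ⟨_, Cg_mem_invOrders hGN hz, Nat.mod_eq_zero_of_dvd hd,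
          shared_true hGN B₁₁ B₇ B₅ rfl rfl rfl rfl rfl rfl h₁₁ h₇ h₅ hW hz⟩
      · exact Or.inl h
  obtain ⟨rfl, ha, hb⟩ := hsurv _ _ hmem
  exact ⟨⟨L₁₁, B₁₁, l₁₁, h₁₁, hgetD.symm, L₇, B₇, l₇, h₇, ha, L₅, B₅, l₅, h₅, hb⟩⟩

end CfsgLib.MTwentyTwoUnique
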